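import Mathlib
import Groth.Prelude.Def_GSzMilK

set_option autoImplicit false
universe u w

namespace Groth.Agent.Helper5

open MilK

variable {F : Type u} [Field F]

/-! ### Multilinearity of symbols -/

theorem symbol_update_mul {n : ℕ} (x : Fin n → Fˣ) (i : Fin n) (a b : Fˣ) :
    symbol (Function.update x i (a * b)) =
      symbol (Function.update x i a) + symbol (Function.update x i b) := by
  classical
  unfold symbol
  have h : ∀ c : Fˣ, (fun j => Additive.ofMul (Function.update x i c j)) =
      Function.update (fun j => Additive.ofMul (x j)) i (Additive.ofMul c) := by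
    intro c
    ext j
    by_cases hj : j = i
    · subst hj; simp
    · simp [Function.update_of_ne hj]
  rw [h, h, h, ofMul_mul, MultilinearMap.map_update_add, map_add]

/-- Hom extensionality: additive maps out of `K F n` agreeing on symbols are equal. -/
theorem K_hom_ext {n : ℕ} {M : Type w} [AddCommGroup M] (f g : K F n →+ M)
    (h : ∀ x : Fin n → Fˣ, f (symbol x) = g (symbol x)) : f = g := by
  have h1 : (f.comp (mk F n)).toIntLinearMap = (g.comp (mk F n)).toIntLinearMap := by
    apply PiTensorProduct.ext
    ext x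
    simp only [LinearMap.compMultilinearMap_apply, AddMonoidHom.coe_toIntLinearMap,
      AddMonoidHom.comp_apply]
    exact h (fun i => (x i).toMul)
  ext y
  obtain ⟨t, rfl⟩ := mk_surjective F n y
  have := congrArg (fun φ => φ t) h1
  simpa using this

theorem K_eq_zero_of_symbols {n : ℕ} (h : ∀ x : Fin n → Fˣ, (symbol x : K F n) = 0) (y : K F n) :
    y = 0 := by
  have := K_hom_ext (AddMonoidHom.id (K F n)) 0 (by intro x; simpa using h x)
  simpa using congrArg (fun φ => φ y) this

/-! ### Abstract Steinberg symbols -/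

/-- A bimultiplicative map on units killing pairs summing to one. -/
structure IsStSymb {M : Type w} [AddCommGroup M] (B : Fˣ → Fˣ → M) : Prop where
  mul_left : ∀ x x' y, B (x * x') y = B x y + B x' y
  mul_right : ∀ x y y', B x (y * y') = B x y + B x y'
  rel : ∀ x y : Fˣ, (x : F) + y = 1 → B x y = 0

namespace IsStSymb

variable {M : Type w} [AddCommGroup M] {B : Fˣ → Fˣ → M} (hB : IsStSymb B)
include hB

theorem one_left (y : Fˣ) : B 1 y = 0 := by
  have := hB.mul_left 1 1 y
  rw [mul_one] at this
  exact left_eq_add.mp this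

theorem one_right (x : Fˣ) : B x 1 = 0 := by
  have := hB.mul_right x 1 1
  rw [mul_one] at this
  exact left_eq_add.mp this

theorem inv_left (x y : Fˣ) : B x⁻¹ y = - B x y := by
  have := hB.mul_left x x⁻¹ y
  rw [mul_inv_cancel, hB.one_left] at this
  exact eq_neg_of_add_eq_zero_right this.symm

theorem inv_right (x y : Fˣ) : B x y⁻¹ = - B x y := by
  have := hB.mul_right x y y⁻¹
  rw [mul_inv_cancel, hB.one_right] at this
  exact eq_neg_of_add_eq_zero_right this.symm

theorem neg_self (x : Fˣ) : B x (-x) = 0 := by
  by_cases hx : x = 1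
  · subst hx; exact hB.one_left _
  have hx' : (x : F) ≠ 1 := fun h => hx (Units.ext h)
  have hx0 : (x : F) ≠ 0 := x.ne_zero
  have h1 : (1 - (x : F)) ≠ 0 := sub_ne_zero.mpr (Ne.symm hx')
  have h2 : (1 - (x : F)⁻¹) ≠ 0 := by
    rw [sub_ne_zero]
    intro h
    apply hx'
    have := congrArg (fun z => z * (x : F)) h
    simp only [one_mul, inv_mul_cancel₀ hx0] at this
    exact this
  set u : Fˣ := Units.mk0 _ h1
  set v : Fˣ := Units.mk0 _ h2
  have e : -x = u * v⁻¹ := by
    apply Units.ext
    simp only [Units.val_neg, Units.val_mul, Units.val_inv_eq_inv_val, u, v, Units.val_mk0]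
    field_simp
    ring
  rw [e, hB.mul_right, hB.inv_right]
  have r1 : B x u = 0 := hB.rel x u (by simp [u])
  have r2 : B x⁻¹ v = 0 := hB.rel x⁻¹ v (by simp [v])
  rw [hB.inv_left, neg_eq_zero] at r2
  rw [r1, r2, neg_zero, add_zero]

theorem self_eq (x : Fˣ) : B x x = B x (-1) := by
  have e : x = (-1) * (-x) := by simp
  have h := hB.mul_right x (-1) (-x)
  rw [← e, hB.neg_self, add_zero] at h
  exact h

theorem anticomm (x y : Fˣ) : B x y + B y x = 0 := by
  have h := hB.neg_self (x * y)
  have e1 : -(x * y) = (-x) * y := by simp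
  have e2 : -(x * y) = x * (-y) := by simp
  rw [hB.mul_left] at h
  conv at h => lhs; lhs; rw [e1]
  conv at h => lhs; rhs; rw [e2]
  rw [hB.mul_right, hB.mul_right, hB.neg_self, hB.neg_self, zero_add, add_zero] at h
  exact h

theorem swap_eq_neg (x y : Fˣ) : B y x = - B x y :=
  eq_neg_of_add_eq_zero_right (hB.anticomm x y)

theorem two_smul_self (x : Fˣ) : (2 : ℤ) • B x x = 0 := by
  rw [hB.self_eq, two_smul, ← hB.mul_right]
  have : (-1 : Fˣ) * (-1) = 1 := by simp
  rw [this, hB.one_right]

theorem pow_left (x y : Fˣ) (i : ℕ) : B (x ^ i) y = (i : ℤ) • B x y := by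
  induction i with
  | zero => simp [hB.one_left]
  | succ i ih => rw [pow_succ, hB.mul_left, ih]; push_cast; rw [add_smul, one_smul]

theorem pow_right (x y : Fˣ) (i : ℕ) : B x (y ^ i) = (i : ℤ) • B x y := by
  induction i with
  | zero => simp [hB.one_right]
  | succ i ih => rw [pow_succ, hB.mul_right, ih]; push_cast; rw [add_smul, one_smul]

theorem zpow_left (x y : Fˣ) (i : ℤ) : B (x ^ i) y = i • B x y := by
  induction i using Int.induction_on with
  | zero => simp [hB.one_left]
  | succ i ih =>
    rw [zpow_add_one, hB.mul_left, ih, add_smul, one_smul]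
  | pred i ih =>
    rw [zpow_sub_one, hB.mul_left, ih, hB.inv_left, sub_smul, one_smul, sub_eq_add_neg]

theorem zpow_right (x y : Fˣ) (i : ℤ) : B x (y ^ i) = i • B x y := by
  induction i using Int.induction_on with
  | zero => simp [hB.one_right]
  | succ i ih =>
    rw [zpow_add_one, hB.mul_right, ih, add_smul, one_smul]
  | pred i ih =>
    rw [zpow_sub_one, hB.mul_right, ih, hB.inv_right, sub_smul, one_smul, sub_eq_add_neg]

theorem comp {M' : Type*} [AddCommGroup M'] (d : M →+ M') : IsStSymb (fun x y => d (B x y)) where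
  mul_left x x' y := by simp only [hB.mul_left, map_add]
  mul_right x y y' := by simp only [hB.mul_right, map_add]
  rel x y h := by simp only [hB.rel x y h, map_zero]

end IsStSymb

/-! ### The symbol at two positions is a Steinberg symbol -/

theorem isStSymb_update {n : ℕ} (z : Fin n → Fˣ) (i j : Fin n) (hij : i ≠ j) :
    IsStSymb (fun x y : Fˣ => (symbol (Function.update (Function.update z i x) j y) : K F n)) := by
  classical
  refine ⟨?_, ?_, ?_⟩
  · intro x x' y
    show symbol (Function.update (Function.update z i (x * x')) j y) =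
      symbol (Function.update (Function.update z i x) j y) +
        symbol (Function.update (Function.update z i x') j y)
    rw [Function.update_comm hij (x * x') y z, Function.update_comm hij x y z,
      Function.update_comm hij x' y z, symbol_update_mul]
  · intro x y y'
    exact symbol_update_mul _ _ _ _
  · intro x y hxy
    apply symbol_eq_zero_of_isSteinberg
    rcases lt_or_gt_of_ne hij with h | h
    · refine ⟨i, j, h, ?_⟩
      simp [Function.update_of_ne hij, hxy]
    · refine ⟨j, i, h, ?_⟩
      simp [Function.update_of_ne hij, add_comm, hxy]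

theorem symbol_pow_const {n : ℕ} (g : Fˣ) (e : Fin n → ℕ) :
    (symbol (fun i => g ^ e i) : K F n) = (∏ i, (e i : ℤ)) • symbol (fun _ => g) := by
  unfold symbol
  have h : (fun i => Additive.ofMul (g ^ e i)) = fun i => (e i : ℤ) • Additive.ofMul g := by
    ext i
    rw [ofMul_pow, natCast_zsmul]
  rw [h, MultilinearMap.map_smul_univ, map_zsmul]

/-- In a finite field, the symbol `{g, g, …, g}` of length at least two vanishes. -/
theorem symbol_const_eq_zero_of_finite [Finite F] (n : ℕ) (g : Fˣ)
    (hg : ∀ y : Fˣ, y ∈ Submonoid.powers g) :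
    (symbol (fun _ : Fin (n + 2) => g) : K F (n + 2)) = 0 := by
  classical
  have h01 : (0 : Fin (n + 2)) ≠ 1 := by
    intro h
    have := congrArg Fin.val h
    simp at this
  have hB := isStSymb_update (F := F) (fun _ : Fin (n + 2) => g) 0 1 h01
  set B : Fˣ → Fˣ → K F (n + 2) := fun x y =>
    symbol (Function.update (Function.update (fun _ : Fin (n + 2) => g) 0 x) 1 y) with hBdef
  have hgg : B g g = symbol (fun _ : Fin (n + 2) => g) := by
    simp only [hBdef]
    congr 1
    ext i
    simp [Function.update_apply]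
  rw [← hgg]
  by_cases hchar : (-1 : F) = 1
  · -- characteristic two
    have : (-1 : Fˣ) = 1 := Units.ext hchar
    rw [hB.self_eq, this, hB.one_right]
  · -- odd characteristic
    have hF2 : ringChar F ≠ 2 := by
      intro h2
      haveI : CharP F 2 := ringChar.of_eq h2
      exact hchar (CharTwo.neg_eq 1)
    haveI : Fintype F := Fintype.ofFinite F
    obtain ⟨ν, hν⟩ := FiniteField.exists_nonsquare hF2
    have hcard : Fintype.card F % 2 = 1 := FiniteField.odd_card_of_char_ne_two hF2
    obtain ⟨s, t, hst⟩ := FiniteField.exists_root_sum_quadratic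
      (f := (Polynomial.X ^ 2 : Polynomial F)) (g := (Polynomial.X ^ 2 - Polynomial.C ν : Polynomial F))
      (Polynomial.degree_X_pow 2) (Polynomial.degree_X_pow_sub_C (by decide) _) hcard
    simp only [Polynomial.eval_pow, Polynomial.eval_X, Polynomial.eval_sub, Polynomial.eval_C] at hst
    have hν0 : ν ≠ 0 := by
      rintro rfl
      exact hν ⟨0, by simp⟩
    have hs0 : s ≠ 0 := by
      rintro rfl
      apply hν
      refine ⟨t, ?_⟩
      have : ν = t ^ 2 := by linear_combination -hst
      rw [this, pow_two]
    have ht0 : t ≠ 0 := by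
      rintro rfl
      apply hν
      refine ⟨s, ?_⟩
      have : ν = s ^ 2 := by linear_combination -hst
      rw [this, pow_two]
    have ha0 : s ^ 2 / ν ≠ 0 := div_ne_zero (pow_ne_zero 2 hs0) hν0
    have hb0 : t ^ 2 / ν ≠ 0 := div_ne_zero (pow_ne_zero 2 ht0) hν0
    set a : Fˣ := Units.mk0 _ ha0
    set b : Fˣ := Units.mk0 _ hb0
    have hab : (a : F) + b = 1 := by
      simp only [a, b, Units.val_mk0]
      field_simp
      linear_combination hst
    have hBab : B a b = 0 := hB.rel a b hab
    obtain ⟨i, hi⟩ := hg a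
    obtain ⟨j, hj⟩ := hg b
    -- exponents are odd
    have hodd : ∀ (c : F) (hc0 : c ≠ 0) (k : ℕ), g ^ k = Units.mk0 (c ^ 2 / ν) (div_ne_zero (pow_ne_zero 2 hc0) hν0) → Odd k := by
      intro c hc0 k hk
      by_contra hke
      rw [Nat.not_odd_iff_even] at hke
      obtain ⟨l, rfl⟩ := hke
      apply hν
      have h1 : ((g ^ l : Fˣ) : F) * ((g ^ l : Fˣ) : F) = c ^ 2 / ν := by
        have := congrArg (fun u : Fˣ => (u : F)) hk
        simp only [Units.val_mk0] at this
        rw [← this, pow_add]
        simp
      have hgl0 : ((g ^ l : Fˣ) : F) ≠ 0 := Units.ne_zero _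
      refine ⟨c / ((g ^ l : Fˣ) : F), ?_⟩
      field_simp
      field_simp at h1
      linear_combination h1
    have hio : Odd i := hodd s hs0 i hi
    have hjo : Odd j := hodd t ht0 j hj
    have h2 : (2 : ℤ) • B g g = 0 := hB.two_smul_self g
    have h3 : ((i : ℤ) * (j : ℤ)) • B g g = 0 := by
      have hi' : g ^ i = a := hi
      have hj' : g ^ j = b := hj
      rw [mul_smul, ← hB.pow_right, ← hB.pow_left, hi', hj', hBab]
    have hijo : Odd ((i : ℤ) * (j : ℤ)) := by
      apply Odd.mul <;> exact_mod_cast ‹_›
    obtain ⟨m, hm⟩ := hijo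
    rw [hm, add_smul, mul_comm, mul_smul, h2, smul_zero, zero_add, one_smul] at h3
    exact h3

/-- The symbol in degree one as an additive map. -/
noncomputable def sym1 (F : Type u) [Field F] : Additive Fˣ →+ K F 1 :=
  AddMonoidHom.mk' (fun a => symbol ![a.toMul]) (by
    intro a b
    have h := symbol_update_mul (F := F) (![1] : Fin 1 → Fˣ) 0 a.toMul b.toMul
    have hu : ∀ c : Fˣ, Function.update (![1] : Fin 1 → Fˣ) 0 c = ![c] := by
      intro c
      ext i
      fin_cases i
      simp
    rw [hu, hu, hu] at h
    exact h)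

@[simp]
theorem sym1_apply (a : Additive Fˣ) : sym1 F a = symbol ![a.toMul] := rfl

theorem isStSymb_pair : IsStSymb (fun x y : Fˣ => (symbol ![x, y] : K F 2)) := by
  have hB := isStSymb_update (F := F) (![1, 1] : Fin 2 → Fˣ) 0 1 (by decide)
  have hupd : ∀ a b : Fˣ,
      Function.update (Function.update (![1, 1] : Fin 2 → Fˣ) 0 a) 1 b = ![a, b] := by
    intro a b
    ext i
    fin_cases i <;> simp
  simpa only [hupd] using hB

end Groth.Agent.Helper5
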