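import Mathlib
import Groth.Agent.Lib.Helper5.MilK

set_option autoImplicit false
universe u v

namespace Groth.Agent.Helper5

open MilK

section General

variable {F : Type u} [Field F]

/-- Multiplying the `k`-th entry by a power of `p` does not change the symbol when the `0`-th
entry is `-p`. -/
theorem symbol_update_mul_zpow_of_zero_eq_neg {n : ℕ} (z : Fin (n + 1) → Fˣ) (p : Fˣ)
    (h0 : z 0 = -p) (k : Fin (n + 1)) (hk : k ≠ 0) (e : ℤ) (c : Fˣ) :
    (symbol (Function.update z k (p ^ e * c)) : K F (n + 1)) = symbol (Function.update z k c) := by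
  classical
  rw [symbol_update_mul]
  have hB := isStSymb_update (F := F) z 0 k (Ne.symm hk)
  have h1 : Function.update z k (p ^ e) = Function.update (Function.update z 0 (-p)) k (p ^ e) := by
    rw [← h0, Function.update_eq_self]
  rw [h1]
  have h2 : (symbol (Function.update (Function.update z 0 (-p)) k (p ^ e)) : K F (n + 1)) = 0 := by
    have h5 := hB.zpow_right (-p) p e
    have h3 := hB.swap_eq_neg p (-p)
    have h4 := hB.neg_self p
    rw [h4, neg_zero] at h3
    rw [h3, smul_zero] at h5
    exact h5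
  rw [h2, zero_add]

theorem symbol_cons_mul {n : ℕ} (a b : Fˣ) (c : Fin n → Fˣ) :
    (symbol (Fin.cons (a * b) c) : K F (n + 1)) = symbol (Fin.cons a c) + symbol (Fin.cons b c) := by
  classical
  have h : ∀ t : Fˣ, (Fin.cons t c : Fin (n + 1) → Fˣ) =
      Function.update (Fin.cons 1 c : Fin (n + 1) → Fˣ) 0 t := by
    intro t
    rw [Fin.update_cons_zero]
  rw [h (a * b), h a, h b, symbol_update_mul]

theorem symbol_cons_mul_zpow {n : ℕ} (p : Fˣ) (e : Fin n → ℤ) (c : Fin n → Fˣ) :
    (symbol (Fin.cons (-p) (fun i => p ^ e i * c i)) : K F (n + 1)) = symbol (Fin.cons (-p) c) := by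
  classical
  have key : ∀ s : Finset (Fin n),
      (symbol (Fin.cons (-p) (fun i => if i ∈ s then p ^ e i * c i else c i)) : K F (n + 1)) =
        symbol (Fin.cons (-p) c) := by
    intro s
    induction s using Finset.induction_on with
    | empty => simp
    | insert k s hk ih =>
      rw [← ih]
      set z : Fin (n + 1) → Fˣ := Fin.cons (-p) (fun i => if i ∈ s then p ^ e i * c i else c i)
        with hz
      have h1 : (Fin.cons (-p) (fun i => if i ∈ insert k s then p ^ e i * c i else c i) :
          Fin (n + 1) → Fˣ) = Function.update z k.succ (p ^ e k * c k) := by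
        rw [hz, ← Fin.cons_update]
        congr 1
        ext i
        by_cases hik : i = k
        · subst hik; simp
        · simp [Finset.mem_insert, hik]
      have h2 : z = Function.update z k.succ (c k) := by
        rw [hz, ← Fin.cons_update]
        congr 1
        ext i
        by_cases hik : i = k
        · subst hik; simp [hk]
        · simp [Function.update_of_ne hik]
      rw [h1]
      conv_rhs => rw [h2]
      exact symbol_update_mul_zpow_of_zero_eq_neg z p (by simp [hz]) k.succ (Fin.succ_ne_zero k) _ _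
  simpa using key Finset.univ

end General

section DVR

variable (A : Type u) [CommRing A] [IsDomain A] [IsDiscreteValuationRing A]
  (L : Type v) [Field L] [Algebra A L] [IsFractionRing A L]

theorem exists_zpow_mul_unit (ϖ : A) (hϖ : Irreducible ϖ) (l : Lˣ) :
    ∃ (e : ℤ) (w : Aˣ), l = unitFrac A L ϖ hϖ.ne_zero ^ e * unitToFrac A L w := by
  obtain ⟨a, b, hb, hab⟩ := IsFractionRing.div_surjective (A := A) (l : L)
  have hb0 : b ≠ 0 := nonZeroDivisors.ne_zero hb
  have ha0 : a ≠ 0 := by
    rintro rfl
    simp only [map_zero, zero_div] at hab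
    exact l.ne_zero hab.symm
  obtain ⟨k, w₁, hw₁⟩ := IsDiscreteValuationRing.eq_unit_mul_pow_irreducible ha0 hϖ
  obtain ⟨m, w₂, hw₂⟩ := IsDiscreteValuationRing.eq_unit_mul_pow_irreducible hb0 hϖ
  refine ⟨(k : ℤ) - m, w₁ * w₂⁻¹, ?_⟩
  apply Units.ext
  have hP0 : algebraMap A L ϖ ≠ 0 :=
    mt (IsFractionRing.to_map_eq_zero_iff (K := L)).mp hϖ.ne_zero
  have hw2 : algebraMap A L (w₂ : A) ≠ 0 :=
    mt (IsFractionRing.to_map_eq_zero_iff (K := L)).mp w₂.ne_zero
  have hinv : algebraMap A L ((w₂⁻¹ : Aˣ) : A) = (algebraMap A L (w₂ : A))⁻¹ := by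
    apply eq_inv_of_mul_eq_one_left
    rw [← map_mul]
    simp
  simp only [Units.val_mul, Units.val_zpow_eq_zpow_val, coe_unitFrac, unitToFrac, Units.coe_map,
    MonoidHom.coe_coe, map_mul, hinv]
  rw [← hab, hw₁, hw₂, map_mul, map_mul, map_pow, map_pow, zpow_sub₀ hP0, zpow_natCast, zpow_natCast]
  field_simp

end DVR

end Groth.Agent.Helper5
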