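import Mathlib

/-!
# A morphism locally of finite type all of whose fibre maps are monomorphisms is a monomorphism
(helper5)
-/

set_option autoImplicit false
universe u
open CategoryTheory CategoryTheory.Limits AlgebraicGeometry TensorProduct

namespace Groth.Agent.Helper5.FibMono

/-- A finite type algebra all of whose fibres are formally unramified is formally unramified. -/
lemma formallyUnramified_of_fiber (R S : Type u) [CommRing R] [CommRing S] [Algebra R S]
    [Algebra.FiniteType R S]
    (H : ∀ (p : Ideal R) [p.IsPrime],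
      Algebra.FormallyUnramified p.ResidueField (p.ResidueField ⊗[R] S)) :
    Algebra.FormallyUnramified R S := by
  constructor
  by_contra hne
  have hsupp : (Module.support S Ω[S⁄R]).Nonempty := by
    rw [Set.nonempty_iff_ne_empty, Ne, Module.support_eq_empty_iff]
    exact hne
  obtain ⟨q, hq⟩ := hsupp
  rw [Module.mem_support_iff_nontrivial_residueField_tensorProduct] at hq
  obtain ⟨p, hp⟩ : ∃ p : Ideal R, p = q.asIdeal.under R := ⟨_, rfl⟩
  haveI : p.IsPrime := hp ▸ inferInstance
  haveI : q.asIdeal.LiesOver p := ⟨hp⟩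
  haveI := H p
  letI alg : Algebra p.ResidueField q.asIdeal.ResidueField :=
    (Ideal.ResidueField.mapₐ p q.asIdeal (Algebra.ofId R S)
      (q.asIdeal.over_def p)).toRingHom.toAlgebra
  haveI : IsScalarTower R p.ResidueField q.asIdeal.ResidueField :=
    IsScalarTower.of_algebraMap_eq'
      (Ideal.ResidueField.mapₐ p q.asIdeal (Algebra.ofId R S)
        (q.asIdeal.over_def p)).comp_algebraMap.symm
  letI : Algebra S (p.ResidueField ⊗[R] S) := Algebra.TensorProduct.rightAlgebra
  have h1 : Subsingleton (p.ResidueField ⊗[R] Ω[S⁄R]) :=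
    (KaehlerDifferential.tensorKaehlerEquivBase R p.ResidueField S
      (p.ResidueField ⊗[R] S)).subsingleton
  have h1' : Subsingleton (q.asIdeal.ResidueField ⊗[p.ResidueField] (p.ResidueField ⊗[R] Ω[S⁄R])) :=
    subsingleton_of_forall_eq 0 fun x => by
      induction x using TensorProduct.induction_on with
      | zero => rfl
      | tmul a b => rw [Subsingleton.elim b 0, TensorProduct.tmul_zero]
      | add x y hx hy => rw [hx, hy, add_zero]
  have h2 : Subsingleton (q.asIdeal.ResidueField ⊗[R] Ω[S⁄R]) :=
    (TensorProduct.AlgebraTensorModule.cancelBaseChange R p.ResidueField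
      q.asIdeal.ResidueField q.asIdeal.ResidueField Ω[S⁄R]).symm.subsingleton
  have h3 : Subsingleton (q.asIdeal.ResidueField ⊗[S] Ω[S⁄R]) :=
    (TensorProduct.mapOfCompatibleSMul_surjective S R R q.asIdeal.ResidueField Ω[S⁄R]).subsingleton
  exact not_subsingleton _ h3

variable {X Y : Scheme.{u}}

/-- fibrewise mono ⇒ formally unramified -/
lemma formallyUnramified_of_mono_fibers (f : X ⟶ Y) [LocallyOfFiniteType f]
    (h : ∀ y, Mono (f.fiberToSpecResidueField y)) : FormallyUnramified f := by
  wlog hY : ∃ R, Y = Spec R
  · rw [IsZariskiLocalAtTarget.iff_of_openCover (P := @FormallyUnramified) Y.affineCover]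
    intro i
    dsimp [Scheme.Cover.pullbackHom]
    haveI inst1 : LocallyOfFiniteType (pullback.snd f (Y.affineCover.f i)) :=
      MorphismProperty.pullback_snd _ _ inferInstance
    refine this (pullback.snd f (Y.affineCover.f i)) (fun y ↦ ?_) ⟨_, rfl⟩
    have h1 : (MorphismProperty.monomorphisms Scheme.{u})
        ((pullback.snd f (Y.affineCover.f i)).fiberToSpecResidueField y) := by
      apply MorphismProperty.of_isPullback
      · exact isPullback_fiberToSpecResidueField_of_isPullback (IsPullback.of_hasPullback _ _) _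
      · exact (MorphismProperty.monomorphisms.iff _).mpr (h _)
    exact (MorphismProperty.monomorphisms.iff _).mp h1
  obtain ⟨R, rfl⟩ := hY
  wlog hX : ∃ S, X = Spec S generalizing X
  · rw [IsZariskiLocalAtSource.iff_of_openCover (P := @FormallyUnramified) X.affineCover]
    intro i
    have _ (y) : Mono (pullback.snd f ((Spec R).fromSpecResidueField y)) := h y
    refine this _ (fun y ↦ ?_) ⟨_, rfl⟩
    have e : (X.affineCover.f i ≫ f).fiberToSpecResidueField y =
        (pullbackRightPullbackFstIso f ((Spec R).fromSpecResidueField y)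
          (X.affineCover.f i)).inv ≫
          pullback.snd (X.affineCover.f i) (pullback.fst f ((Spec R).fromSpecResidueField y)) ≫
          pullback.snd f ((Spec R).fromSpecResidueField y) :=
      (pullbackRightPullbackFstIso_inv_snd_snd _ _ _).symm
    rw [e]
    haveI : Mono (pullback.snd f ((Spec R).fromSpecResidueField y)) := h y
    haveI m2 : Mono (pullback.snd (X.affineCover.f i)
        (pullback.fst f ((Spec R).fromSpecResidueField y))) := inferInstance
    haveI m3 : Mono (pullback.snd (X.affineCover.f i)
        (pullback.fst f ((Spec R).fromSpecResidueField y)) ≫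
          pullback.snd f ((Spec R).fromSpecResidueField y)) := mono_comp _ _
    exact mono_comp _ _
  obtain ⟨S, rfl⟩ := hX
  obtain ⟨φ, rfl⟩ := Spec.map_surjective f
  have hft : φ.hom.FiniteType :=
    (HasRingHomProperty.Spec_iff (P := @LocallyOfFiniteType)).mp inferInstance
  rw [HasRingHomProperty.Spec_iff (P := @FormallyUnramified)]
  algebraize [φ.hom]
  change Algebra.FormallyUnramified R S
  refine formallyUnramified_of_fiber R S fun p hp ↦ ?_
  have hm : Mono (Spec.map (CommRingCat.ofHom
      (algebraMap p.ResidueField (p.ResidueField ⊗[R] S)))) := by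
    have h1 := (MorphismProperty.monomorphisms.iff _).mpr (h ⟨p, hp⟩)
    exact (MorphismProperty.monomorphisms.iff _).mp
      ((MorphismProperty.arrow_mk_iso_iff (MorphismProperty.monomorphisms Scheme.{u})
        (Spec.fiberToSpecResidueFieldIso R S ⟨p, hp⟩)).mp h1)
  refine Algebra.FormallyUnramified.iff_comp_injective.mpr fun B _ _ I hI g₁ g₂ _ ↦ ?_
  have e1 : Spec.map (CommRingCat.ofHom g₁.toRingHom) ≫ Spec.map (CommRingCat.ofHom
        (algebraMap p.ResidueField (p.ResidueField ⊗[R] S))) =
      Spec.map (CommRingCat.ofHom g₂.toRingHom) ≫ Spec.map (CommRingCat.ofHom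
        (algebraMap p.ResidueField (p.ResidueField ⊗[R] S))) := by
    rw [← Spec.map_comp, ← Spec.map_comp, ← CommRingCat.ofHom_comp, ← CommRingCat.ofHom_comp]
    congr 2
    exact (g₁.comp_algebraMap).trans g₂.comp_algebraMap.symm
  have e2 := (cancel_mono _).mp e1
  rw [Spec.map_inj] at e2
  exact AlgHom.ext fun x ↦ congr($e2 x)

lemma aux_inj {T : Scheme.{u}} (f : X ⟶ Y) (y : Y) (hm : Mono (f.fiberToSpecResidueField y))
    (a : T ⟶ Spec (Y.residueField y)) (g₁ g₂ : T ⟶ X)
    (w1 : g₁ ≫ f = a ≫ Y.fromSpecResidueField y) (w2 : g₂ ≫ f = a ≫ Y.fromSpecResidueField y) :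
    g₁ = g₂ := by
  haveI : Mono (pullback.snd f (Y.fromSpecResidueField y)) := hm
  have e : pullback.lift g₁ a w1 = pullback.lift g₂ a w2 := by
    rw [← cancel_mono (pullback.snd f (Y.fromSpecResidueField y)), pullback.lift_snd,
      pullback.lift_snd]
  have := congrArg (fun l => l ≫ pullback.fst f _) e
  simpa only [pullback.lift_fst] using this

/-- fibrewise mono ⇒ universally injective -/
lemma universallyInjective_of_mono_fibers (f : X ⟶ Y)
    (h : ∀ y, Mono (f.fiberToSpecResidueField y)) : UniversallyInjective f := by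
  refine ((tfae_universallyInjective f).out 0 1).mpr ?_
  intro K _ g₁ g₂ hg
  have hg' : g₁ ≫ f = g₂ ≫ f := hg
  have hfac := Scheme.descResidueField_stalkClosedPointTo_fromSpecResidueField K Y (g₁ ≫ f)
  exact aux_inj f _ (h _) _ g₁ g₂ hfac.symm (hg'.symm.trans hfac.symm)

/-- The crux: a morphism locally of finite type whose fibre maps are all monomorphisms is a
monomorphism. -/
theorem mono_of_mono_fibers (f : X ⟶ Y) [LocallyOfFiniteType f]
    (h : ∀ y, Mono (f.fiberToSpecResidueField y)) : Mono f := by
  haveI := formallyUnramified_of_mono_fibers f h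
  haveI : UniversallyInjective f := universallyInjective_of_mono_fibers f h
  haveI : IsOpenImmersion (pullback.diagonal f) := inferInstance
  haveI : Surjective (pullback.diagonal f) := (UniversallyInjective.iff_diagonal f).mp inferInstance
  haveI : IsIso (pullback.diagonal f) :=
    (isIso_iff_isOpenImmersion_and_surjective _).mpr ⟨inferInstance, inferInstance⟩
  exact (pullback.isIso_diagonal_iff f).mp inferInstance

theorem mono_iff_mono_fibers (f : X ⟶ Y) [LocallyOfFiniteType f] :
    Mono f ↔ ∀ y, Mono (f.fiberToSpecResidueField y) :=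
  ⟨fun _ y => inferInstanceAs (Mono (pullback.snd f _)), mono_of_mono_fibers f⟩

end Groth.Agent.Helper5.FibMono
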