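import Mathlib
import Groth.Agent.Lib.Helper5.FibMono

/-!
# Finite morphisms with a monomorphic fibre are closed immersions near that fibre (helper5)
-/

set_option autoImplicit false
universe u
open CategoryTheory CategoryTheory.Limits AlgebraicGeometry TensorProduct

namespace Groth.Agent.Helper5.FibClosed

section Algebra

variable (R S k : Type u) [CommRing R] [CommRing S] [Algebra R S] [CommRing k] [Algebra R k]

/-- the cokernel of `R → S` as an `R`-module -/
abbrev Coker : Type u := S ⧸ LinearMap.range (Algebra.linearMap R S)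

lemma surjective_of_subsingleton (h : Subsingleton (k ⊗[R] Coker R S)) :
    Function.Surjective (algebraMap k (k ⊗[R] S)) := by
  have key : ∀ w : k ⊗[R] R, ∃ a : k,
      algebraMap k (k ⊗[R] S) a = LinearMap.lTensor k (Algebra.linearMap R S) w := by
    intro w
    induction w using TensorProduct.induction_on with
    | zero => exact ⟨0, by simp⟩
    | tmul a r =>
      refine ⟨r • a, ?_⟩
      rw [LinearMap.lTensor_tmul, Algebra.linearMap_apply, Algebra.TensorProduct.algebraMap_apply,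
        Algebra.algebraMap_self_apply, Algebra.algebraMap_eq_smul_one, TensorProduct.tmul_smul,
        TensorProduct.smul_tmul']
    | add x y hx hy =>
      obtain ⟨a, ha⟩ := hx
      obtain ⟨b, hb⟩ := hy
      exact ⟨a + b, by rw [map_add, map_add, ha, hb]⟩
  have hex : Function.Exact (Algebra.linearMap R S)
      (LinearMap.range (Algebra.linearMap R S)).mkQ := LinearMap.exact_map_mkQ_range _
  have hex2 := lTensor_exact k hex (Submodule.mkQ_surjective _)
  intro z
  have hz : (LinearMap.lTensor k (LinearMap.range (Algebra.linearMap R S)).mkQ) z = 0 :=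
    Subsingleton.elim _ _
  obtain ⟨w, hw⟩ := (hex2 z).mp hz
  obtain ⟨a, ha⟩ := key w
  exact ⟨a, ha.trans hw⟩

lemma subsingleton_of_surjective (h : Function.Surjective (algebraMap k (k ⊗[R] S))) :
    Subsingleton (k ⊗[R] Coker R S) := by
  refine subsingleton_of_forall_eq 0 fun z => ?_
  obtain ⟨w, rfl⟩ := LinearMap.lTensor_surjective k
    (Submodule.mkQ_surjective (LinearMap.range (Algebra.linearMap R S))) z
  obtain ⟨a, rfl⟩ := h w
  rw [Algebra.TensorProduct.algebraMap_apply, LinearMap.lTensor_tmul]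
  have : (LinearMap.range (Algebra.linearMap R S)).mkQ (1 : S) = 0 := by
    rw [Submodule.mkQ_apply, Submodule.Quotient.mk_eq_zero]
    exact ⟨1, by simp⟩
  rw [this, TensorProduct.tmul_zero]

lemma exists_open_surjective [Module.Finite R S] (p : PrimeSpectrum R)
    (hp : Function.Surjective
      (algebraMap p.asIdeal.ResidueField (p.asIdeal.ResidueField ⊗[R] S))) :
    ∃ U : Set (PrimeSpectrum R), IsOpen U ∧ p ∈ U ∧ ∀ q ∈ U, Function.Surjective
      (algebraMap q.asIdeal.ResidueField (q.asIdeal.ResidueField ⊗[R] S)) := by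
  refine ⟨(Module.support R (Coker R S))ᶜ, ?_, ?_, ?_⟩
  · rw [Module.support_eq_zeroLocus]
    exact (PrimeSpectrum.isClosed_zeroLocus _).isOpen_compl
  · rw [Set.mem_compl_iff, Module.mem_support_iff_nontrivial_residueField_tensorProduct,
      not_nontrivial_iff_subsingleton]
    exact subsingleton_of_surjective R S _ hp
  · intro q hq
    rw [Set.mem_compl_iff, Module.mem_support_iff_nontrivial_residueField_tensorProduct,
      not_nontrivial_iff_subsingleton] at hq
    exact surjective_of_subsingleton R S _ hq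

lemma mono_SpecMap_iff_surjective (K A : Type u) [CommRing K] [CommRing A] [Algebra K A]
    [Module.Finite K A] :
    Mono (Spec.map (CommRingCat.ofHom (algebraMap K A))) ↔
      Function.Surjective (algebraMap K A) := by
  constructor
  · intro hm
    haveI : Epi (CommRingCat.ofHom (algebraMap K A)) := by
      constructor
      intro T g₁ g₂ hg
      have e1 : Spec.map g₁ ≫ Spec.map (CommRingCat.ofHom (algebraMap K A)) =
          Spec.map g₂ ≫ Spec.map (CommRingCat.ofHom (algebraMap K A)) := by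
        rw [← Spec.map_comp, ← Spec.map_comp, hg]
      exact Spec.map_injective ((cancel_mono _).mp e1)
    have := RingHom.surjective_of_epi_of_finite (CommRingCat.ofHom (algebraMap K A))
      (RingHom.finite_algebraMap.mpr inferInstance)
    exact this
  · intro hs
    haveI : IsClosedImmersion (Spec.map (CommRingCat.ofHom (algebraMap K A))) :=
      IsClosedImmersion.spec_of_surjective _ hs
    infer_instance

lemma exists_open_mono_fibers_Spec [Module.Finite R S] (p : PrimeSpectrum R)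
    (hp : Mono ((Spec.map (CommRingCat.ofHom (algebraMap R S))).fiberToSpecResidueField p)) :
    ∃ U : (Spec (CommRingCat.of R)).Opens, p ∈ U ∧ ∀ q ∈ U,
      Mono ((Spec.map (CommRingCat.ofHom (algebraMap R S))).fiberToSpecResidueField q) := by
  have key : ∀ q : PrimeSpectrum R,
      Mono ((Spec.map (CommRingCat.ofHom (algebraMap R S))).fiberToSpecResidueField q) ↔
      Function.Surjective
        (algebraMap q.asIdeal.ResidueField (q.asIdeal.ResidueField ⊗[R] S)) := by
    intro q
    rw [← mono_SpecMap_iff_surjective, ← MorphismProperty.monomorphisms.iff,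
      ← MorphismProperty.monomorphisms.iff]
    exact MorphismProperty.arrow_mk_iso_iff (MorphismProperty.monomorphisms Scheme.{u})
      (Spec.fiberToSpecResidueFieldIso R S q)
  obtain ⟨U, hU, hpU, hq⟩ := exists_open_surjective R S p ((key p).mp hp)
  exact ⟨⟨U, hU⟩, hpU, fun q hqU => (key q).mpr (hq q hqU)⟩

end Algebra

section Transfer

variable {P' X Y Z : Scheme.{u}} {fst : P' ⟶ X} {snd : P' ⟶ Y} {f : X ⟶ Z} {g : Y ⟶ Z}

lemma prop_iff_of_isPullback_of_isIso (P : MorphismProperty Scheme.{u}) [P.IsStableUnderBaseChange]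
    {A B A' B' : Scheme.{u}} {t : A ⟶ A'} {l : A ⟶ B} {r : A' ⟶ B'} {b : B ⟶ B'}
    (sq : IsPullback t l r b) [IsIso b] : P l ↔ P r := by
  haveI := sq.isIso_fst_of_isIso
  constructor
  · intro hl
    have e : r = inv t ≫ l ≫ b := by
      rw [IsIso.eq_inv_comp]
      exact sq.w
    rw [e]
    exact (P.cancel_left_of_respectsIso _ _).mpr ((P.cancel_right_of_respectsIso _ _).mpr hl)
  · exact P.of_isPullback sq

/-- Transfer of properties of fibre maps along a base change inducing an iso on residue fields. -/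
lemma fiber_prop_iff (P : MorphismProperty Scheme.{u}) [P.IsStableUnderBaseChange]
    (h : IsPullback fst snd f g) (y : Y) [IsIso (g.residueFieldMap y)] :
    P (snd.fiberToSpecResidueField y) ↔ P (f.fiberToSpecResidueField (g y)) := by
  haveI : IsIso (Spec.map (g.residueFieldMap y)) := inferInstance
  exact prop_iff_of_isPullback_of_isIso P (isPullback_fiberToSpecResidueField_of_isPullback h y)

lemma fiber_mono_iff (h : IsPullback fst snd f g) (y : Y) [IsIso (g.residueFieldMap y)] :
    Mono (snd.fiberToSpecResidueField y) ↔ Mono (f.fiberToSpecResidueField (g y)) := by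
  rw [← MorphismProperty.monomorphisms.iff, ← MorphismProperty.monomorphisms.iff]
  exact fiber_prop_iff (MorphismProperty.monomorphisms Scheme.{u}) h y

lemma nonempty_fiber_iso (h : IsPullback fst snd f g) (y : Y) [IsIso (g.residueFieldMap y)] :
    Nonempty (snd.fiber y ≅ f.fiber (g y)) := by
  have sq := isPullback_fiberToSpecResidueField_of_isPullback h y
  haveI : IsIso (Spec.map (g.residueFieldMap y)) := inferInstance
  have hi := sq.isIso_fst_of_isIso
  exact ⟨@asIso _ _ _ _ _ hi⟩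

lemma finite_preimage_of_isPullback (h : IsPullback fst snd f g) (y : Y)
    [IsIso (g.residueFieldMap y)] (hfin : (snd ⁻¹' {y}).Finite) : (f ⁻¹' {g y}).Finite := by
  obtain ⟨e⟩ := nonempty_fiber_iso h y
  haveI : Finite (snd.fiber y) := (snd.fiberHomeo y).finite_iff.mpr hfin
  haveI : Finite (f.fiber (g y)) :=
    Finite.of_surjective (fun z => e.hom z) (fun z => e.hom.surjective z)
  exact (f.fiberHomeo (g y)).finite_iff.mp inferInstance

end Transfer

section Restrict

variable {X Y S : Scheme.{u}}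

lemma restrict_of_le (P : MorphismProperty Scheme.{u}) [IsZariskiLocalAtTarget P] (f : X ⟶ Y)
    {U V : Y.Opens} (hUV : U ≤ V) (h : P (f ∣_ V)) : P (f ∣_ U) := by
  have e : V.ι ''ᵁ (V.ι ⁻¹ᵁ U) = U := by
    rw [Scheme.Hom.image_preimage_eq_opensRange_inf, Scheme.Opens.opensRange_ι]
    exact inf_eq_right.mpr hUV
  have h1 : P (f ∣_ V ∣_ (V.ι ⁻¹ᵁ U)) := IsZariskiLocalAtTarget.restrict h _
  have h2 := (P.arrow_mk_iso_iff (morphismRestrictRestrict f V (V.ι ⁻¹ᵁ U))).mp h1
  exact (P.arrow_mk_iso_iff (morphismRestrictEq f e)).mp h2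

lemma exists_preimage_le (h : Y ⟶ S) [UniversallyClosed h] (W : Y.Opens) (s : S)
    (hs : ∀ y, h y = s → y ∈ W) : ∃ U : S.Opens, s ∈ U ∧ h ⁻¹ᵁ U ≤ W := by
  have hcl : IsClosed (h '' (W : Set Y)ᶜ) := h.isClosedMap _ W.isOpen.isClosed_compl
  refine ⟨⟨(h '' (W : Set Y)ᶜ)ᶜ, hcl.isOpen_compl⟩, ?_, ?_⟩
  · show s ∉ h '' (W : Set Y)ᶜ
    rintro ⟨y, hyW, hys⟩
    exact hyW (hs y hys)
  · intro y hy
    by_contra hnot
    exact hy ⟨y, hnot, rfl⟩

lemma exists_restrict_of_restrict_restrict (P : MorphismProperty Scheme.{u}) [P.RespectsIso]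
    (f : X ⟶ Y) (V : Y.Opens) (y : Y) (hy : y ∈ V)
    (h : ∃ U : V.toScheme.Opens, (⟨y, hy⟩ : V) ∈ U ∧ P (f ∣_ V ∣_ U)) :
    ∃ U : Y.Opens, y ∈ U ∧ P (f ∣_ U) := by
  obtain ⟨U, hyU, hU⟩ := h
  exact ⟨V.ι ''ᵁ U, ⟨⟨y, hy⟩, hyU, rfl⟩,
    (P.arrow_mk_iso_iff (morphismRestrictRestrict f V U)).mp hU⟩

end Restrict

section Main

variable {X Y : Scheme.{u}}

/-- For a finite morphism, the locus of points with monomorphic fibre is open. -/
theorem exists_open_mono_fibers (f : X ⟶ Y) [IsFinite f] (y : Y)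
    (hy : Mono (f.fiberToSpecResidueField y)) :
    ∃ U : Y.Opens, y ∈ U ∧ ∀ y' ∈ U, Mono (f.fiberToSpecResidueField y') := by
  wlog hY : ∃ R, Y = Spec R generalizing X Y
  · obtain ⟨i, y₀, rfl⟩ := Y.affineCover.exists_eq y
    have sqp := IsPullback.of_hasPullback f (Y.affineCover.f i)
    have hy₀ : Mono ((pullback.snd f (Y.affineCover.f i)).fiberToSpecResidueField y₀) :=
      (fiber_mono_iff sqp y₀).mpr hy
    obtain ⟨U₀, hyU₀, hU₀⟩ := this (pullback.snd f (Y.affineCover.f i)) y₀ hy₀ ⟨_, rfl⟩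
    refine ⟨(Y.affineCover.f i) ''ᵁ U₀, ⟨y₀, hyU₀, rfl⟩, ?_⟩
    rintro _ ⟨y₁, hy₁, rfl⟩
    exact (fiber_mono_iff sqp y₁).mp (hU₀ y₁ hy₁)
  obtain ⟨R, rfl⟩ := hY
  wlog hX : ∃ S, X = Spec S generalizing X
  · haveI inst1 : IsAffine X := isAffine_of_isAffineHom f
    have sqp : IsPullback X.isoSpec.inv (X.isoSpec.inv ≫ f) f (𝟙 _) :=
      IsPullback.of_horiz_isIso ⟨by simp⟩
    obtain ⟨U, hyU, hU⟩ := this (X.isoSpec.inv ≫ f) ((fiber_mono_iff sqp y).mpr hy) ⟨_, rfl⟩
    exact ⟨U, hyU, fun y' hy' => (fiber_mono_iff sqp y').mp (hU y' hy')⟩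
  obtain ⟨S, rfl⟩ := hX
  obtain ⟨φ, rfl⟩ := Spec.map_surjective f
  have hfin : φ.hom.Finite := (IsFinite.SpecMap_iff φ).mp inferInstance
  algebraize [φ.hom]
  exact exists_open_mono_fibers_Spec R S y hy

/-- A finite morphism all of whose fibres over `U` are monomorphisms is a closed immersion
over `U`. -/
theorem isClosedImmersion_restrict_of_mono_fibers (f : X ⟶ Y) [IsFinite f] (U : Y.Opens)
    (hU : ∀ y ∈ U, Mono (f.fiberToSpecResidueField y)) : IsClosedImmersion (f ∣_ U) := by
  have sqp : IsPullback (f ⁻¹ᵁ U).ι (f ∣_ U) f U.ι := (isPullback_morphismRestrict f U).flip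
  have hm : ∀ y' : U, Mono ((f ∣_ U).fiberToSpecResidueField y') := fun y' =>
    (fiber_mono_iff sqp y').mpr (hU _ y'.2)
  haveI : Mono (f ∣_ U) := Groth.Agent.Helper5.FibMono.mono_of_mono_fibers _ hm
  exact (IsClosedImmersion.iff_isFinite_and_mono _).mpr ⟨inferInstance, inferInstance⟩

/-- A finite morphism with a monomorphic fibre at `y` is a closed immersion near `y`. -/
theorem exists_isClosedImmersion_of_mono_fiber (f : X ⟶ Y) [IsFinite f] (y : Y)
    (hy : Mono (f.fiberToSpecResidueField y)) :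
    ∃ U : Y.Opens, y ∈ U ∧ IsClosedImmersion (f ∣_ U) := by
  obtain ⟨U, hyU, hU⟩ := exists_open_mono_fibers f y hy
  exact ⟨U, hyU, isClosedImmersion_restrict_of_mono_fibers f U hU⟩

set_option backward.isDefEq.respectTransparency.types false in
/-- The (open) finite locus of a proper morphism. -/
lemma exists_finiteLocus (f : X ⟶ Y) [IsProper f] :
    ∃ V : Y.Opens, IsFinite (f ∣_ V) ∧ ∀ y, (f ⁻¹' {y}).Finite → y ∈ V := by
  let V : Y.Opens := ⟨_, (f.isClosedMap _ f.quasiFiniteLocus.isOpen.isClosed_compl).isOpen_compl⟩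
  refine ⟨V, ?_, ?_⟩
  · suffices LocallyQuasiFinite (f ∣_ V) from .of_isProper_of_locallyQuasiFinite _
    rw [← Scheme.Hom.quasiFiniteLocus_eq_top_iff]
    ext x
    have : f.QuasiFiniteAt ((f ⁻¹ᵁ V).ι x) := by by_contra H; exact x.2 ⟨_, H, by simp⟩
    rw [← Scheme.Hom.quasiFiniteAt_comp_iff_of_isOpenImmersion, ← morphismRestrict_ι,
      Scheme.Hom.quasiFiniteAt_comp_iff] at this
    simpa
  · intro y hx
    suffices ∀ x, f x = y → f.QuasiFiniteAt x by simpa [V, not_imp_not]
    rintro x rfl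
    have : Finite (f.fiber (f x)) := (f.fiberHomeo (f x)).finite_iff.mpr hx
    exact Scheme.Hom.quasiFiniteAt_iff_isOpen_singleton_asFiber.mpr (isOpen_discrete _)

/-- A universally closed morphism with a single point `x` over `y` is affine over a
neighbourhood of `y`. -/
lemma exists_isAffineHom_restrict (g : X ⟶ Y) [UniversallyClosed g] (y : Y) (x : X)
    (hxy : g x = y) (hx : ∀ x', g x' = y → x' = x) :
    ∃ U : Y.Opens, y ∈ U ∧ IsAffineHom (g ∣_ U) := by
  obtain ⟨V₀, hV₀, hyV₀, -⟩ := exists_isAffineOpen_mem_and_subset (x := y) (U := ⊤) trivial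
  have hxV : x ∈ g ⁻¹ᵁ V₀ := by
    show g x ∈ V₀
    rw [hxy]
    exact hyV₀
  obtain ⟨W, hW, hxW, hWV⟩ := exists_isAffineOpen_mem_and_subset hxV
  have hWV' : W ≤ g ⁻¹ᵁ V₀ := hWV
  have hcl : IsClosed (g '' (W : Set X)ᶜ) := g.isClosedMap _ W.isOpen.isClosed_compl
  let U₁ : Y.Opens := ⟨(g '' (W : Set X)ᶜ)ᶜ, hcl.isOpen_compl⟩
  have hyU₁ : y ∈ U₁ := by
    show y ∉ g '' (W : Set X)ᶜ
    rintro ⟨x', hx'W, hx'y⟩
    exact hx'W (hx x' hx'y ▸ hxW)
  obtain ⟨b, hbU, hyb⟩ := hV₀.exists_basicOpen_le ⟨y, hyU₁⟩ hyV₀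
  refine ⟨Y.basicOpen b, hyb, ?_⟩
  have hle : g ⁻¹ᵁ Y.basicOpen b ≤ W := by
    intro x' hx'
    by_contra hnot
    exact hbU hx' ⟨x', hnot, rfl⟩
  have haff1 : IsAffineOpen (Y.basicOpen b) := hV₀.basicOpen b
  have haff2 : IsAffineOpen (g ⁻¹ᵁ Y.basicOpen b) := by
    have e : g ⁻¹ᵁ Y.basicOpen b =
        X.basicOpen (X.presheaf.map (homOfLE hWV').op (g.app V₀ b)) := by
      rw [Scheme.basicOpen_res, ← Scheme.preimage_basicOpen]
      exact (inf_eq_right.mpr hle).symm
    rw [e]
    exact hW.basicOpen _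
  haveI : IsAffine (Y.basicOpen b).toScheme := haff1
  haveI : IsAffine (g ⁻¹ᵁ Y.basicOpen b).toScheme := haff2
  infer_instance

/-- Core of S2803. -/
theorem exists_isClosedImmersion_of_fiber (g : X ⟶ Y) [LocallyOfFiniteType g]
    [UniversallyClosed g] (y : Y)
    (hy : IsEmpty (g.fiber y) ∨ IsIso (g.fiberToSpecResidueField y)) :
    ∃ U : Y.Opens, y ∈ U ∧ IsClosedImmersion (g ∣_ U) := by
  rcases hy with he | hi
  · have hcl : IsClosed (Set.range g) := g.isClosedMap.isClosed_range
    refine ⟨⟨(Set.range g)ᶜ, hcl.isOpen_compl⟩, ?_, ?_⟩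
    · show y ∉ Set.range g
      rintro ⟨x, rfl⟩
      exact he.elim (g.asFiber x)
    · haveI : IsEmpty ↥((g ⁻¹ᵁ (⟨(Set.range g)ᶜ, hcl.isOpen_compl⟩ : Y.Opens)).toScheme) :=
        ⟨fun x => x.2 ⟨x.1, rfl⟩⟩
      infer_instance
  · haveI : Subsingleton ↥(Spec (Y.residueField y)) :=
      inferInstanceAs (Subsingleton (PrimeSpectrum (Y.residueField y)))
    haveI : Subsingleton (g.fiber y) :=
      (g.fiberToSpecResidueField y).homeomorph.injective.subsingleton
    have z : g.fiber y :=
      (g.fiberToSpecResidueField y).homeomorph.symm (IsLocalRing.closedPoint (Y.residueField y))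
    have hxy : g (g.fiberι y z) = y := by
      have h1 : g.fiberι y z ∈ Set.range (g.fiberι y) := ⟨z, rfl⟩
      rw [g.range_fiberι] at h1
      exact h1
    have hx : ∀ x', g x' = y → x' = g.fiberι y z := by
      intro x' hx'
      have h1 : x' ∈ Set.range (g.fiberι y) := by
        rw [g.range_fiberι]
        exact hx'
      obtain ⟨z', rfl⟩ := h1
      rw [Subsingleton.elim z' z]
    obtain ⟨U, hyU, hU⟩ := exists_isAffineHom_restrict g y _ hxy hx
    haveI : UniversallyClosed (g ∣_ U) :=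
      IsZariskiLocalAtTarget.restrict (P := @UniversallyClosed) inferInstance U
    haveI : LocallyOfFiniteType (g ∣_ U) :=
      IsZariskiLocalAtTarget.restrict (P := @LocallyOfFiniteType) inferInstance U
    haveI : IsIntegralHom (g ∣_ U) :=
      IsIntegralHom.iff_universallyClosed_and_isAffineHom.mpr ⟨inferInstance, hU⟩
    haveI : IsFinite (g ∣_ U) :=
      (IsFinite.iff_isIntegralHom_and_locallyOfFiniteType _).mpr ⟨inferInstance, inferInstance⟩
    have sqp : IsPullback (g ⁻¹ᵁ U).ι (g ∣_ U) g U.ι := (isPullback_morphismRestrict g U).flip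
    have hm : Mono ((g ∣_ U).fiberToSpecResidueField ⟨y, hyU⟩) :=
      (fiber_mono_iff sqp ⟨y, hyU⟩).mpr (inferInstance : Mono (g.fiberToSpecResidueField y))
    obtain ⟨U₂, hyU₂, hU₂⟩ := exists_open_mono_fibers (g ∣_ U) ⟨y, hyU⟩ hm
    exact exists_restrict_of_restrict_restrict @IsClosedImmersion g U y hyU
      ⟨U₂, hyU₂, isClosedImmersion_restrict_of_mono_fibers _ U₂ hU₂⟩

end Main

end Groth.Agent.Helper5.FibClosed
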