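import Mathlib
import Groth.Agent.Lib.Helper5.FibClosed

/-!
# Birational quasi-finite morphisms onto normal points are local isomorphisms (helper5)
-/

set_option autoImplicit false
universe u
open CategoryTheory CategoryTheory.Limits AlgebraicGeometry TensorProduct
open Groth.Agent.Helper5.FibClosed

namespace Groth.Agent.Helper5.BirNormal

section Algebra

/-- Integral, "birational" extension `A → B` and a prime `p` with `A_p` integrally closed:
the fibre ring `κ(p) ⊗ B` is `κ(p)`. -/
lemma bijective_fiber_of_integral_birational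
    (A B K L Ap : Type u) [CommRing A] [IsDomain A] [CommRing B] [Algebra A B]
    [Algebra.IsIntegral A B] [Field K] [Algebra A K] [IsFractionRing A K] [CommRing L]
    (gB : B →+* L) (hgB : Function.Injective gB) (σ : K →+* L) (hσ : Function.Bijective σ)
    (hcomp : ∀ a : A, σ (algebraMap A K a) = gB (algebraMap A B a))
    (p : Ideal A) [p.IsPrime] [CommRing Ap] [Algebra A Ap] [IsLocalization.AtPrime Ap p]
    [IsIntegrallyClosed Ap] :
    Function.Bijective (algebraMap p.ResidueField (p.ResidueField ⊗[A] B)) := by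
  have hunit : ∀ s : p.primeCompl, IsUnit (algebraMap A K s) := by
    intro s
    refine isUnit_iff_ne_zero.mpr ?_
    intro h0
    have h1 : (s : A) = 0 := (IsFractionRing.injective A K) (by rw [h0, map_zero])
    exact s.2 (h1 ▸ p.zero_mem)
  letI algApK : Algebra Ap K :=
    (IsLocalization.lift (M := p.primeCompl) (S := Ap) (g := algebraMap A K) hunit).toAlgebra
  haveI : IsScalarTower A Ap K :=
    IsScalarTower.of_algebraMap_eq (fun a => (IsLocalization.lift_eq hunit a).symm)
  haveI : IsFractionRing Ap K :=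
    IsFractionRing.isFractionRing_of_isDomain_of_isLocalization p.primeCompl Ap K
  have hAB : Function.Injective (algebraMap A B) := by
    intro a a' h
    apply IsFractionRing.injective A K
    apply hσ.1
    rw [hcomp, hcomp, h]
  have key : ∀ b : B, ∃ c : p.ResidueField,
      algebraMap p.ResidueField (p.ResidueField ⊗[A] B) c = 1 ⊗ₜ b := by
    intro b
    obtain ⟨P, hPm, hP⟩ := Algebra.IsIntegral.isIntegral (R := A) b
    obtain ⟨k, hk⟩ := hσ.2 (gB b)
    have hkint : IsIntegral A k := by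
      refine ⟨P, hPm, hσ.1 ?_⟩
      rw [map_zero, Polynomial.hom_eval₂, hk]
      have e : σ.comp (algebraMap A K) = gB.comp (algebraMap A B) := RingHom.ext hcomp
      rw [e, ← Polynomial.hom_eval₂, hP, map_zero]
    have hkint' : IsIntegral Ap k := hkint.tower_top
    obtain ⟨y, hy⟩ := IsIntegrallyClosed.isIntegral_iff.mp hkint'
    obtain ⟨a, s, rfl⟩ := IsLocalization.exists_mk'_eq p.primeCompl y
    have h1 : algebraMap A K s * k = algebraMap A K a := by
      rw [← hy, IsScalarTower.algebraMap_apply A Ap K, IsScalarTower.algebraMap_apply A Ap K a,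
        ← map_mul, mul_comm, IsLocalization.mk'_spec]
    have h2 : algebraMap A B s * b = algebraMap A B a := by
      apply hgB
      rw [map_mul, ← hcomp, ← hcomp, ← hk, ← map_mul, h1]
    have hs : algebraMap A p.ResidueField s ≠ 0 := by
      rw [Ne, Ideal.algebraMap_residueField_eq_zero]
      exact s.2
    refine ⟨(algebraMap A p.ResidueField s)⁻¹ * algebraMap A p.ResidueField a, ?_⟩
    rw [Algebra.TensorProduct.algebraMap_apply, Algebra.algebraMap_self_apply]
    have h3 : (algebraMap A p.ResidueField a) ⊗ₜ[A] (1 : B) =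
        (algebraMap A p.ResidueField s) ⊗ₜ[A] b := by
      rw [Algebra.algebraMap_eq_smul_one, Algebra.algebraMap_eq_smul_one (A := p.ResidueField) (s : A),
        TensorProduct.smul_tmul, TensorProduct.smul_tmul, Algebra.smul_def, Algebra.smul_def,
        mul_one, h2]
    calc ((algebraMap A p.ResidueField s)⁻¹ * algebraMap A p.ResidueField a) ⊗ₜ[A] (1 : B)
        = (algebraMap A p.ResidueField s)⁻¹ • ((algebraMap A p.ResidueField a) ⊗ₜ[A] (1 : B)) := by
          rw [TensorProduct.smul_tmul', smul_eq_mul]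
      _ = (algebraMap A p.ResidueField s)⁻¹ • ((algebraMap A p.ResidueField s) ⊗ₜ[A] b) := by
          rw [h3]
      _ = ((algebraMap A p.ResidueField s)⁻¹ * algebraMap A p.ResidueField s) ⊗ₜ[A] b := by
          rw [TensorProduct.smul_tmul', smul_eq_mul]
      _ = 1 ⊗ₜ b := by rw [inv_mul_cancel₀ hs]
  constructor
  · haveI : Nontrivial (p.ResidueField ⊗[A] B) := by
      obtain ⟨Q, -, hQ, hQp⟩ := Ideal.exists_ideal_over_prime_of_isIntegral p (⊥ : Ideal B) (by
        rw [← RingHom.ker_eq_comap_bot, (RingHom.injective_iff_ker_eq_bot _).mp hAB]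
        exact bot_le)
      exact (PrimeSpectrum.nontrivial_iff_mem_rangeComap ⟨p, inferInstance⟩).mpr
        ⟨⟨Q, hQ⟩, PrimeSpectrum.ext hQp⟩
    exact (algebraMap p.ResidueField (p.ResidueField ⊗[A] B)).injective
  · intro z
    induction z using TensorProduct.induction_on with
    | zero => exact ⟨0, map_zero _⟩
    | tmul c b =>
      obtain ⟨c', hc'⟩ := key b
      refine ⟨c * c', ?_⟩
      rw [map_mul, hc', Algebra.TensorProduct.algebraMap_apply, Algebra.algebraMap_self_apply,
        Algebra.TensorProduct.tmul_mul_tmul, mul_one, one_mul]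
    | add x y hx hy =>
      obtain ⟨a, ha⟩ := hx
      obtain ⟨b, hb⟩ := hy
      exact ⟨a + b, by rw [map_add, ha, hb]⟩

end Algebra

section Schemes

variable {X Y N : Scheme.{u}}

/-- Theorem K: the fibre of an integral birational morphism over a normal point is trivial. -/
theorem isIso_fiber_of_integral_birational [IsIntegral N] [IsIntegral Y]
    (u : N ⟶ Y) [IsIntegralHom u] (n : N) (hn : n = genericPoint N)
    (hgen : u n = genericPoint Y) (hbir : IsIso (u.stalkMap n))
    (y : Y) (hy : IsIntegrallyClosed (Y.presheaf.stalk y)) :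
    IsIso (u.fiberToSpecResidueField y) := by
  subst hn
  obtain ⟨W, hW, hyW, -⟩ := exists_isAffineOpen_mem_and_subset (x := y) (U := ⊤) trivial
  have hW' : IsAffineOpen (u ⁻¹ᵁ W) := hW.preimage u
  have hηY : genericPoint Y ∈ W :=
    ((genericPoint_spec Y).mem_open_set_iff W.isOpen).mpr ⟨y, trivial, hyW⟩
  have hηN : genericPoint N ∈ u ⁻¹ᵁ W := by
    show u (genericPoint N) ∈ W
    rw [hgen]
    exact hηY
  haveI : Nonempty W := ⟨⟨y, hyW⟩⟩
  haveI : Nonempty (u ⁻¹ᵁ W) := ⟨⟨genericPoint N, hηN⟩⟩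
  obtain ⟨p, rfl⟩ : ∃ p : PrimeSpectrum Γ(Y, W), hW.fromSpec p = y :=
    ⟨_, hW.fromSpec_primeIdealOf ⟨y, hyW⟩⟩
  have hφ : u.app W = u.appLE W (u ⁻¹ᵁ W) le_rfl := Scheme.Hom.app_eq_appLE ..
  have hint : (u.app W).hom.IsIntegral := u.isIntegral_app W hW
  have sq : IsPullback hW'.fromSpec (Spec.map (u.app W)) u hW.fromSpec := by
    refine (IsOpenImmersion.isPullback (Spec.map (u.app W)) hW'.fromSpec hW.fromSpec u ?_ ?_).flip
    · rw [hφ]
      exact (IsAffineOpen.SpecMap_appLE_fromSpec u hW hW' le_rfl).symm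
    · rw [hW.opensRange_fromSpec, hW'.opensRange_fromSpec]
  refine (MorphismProperty.isomorphisms.iff _).mp
    ((fiber_prop_iff (MorphismProperty.isomorphisms Scheme.{u}) sq p).mp ?_)
  algebraize [(u.app W).hom]
  refine (MorphismProperty.arrow_mk_iso_iff (MorphismProperty.isomorphisms Scheme.{u})
    (Spec.fiberToSpecResidueFieldIso Γ(Y, W) Γ(N, u ⁻¹ᵁ W) p)).mpr ?_
  rw [MorphismProperty.isomorphisms.iff]
  suffices hb : Function.Bijective (algebraMap p.asIdeal.ResidueField
      (p.asIdeal.ResidueField ⊗[Γ(Y, W)] Γ(N, u ⁻¹ᵁ W))) by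
    haveI : IsIso (CommRingCat.ofHom (algebraMap p.asIdeal.ResidueField
        (p.asIdeal.Fiber Γ(N, u ⁻¹ᵁ W)))) :=
      (ConcreteCategory.isIso_iff_bijective _).mpr hb
    infer_instance
  letI algAp := TopCat.Presheaf.algebra_section_stalk Y.presheaf ⟨hW.fromSpec p, hyW⟩
  haveI hloc : IsLocalization.AtPrime (Y.presheaf.stalk (hW.fromSpec p)) p.asIdeal :=
    hW.isLocalization_stalk' p hyW
  haveI := hy
  haveI := functionField_isFractionRing_of_isAffineOpen Y W hW
  let σ : Y.functionField ⟶ N.presheaf.stalk (genericPoint N) :=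
    (Y.presheaf.stalkCongr (Inseparable.of_eq hgen.symm)).hom ≫ u.stalkMap (genericPoint N)
  haveI : IsIso σ := inferInstance
  have hσ : Function.Bijective σ.hom := (ConcreteCategory.isIso_iff_bijective σ).mp inferInstance
  have hcompm : Y.presheaf.germ W (genericPoint Y) hηY ≫ σ =
      u.app W ≫ N.presheaf.germ (u ⁻¹ᵁ W) (genericPoint N) hηN := by
    simp only [σ, TopCat.Presheaf.stalkCongr_hom]
    rw [← Category.assoc, TopCat.Presheaf.germ_stalkSpecializes, Scheme.Hom.germ_stalkMap]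
  refine bijective_fiber_of_integral_birational Γ(Y, W) Γ(N, u ⁻¹ᵁ W) Y.functionField
    (N.presheaf.stalk (genericPoint N)) (Y.presheaf.stalk (hW.fromSpec p))
    (N.presheaf.germ (u ⁻¹ᵁ W) (genericPoint N) hηN).hom
    (germ_injective_of_isIntegral N _ hηN) σ.hom hσ ?_ p.asIdeal
  intro a
  exact congr($hcompm a)

lemma isIso_stalkMap_of_isIso_restrict (t : X ⟶ N) (V : N.Opens) [IsIso (t ∣_ V)] (z : X)
    (hz : t z ∈ V) : IsIso (t.stalkMap z) := by
  haveI : IsOpenImmersion ((t ⁻¹ᵁ V).ι ≫ t) := by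
    rw [← morphismRestrict_ι]
    infer_instance
  have h0 : IsIso (((t ⁻¹ᵁ V).ι ≫ t).stalkMap ⟨z, hz⟩) := inferInstance
  haveI h1 : IsIso (t.stalkMap ((t ⁻¹ᵁ V).ι ⟨z, hz⟩) ≫ (t ⁻¹ᵁ V).ι.stalkMap ⟨z, hz⟩) := by
    rw [← Scheme.Hom.stalkMap_comp]
    exact h0
  exact IsIso.of_isIso_comp_right (t.stalkMap ((t ⁻¹ᵁ V).ι ⟨z, hz⟩))
    ((t ⁻¹ᵁ V).ι.stalkMap ⟨z, hz⟩)

lemma map_genericPoint_of_isDominant [IrreducibleSpace X] [IrreducibleSpace N] (t : X ⟶ N)
    [IsDominant t] : t (genericPoint X) = genericPoint N := by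
  apply ((genericPoint_spec N).eq _).symm
  convert (genericPoint_spec X).image t.continuous using 1
  symm
  rw [Set.image_univ]
  exact t.denseRange.closure_range

lemma isDominant_of_genericPoint_mem_range [IrreducibleSpace Y] (g : X ⟶ Y)
    (h : genericPoint Y ∈ Set.range g) : IsDominant g :=
  ⟨Dense.mono (Set.singleton_subset_iff.mpr h)
    (dense_iff_closure_eq.mpr (genericPoint_spec Y).def)⟩

/-- Local form: quasi-compact case. -/
theorem exists_isIso_restrict_of_quasiFiniteAt [IsIntegral X] [IsIntegral Y] (f : X ⟶ Y)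
    [LocallyOfFiniteType f] [IsSeparated f] [QuasiCompact f]
    (hgen : f (genericPoint X) = genericPoint Y) (hbir : IsIso (f.stalkMap (genericPoint X)))
    (x : X) (hx : f.QuasiFiniteAt x) (hy : IsIntegrallyClosed (Y.presheaf.stalk (f x))) :
    ∃ U : Y.Opens, f x ∈ U ∧ IsIso (f ∣_ U) := by
  have htu : f.toNormalization ≫ f.fromNormalization = f := f.toNormalization_fromNormalization
  obtain ⟨V, hxV, hViso⟩ := f.exists_mem_and_isIso_morphismRestrict_toNormalization x hx
  have hηt : f.toNormalization (genericPoint X) = genericPoint f.normalization :=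
    map_genericPoint_of_isDominant _
  have hηV : f.toNormalization (genericPoint X) ∈ V := by
    rw [hηt]
    exact ((genericPoint_spec _).mem_open_set_iff V.isOpen).mpr ⟨_, trivial, hxV⟩
  haveI h1 : IsIso (f.toNormalization.stalkMap (genericPoint X)) :=
    isIso_stalkMap_of_isIso_restrict _ V _ hηV
  have hu_gen : f.fromNormalization (f.toNormalization (genericPoint X)) = genericPoint Y := by
    rw [← Scheme.Hom.comp_apply, htu, hgen]
  haveI h2 : IsIso (f.fromNormalization.stalkMap (f.toNormalization (genericPoint X))) := by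
    have h3 : IsIso ((f.toNormalization ≫ f.fromNormalization).stalkMap (genericPoint X)) := by
      rw [htu]
      exact hbir
    haveI h4 : IsIso (f.fromNormalization.stalkMap (f.toNormalization (genericPoint X)) ≫
        f.toNormalization.stalkMap (genericPoint X)) := by
      rw [← Scheme.Hom.stalkMap_comp]
      exact h3
    exact IsIso.of_isIso_comp_right _ (f.toNormalization.stalkMap (genericPoint X))
  have hux : f.fromNormalization (f.toNormalization x) = f x := by
    rw [← Scheme.Hom.comp_apply, htu]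
  have hK : IsIso (f.fromNormalization.fiberToSpecResidueField (f x)) :=
    isIso_fiber_of_integral_birational f.fromNormalization _ hηt hu_gen h2 (f x) hy
  have hfib : ∀ n, f.fromNormalization n = f x → n ∈ V := by
    intro n hn
    haveI : Subsingleton ↥(Spec (Y.residueField (f x))) :=
      inferInstanceAs (Subsingleton (PrimeSpectrum (Y.residueField (f x))))
    haveI : Subsingleton (f.fromNormalization.fiber (f x)) :=
      (f.fromNormalization.fiberToSpecResidueField (f x)).homeomorph.injective.subsingleton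
    have hr : ∀ m, f.fromNormalization m = f x →
        ∃ z, f.fromNormalization.fiberι (f x) z = m := by
      intro m hm
      have h4 : m ∈ Set.range (f.fromNormalization.fiberι (f x)) := by
        rw [Scheme.Hom.range_fiberι]
        exact hm
      exact h4
    obtain ⟨z₁, rfl⟩ := hr n hn
    obtain ⟨z₂, hz₂⟩ := hr _ hux
    rw [Subsingleton.elim z₁ z₂, hz₂]
    exact hxV
  obtain ⟨U₁, hyU₁, hU₁⟩ := exists_preimage_le f.fromNormalization V (f x) hfib
  haveI hlft : LocallyOfFiniteType (V.ι ≫ f.fromNormalization) := by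
    have e : V.ι ≫ f.fromNormalization =
        inv (f.toNormalization ∣_ V) ≫ (f.toNormalization ⁻¹ᵁ V).ι ≫ f := by
      rw [IsIso.eq_inv_comp, ← Category.assoc, morphismRestrict_ι, Category.assoc, htu]
    rw [e]
    infer_instance
  haveI : LocallyOfFiniteType (f.fromNormalization ∣_ U₁) := by
    have e : (f.fromNormalization ∣_ U₁) ≫ U₁.ι =
        f.normalization.homOfLE hU₁ ≫ V.ι ≫ f.fromNormalization := by
      rw [morphismRestrict_ι, ← Category.assoc, Scheme.homOfLE_ι]
    haveI : LocallyOfFiniteType ((f.fromNormalization ∣_ U₁) ≫ U₁.ι) := by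
      rw [e]
      infer_instance
    exact locallyOfFiniteType_of_comp _ U₁.ι
  haveI : IsFinite (f.fromNormalization ∣_ U₁) :=
    (IsFinite.iff_isIntegralHom_and_locallyOfFiniteType _).mpr ⟨inferInstance, inferInstance⟩
  have sqp : IsPullback (f.fromNormalization ⁻¹ᵁ U₁).ι (f.fromNormalization ∣_ U₁)
      f.fromNormalization U₁.ι := (isPullback_morphismRestrict f.fromNormalization U₁).flip
  have hm : Mono ((f.fromNormalization ∣_ U₁).fiberToSpecResidueField ⟨f x, hyU₁⟩) :=
    (fiber_mono_iff sqp ⟨f x, hyU₁⟩).mpr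
      (inferInstance : Mono (f.fromNormalization.fiberToSpecResidueField (f x)))
  obtain ⟨U₂, hyU₂, hU₂⟩ :=
    exists_isClosedImmersion_of_mono_fiber (f.fromNormalization ∣_ U₁) ⟨f x, hyU₁⟩ hm
  haveI : IsDominant f.fromNormalization :=
    isDominant_of_genericPoint_mem_range _ ⟨_, hu_gen⟩
  haveI : Surjective f.fromNormalization :=
    surjective_of_isDominant_of_isClosed_range _ f.fromNormalization.isClosedMap.isClosed_range
  haveI : Surjective (f.fromNormalization ∣_ U₁ ∣_ U₂) :=
    IsZariskiLocalAtTarget.restrict (P := @Surjective)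
      (IsZariskiLocalAtTarget.restrict (P := @Surjective) inferInstance U₁) U₂
  haveI : IsIso (f.fromNormalization ∣_ U₁ ∣_ U₂) := isIso_of_isClosedImmersion_of_surjective _
  have hiso3 : IsIso (f.fromNormalization ∣_ (U₁.ι ''ᵁ U₂)) :=
    (MorphismProperty.isomorphisms.iff _).mp
      ((MorphismProperty.arrow_mk_iso_iff (MorphismProperty.isomorphisms Scheme.{u})
        (morphismRestrictRestrict f.fromNormalization U₁ U₂)).mp
          ((MorphismProperty.isomorphisms.iff _).mpr inferInstance))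
  refine ⟨U₁.ι ''ᵁ U₂, ⟨⟨f x, hyU₁⟩, hyU₂, rfl⟩, ?_⟩
  have hle : f.fromNormalization ⁻¹ᵁ (U₁.ι ''ᵁ U₂) ≤ V := by
    intro n hn
    obtain ⟨y', -, e⟩ := hn
    exact hU₁ (show f.fromNormalization n ∈ U₁ from e ▸ y'.2)
  haveI : IsIso (f.toNormalization ∣_ (f.fromNormalization ⁻¹ᵁ (U₁.ι ''ᵁ U₂))) :=
    (MorphismProperty.isomorphisms.iff _).mp
      (restrict_of_le (MorphismProperty.isomorphisms Scheme.{u}) f.toNormalization hle
        ((MorphismProperty.isomorphisms.iff _).mpr hViso))
  haveI := hiso3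
  have hcomp : IsIso (f.toNormalization ∣_ (f.fromNormalization ⁻¹ᵁ (U₁.ι ''ᵁ U₂)) ≫
      f.fromNormalization ∣_ (U₁.ι ''ᵁ U₂)) := inferInstance
  have hfin : IsIso ((f.toNormalization ≫ f.fromNormalization) ∣_ (U₁.ι ''ᵁ U₂)) := by
    rw [morphismRestrict_comp]
    exact hcomp
  rw [htu] at hfin
  exact hfin

/-- Global form: no quasi-compactness. -/
theorem exists_isIso_restrict_of_quasiFiniteAt' [IsIntegral X] [IsIntegral Y] (f : X ⟶ Y)
    [LocallyOfFiniteType f] [IsSeparated f]
    (hgen : f (genericPoint X) = genericPoint Y) (hbir : IsIso (f.stalkMap (genericPoint X)))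
    (x : X) (hx : f.QuasiFiniteAt x) (hy : IsIntegrallyClosed (Y.presheaf.stalk (f x))) :
    ∃ U : Y.Opens, f x ∈ U ∧ IsIso (f ∣_ U) := by
  obtain ⟨V₀, hV₀, hyV₀, -⟩ := exists_isAffineOpen_mem_and_subset (x := f x) (U := ⊤) trivial
  have hxV : x ∈ f ⁻¹ᵁ V₀ := hyV₀
  obtain ⟨X', hX', hxX', hX'V⟩ := exists_isAffineOpen_mem_and_subset hxV
  have hle : X' ≤ f ⁻¹ᵁ V₀ := hX'V
  haveI : Nonempty X' := ⟨⟨x, hxX'⟩⟩
  haveI : Nonempty V₀ := ⟨⟨f x, hyV₀⟩⟩
  haveI : IsAffine X'.toScheme := hX'
  haveI : IsAffine V₀.toScheme := hV₀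
  obtain ⟨g', hg'⟩ : ∃ g' : X'.toScheme ⟶ V₀.toScheme, g' = f.resLE V₀ X' hle := ⟨_, rfl⟩
  have hfac : g' ≫ V₀.ι = X'.ι ≫ f := by
    rw [hg']
    exact f.resLE_comp_ι hle
  have hcoe : ∀ z : X', (g' z).1 = f z.1 := by
    intro z
    rw [hg']
    exact f.coe_resLE_apply hle z
  have hstalk : ∀ z : X', IsIso (f.stalkMap z.1) → IsIso (g'.stalkMap z) := by
    intro z h1
    rw [hg']
    exact (MorphismProperty.isomorphisms.iff _).mp
      ((MorphismProperty.arrow_mk_iso_iff (MorphismProperty.isomorphisms CommRingCat.{u})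
        (f.resLEStalkMap hle z)).mpr ((MorphismProperty.isomorphisms.iff _).mpr h1))
  haveI : LocallyOfFiniteType g' := by
    haveI : LocallyOfFiniteType (g' ≫ V₀.ι) := by
      rw [hfac]
      infer_instance
    exact locallyOfFiniteType_of_comp _ V₀.ι
  have hηX : X'.ι (genericPoint X') = genericPoint X := genericPoint_eq_of_isOpenImmersion X'.ι
  have hηY : V₀.ι (genericPoint V₀) = genericPoint Y := genericPoint_eq_of_isOpenImmersion V₀.ι
  have hgen' : g' (genericPoint X') = genericPoint V₀ := by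
    apply V₀.ι.isOpenEmbedding.injective
    rw [← Scheme.Hom.comp_apply, hfac, Scheme.Hom.comp_apply, hηX, hgen, hηY]
  have hbir' : IsIso (g'.stalkMap (genericPoint X')) := by
    apply hstalk
    have e : (genericPoint X').1 = genericPoint X := hηX
    rw [e]
    exact hbir
  have hq' : g'.QuasiFiniteAt ⟨x, hxX'⟩ := by
    rw [← Scheme.Hom.quasiFiniteAt_comp_iff (g := V₀.ι), hfac,
      Scheme.Hom.quasiFiniteAt_comp_iff_of_isOpenImmersion]
    exact hx
  have hy' : IsIntegrallyClosed (V₀.toScheme.presheaf.stalk (g' ⟨x, hxX'⟩)) := by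
    have e : (g' ⟨x, hxX'⟩).1 = f x := hcoe ⟨x, hxX'⟩
    haveI h1 : IsIntegrallyClosed (Y.presheaf.stalk (g' ⟨x, hxX'⟩).1) := by
      rw [e]
      exact hy
    exact IsIntegrallyClosed.of_equiv (V₀.stalkIso (g' ⟨x, hxX'⟩)).symm.commRingCatIsoToRingEquiv
  obtain ⟨U', hyU', hU'iso⟩ :=
    exists_isIso_restrict_of_quasiFiniteAt g' hgen' hbir' ⟨x, hxX'⟩ hq' hy'
  haveI := hU'iso
  have w : ((g' ⁻¹ᵁ U').ι ≫ X'.ι) ≫ f = (g' ∣_ U') ≫ (U'.ι ≫ V₀.ι) := by
    rw [Category.assoc, ← hfac, ← Category.assoc, ← morphismRestrict_ι, Category.assoc]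
  obtain ⟨s, hs1, hs2⟩ : ∃ s : (g' ⁻¹ᵁ U').toScheme ⟶ pullback f (U'.ι ≫ V₀.ι),
      s ≫ pullback.fst f (U'.ι ≫ V₀.ι) = (g' ⁻¹ᵁ U').ι ≫ X'.ι ∧
      s ≫ pullback.snd f (U'.ι ≫ V₀.ι) = g' ∣_ U' :=
    ⟨pullback.lift _ _ w, pullback.lift_fst _ _ w, pullback.lift_snd _ _ w⟩
  haveI : IsClosedImmersion s := by
    haveI : IsClosedImmersion (s ≫ pullback.snd f (U'.ι ≫ V₀.ι)) := by
      rw [hs2]
      infer_instance
    exact IsClosedImmersion.of_comp s (pullback.snd f (U'.ι ≫ V₀.ι))
  haveI : IsOpenImmersion s := by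
    haveI : IsOpenImmersion (s ≫ pullback.fst f (U'.ι ≫ V₀.ι)) := by
      rw [hs1]
      infer_instance
    exact IsOpenImmersion.of_comp s (pullback.fst f (U'.ι ≫ V₀.ι))
  have x₁ : (g' ⁻¹ᵁ U').toScheme := ⟨⟨x, hxX'⟩, hyU'⟩
  haveI : Nonempty ↥(pullback f (U'.ι ≫ V₀.ι)) := ⟨s x₁⟩
  haveI : IsIntegral (pullback f (U'.ι ≫ V₀.ι)) :=
    isIntegral_of_isOpenImmersion (pullback.fst f (U'.ι ≫ V₀.ι))
  haveI : Surjective s := by
    constructor
    have hclopen : IsClopen (Set.range s) :=
      ⟨s.isClosedEmbedding.isClosed_range, s.isOpenEmbedding.isOpen_range⟩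
    have huniv := hclopen.eq_univ ⟨s x₁, x₁, rfl⟩
    intro z
    have hz : z ∈ Set.range s := huniv ▸ Set.mem_univ z
    exact hz
  haveI : IsIso s := (isIso_iff_isOpenImmersion_and_surjective s).mpr ⟨inferInstance, inferInstance⟩
  haveI : IsIso (pullback.snd f (U'.ι ≫ V₀.ι)) := by
    have e : pullback.snd f (U'.ι ≫ V₀.ι) = inv s ≫ (g' ∣_ U') := by
      rw [IsIso.eq_inv_comp, hs2]
    rw [e]
    infer_instance
  refine ⟨(U'.ι ≫ V₀.ι).opensRange, ?_, ?_⟩
  · exact ⟨⟨g' ⟨x, hxX'⟩, hyU'⟩,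
      (Scheme.Hom.comp_apply _ _ _).trans (hcoe ⟨x, hxX'⟩)⟩
  · exact (MorphismProperty.isomorphisms.iff _).mp
      ((MorphismProperty.arrow_mk_iso_iff (MorphismProperty.isomorphisms Scheme.{u})
        (morphismRestrictOpensRange f (U'.ι ≫ V₀.ι))).mpr
          ((MorphismProperty.isomorphisms.iff _).mpr inferInstance))

/-- An isolated point of a fibre is a point where `f` is quasi-finite. -/
lemma quasiFiniteAt_of_isOpen_singleton (f : X ⟶ Y) [LocallyOfFiniteType f] (y : Y)
    (x : f.fiber y) (hx : IsOpen ({x} : Set (f.fiber y))) :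
    f.QuasiFiniteAt (f.fiberι y x) ∧ f (f.fiberι y x) = y := by
  have hy : f (f.fiberι y x) = y := by
    have h1 : f.fiberι y x ∈ Set.range (f.fiberι y) := ⟨x, rfl⟩
    rw [f.range_fiberι] at h1
    exact h1
  refine ⟨?_, hy⟩
  obtain ⟨x₀, hx₀⟩ : ∃ x₀, f.fiberι y x = x₀ := ⟨_, rfl⟩
  rw [hx₀] at hy ⊢
  subst hy
  rw [Scheme.Hom.quasiFiniteAt_iff_isOpen_singleton_asFiber]
  have h2 : f.asFiber x₀ = x :=
    (f.fiberι (f x₀)).isEmbedding.injective (by rw [f.fiberι_asFiber, hx₀])
  rw [h2]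
  exact hx

end Schemes

end Groth.Agent.Helper5.BirNormal
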