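import Mathlib
import Groth.Agent.Lib.Helper5.BirNormal

/-!
# Birational separated finite-type morphisms are isomorphisms over valuation-ring points (helper5)
-/

set_option autoImplicit false
universe u
open CategoryTheory CategoryTheory.Limits AlgebraicGeometry
open Groth.Agent.Helper5.BirNormal

namespace Groth.Agent.Helper5.BirCodim1

/-- Domination lemma: a local homomorphism `φ : R → O` of local rings inside a common ring `K`
such that every element of `K` or its inverse comes from `R`, is bijective. -/
lemma bijective_of_dominates {R O K : Type*} [CommRing R] [CommRing O] [CommRing K]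
    [IsLocalRing R] [IsLocalRing O] (φ : R →+* O) [IsLocalHom φ] (j : O →+* K)
    (hj : Function.Injective j) (i : R →+* K) (hi : Function.Injective i)
    (hcomp : ∀ r, j (φ r) = i r)
    (hval : ∀ k : K, (∃ r, i r = k) ∨ (∃ r, i r * k = 1)) : Function.Bijective φ := by
  constructor
  · intro a b hab
    apply hi
    rw [← hcomp, ← hcomp, hab]
  · intro o
    rcases hval (j o) with ⟨r, hr⟩ | ⟨r, hr⟩
    · exact ⟨r, hj (by rw [hcomp, hr])⟩
    · have h1 : φ r * o = 1 := hj (by rw [map_mul, hcomp, hr, map_one])
      have h2 : IsUnit (φ r) := IsUnit.of_mul_eq_one _ h1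
      have h3 : IsUnit r := isUnit_of_map_unit φ r h2
      obtain ⟨u, rfl⟩ := h3
      refine ⟨↑u⁻¹, ?_⟩
      calc φ ↑u⁻¹ = φ ↑u⁻¹ * (φ ↑u * o) := by rw [h1, mul_one]
        _ = o := by rw [← mul_assoc, ← map_mul, Units.inv_mul, map_one, one_mul]

/-- A Noetherian normal local domain of dimension `≤ 1` is a valuation ring. -/
lemma valuationRing_of_normal_dim_le_one (R : Type*) [CommRing R] [IsDomain R] [IsLocalRing R]
    [IsNoetherianRing R] [IsIntegrallyClosed R] (h : ringKrullDim R ≤ 1) : ValuationRing R := by
  have h1 : Ring.KrullDimLE 1 R := Ring.krullDimLE_iff.mpr (by simpa using h)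
  have h2 := Ring.krullDimLE_one_iff_of_noZeroDivisors.mp h1
  have h3 : (IsIntegrallyClosed R ∧
      ∀ P : Ideal R, P ≠ ⊥ → P.IsPrime → P = IsLocalRing.maximalIdeal R) ↔ ValuationRing R :=
    (tfae_of_isNoetherianRing_of_isLocalRing_of_isDomain R).out 3 1
  exact h3.mp ⟨inferInstance, fun P hP hP' => IsLocalRing.eq_maximalIdeal (h2 P hP hP')⟩

variable {X Y : Scheme.{u}}

lemma stalkSpecializes_generic_valuation [IsIntegral Y] (z : Y)
    [ValuationRing (Y.presheaf.stalk z)] (y' : Y) (hy' : y' = genericPoint Y) (h : y' ⤳ z) :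
    Function.Injective (Y.presheaf.stalkSpecializes h).hom ∧
    ∀ k : Y.presheaf.stalk y', (∃ r, (Y.presheaf.stalkSpecializes h).hom r = k) ∨
      (∃ r, (Y.presheaf.stalkSpecializes h).hom r * k = 1) := by
  subst hy'
  have e : (Y.presheaf.stalkSpecializes h).hom =
      algebraMap (Y.presheaf.stalk z) Y.functionField := rfl
  rw [e]
  refine ⟨IsFractionRing.injective _ _, fun k => ?_⟩
  by_cases hk : k = 0
  · exact Or.inl ⟨0, by rw [map_zero, hk]⟩
  rcases ValuationRing.isInteger_or_isInteger (Y.presheaf.stalk z) (k : Y.functionField) with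
    ⟨r, hr⟩ | ⟨r, hr⟩
  · exact Or.inl ⟨r, hr⟩
  · refine Or.inr ⟨r, ?_⟩
    rw [hr]
    exact inv_mul_cancel₀ hk

/-- Main local statement: a separated, locally finite type, birational morphism of integral schemes
is an isomorphism over a neighbourhood of any point of the image whose local ring is a valuation
ring. -/
theorem exists_isIso_restrict_of_valuationRing [IsIntegral X] [IsIntegral Y]
    (f : X ⟶ Y) [LocallyOfFiniteType f] [IsSeparated f]
    (hgen : f (genericPoint X) = genericPoint Y) (hbir : IsIso (f.stalkMap (genericPoint X)))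
    (x : X) [ValuationRing (Y.presheaf.stalk (f x))]
    (hic : IsIntegrallyClosed (Y.presheaf.stalk (f x))) :
    ∃ U : Y.Opens, f x ∈ U ∧ IsIso (f ∣_ U) := by
  have h : genericPoint X ⤳ x := (genericPoint_spec X).specializes trivial
  have hnat := Scheme.Hom.stalkSpecializes_stalkMap f (genericPoint X) x h
  obtain ⟨hinj, hval⟩ := stalkSpecializes_generic_valuation (f x) (f (genericPoint X)) hgen
    (f.base.hom.map_specializes h)
  have hσ : Function.Bijective (f.stalkMap (genericPoint X)).hom :=
    (ConcreteCategory.isIso_iff_bijective _).mp hbir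
  let σ := RingEquiv.ofBijective (f.stalkMap (genericPoint X)).hom hσ
  have hιinj : Function.Injective (X.presheaf.stalkSpecializes h).hom := by
    have e : (X.presheaf.stalkSpecializes h).hom =
        algebraMap (X.presheaf.stalk x) X.functionField := rfl
    rw [e]
    exact IsFractionRing.injective _ _
  have hbij : Function.Bijective (f.stalkMap x).hom := by
    refine bijective_of_dominates (f.stalkMap x).hom
      ((σ.symm : _ →+* _).comp (X.presheaf.stalkSpecializes h).hom) ?_
      (Y.presheaf.stalkSpecializes (f.base.hom.map_specializes h)).hom hinj ?_ hval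
    · exact σ.symm.injective.comp hιinj
    · intro r
      change σ.symm ((X.presheaf.stalkSpecializes h).hom ((f.stalkMap x).hom r)) = _
      rw [RingEquiv.symm_apply_eq]
      exact (congr($hnat r)).symm
  have hqf : f.QuasiFiniteAt x :=
    RingHom.QuasiFinite.of_finite (RingHom.Finite.of_surjective _ hbij.2)
  exact exists_isIso_restrict_of_quasiFiniteAt' f hgen hbir x hqf hic

/-- Version with a point of the target (for surjective `f`). -/
theorem exists_isIso_restrict_of_valuationRing' [IsIntegral X] [IsIntegral Y]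
    (f : X ⟶ Y) [LocallyOfFiniteType f] [IsSeparated f] (hsurj : Function.Surjective f)
    (hgen : f (genericPoint X) = genericPoint Y) (hbir : IsIso (f.stalkMap (genericPoint X)))
    (y : Y) [ValuationRing (Y.presheaf.stalk y)]
    (hic : IsIntegrallyClosed (Y.presheaf.stalk y)) :
    ∃ U : Y.Opens, y ∈ U ∧ IsIso (f ∣_ U) := by
  obtain ⟨x, rfl⟩ := hsurj y
  exact exists_isIso_restrict_of_valuationRing f hgen hbir x hic

/-- A proper morphism hitting the generic point is surjective. -/
lemma surjective_of_isProper [IrreducibleSpace Y] (f : X ⟶ Y) [IsProper f]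
    (h : genericPoint Y ∈ Set.range f) : Function.Surjective f := by
  haveI : IsDominant f := isDominant_of_genericPoint_mem_range f h
  exact (surjective_of_isDominant_of_isClosed_range f f.isClosedMap.isClosed_range).surj

/-- Noetherian normal version. -/
theorem exists_isIso_restrict_of_dim_le_one [IsIntegral X] [IsIntegral Y]
    (f : X ⟶ Y) [IsProper f]
    (hgen : f (genericPoint X) = genericPoint Y) (hbir : IsIso (f.stalkMap (genericPoint X)))
    (y : Y) [IsNoetherianRing (Y.presheaf.stalk y)]
    (hic : IsIntegrallyClosed (Y.presheaf.stalk y)) (hdim : ringKrullDim (Y.presheaf.stalk y) ≤ 1) :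
    ∃ U : Y.Opens, y ∈ U ∧ IsIso (f ∣_ U) := by
  haveI := hic
  haveI : ValuationRing (Y.presheaf.stalk y) := valuationRing_of_normal_dim_le_one _ hdim
  exact exists_isIso_restrict_of_valuationRing' f (surjective_of_isProper f ⟨_, hgen⟩) hgen hbir y hic

/-- The largest open over which `f` is an isomorphism. -/
theorem exists_max_isIso_restrict (f : X ⟶ Y) :
    ∃ V : Y.Opens, IsIso (f ∣_ V) ∧ ∀ U : Y.Opens, IsIso (f ∣_ U) → U ≤ V := by
  let S : Set Y.Opens := {U | IsIso (f ∣_ U)}
  refine ⟨sSup S, ?_, fun U hU => le_sSup hU⟩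
  have key : ∀ (U : S) (W : Y.Opens), W = U.1 → IsIso (f ∣_ W) := by
    rintro U _ rfl
    exact U.2
  refine (MorphismProperty.isomorphisms.iff _).mp
    (IsZariskiLocalAtTarget.of_iSup_eq_top (P := MorphismProperty.isomorphisms Scheme.{u})
      (fun U : S => (sSup S).ι ⁻¹ᵁ U.1) ?_ fun U => ?_)
  · rw [eq_top_iff]
    intro z _
    obtain ⟨U, hU, hzU⟩ := TopologicalSpace.Opens.mem_sSup.mp z.2
    exact TopologicalSpace.Opens.mem_iSup.mpr ⟨⟨U, hU⟩, hzU⟩
  · refine (MorphismProperty.arrow_mk_iso_iff (MorphismProperty.isomorphisms Scheme.{u})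
      (morphismRestrictRestrict f (sSup S) ((sSup S).ι ⁻¹ᵁ U.1))).mpr
        ((MorphismProperty.isomorphisms.iff _).mpr (key U _ ?_))
    rw [Scheme.Hom.image_preimage_eq_opensRange_inf, Scheme.Opens.opensRange_ι, inf_eq_right]
    exact le_sSup U.2

end Groth.Agent.Helper5.BirCodim1
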