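import Mathlib
import Groth.Agent.S12444
import Groth.Prelude.Def_Found

/-!
# Catenary spaces vs catenary rings (helper5)

Poset lemmas comparing the "codimension" formulation of catenarity (`Groth.Agent.S12444.CatPair`)
on the dual poset with the ring-style formulation (`Cat2`), transfer along order isomorphisms,
homeomorphisms, localizations, and the comparison for affine opens of a scheme.
-/

set_option autoImplicit false
universe u

namespace Groth.Agent.Helper5.Catenary

open Groth.Agent.S12444 TopologicalSpace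

section Poset
variable {P : Type*} [PartialOrder P]

/-- saturated chain -/
def Sat (s : LTSeries P) : Prop :=
  ∀ i : Fin s.length, s (Fin.castSucc i) ⋖ s (Fin.succ i)

/-- ring-style catenary condition for a pair -/
def Cat2 (p q : P) : Prop :=
  (∃ n : ℕ, ∀ s : LTSeries P, s.head = p → s.last = q → s.length ≤ n) ∧
  ∀ s t : LTSeries P, s.head = p → s.last = q → t.head = p → t.last = q →
    Sat s → Sat t → s.length = t.length

/-- reverse a chain into the dual order -/
def rev (s : LTSeries P) : LTSeries Pᵒᵈ :=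
  LTSeries.mk s.length (fun i => OrderDual.toDual (s (Fin.rev i)))
    (fun i j hij => by
      show s (Fin.rev j) < s (Fin.rev i)
      exact s.strictMono (Fin.rev_lt_rev.mpr hij))

lemma rev_head (s : LTSeries P) : (rev s).head = OrderDual.toDual s.last := by
  show OrderDual.toDual (s (Fin.rev 0)) = OrderDual.toDual (s (Fin.last _))
  rw [Fin.rev_zero]

lemma rev_last (s : LTSeries P) : (rev s).last = OrderDual.toDual s.head := by
  show OrderDual.toDual (s (Fin.rev (Fin.last _))) = OrderDual.toDual (s 0)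
  rw [Fin.rev_last]

lemma rev_sat (s : LTSeries P) (hs : Sat s) : Sat (rev s) := by
  intro i
  show OrderDual.toDual (s (Fin.rev (Fin.castSucc i))) ⋖
    OrderDual.toDual (s (Fin.rev (Fin.succ i)))
  rw [toDual_covBy_toDual_iff, Fin.rev_succ, Fin.rev_castSucc]
  exact hs (Fin.rev i)

/-- reverse a chain of the dual order -/
def rev' (t : LTSeries Pᵒᵈ) : LTSeries P :=
  LTSeries.mk t.length (fun i => OrderDual.ofDual (t (Fin.rev i)))
    (fun i j hij => by
      have h := t.strictMono (Fin.rev_lt_rev.mpr hij)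
      exact h)

lemma rev'_head (t : LTSeries Pᵒᵈ) : (rev' t).head = OrderDual.ofDual t.last := by
  show OrderDual.ofDual (t (Fin.rev 0)) = OrderDual.ofDual (t (Fin.last _))
  rw [Fin.rev_zero]

lemma rev'_last (t : LTSeries Pᵒᵈ) : (rev' t).last = OrderDual.ofDual t.head := by
  show OrderDual.ofDual (t (Fin.rev (Fin.last _))) = OrderDual.ofDual (t 0)
  rw [Fin.rev_last]

lemma rev'_sat (t : LTSeries Pᵒᵈ) (ht : Sat t) : Sat (rev' t) := by
  intro i
  show OrderDual.ofDual (t (Fin.rev (Fin.castSucc i))) ⋖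
    OrderDual.ofDual (t (Fin.rev (Fin.succ i)))
  rw [ofDual_covBy_ofDual_iff, Fin.rev_succ, Fin.rev_castSucc]
  exact ht (Fin.rev i)

lemma insertNth_head (p : LTSeries P) (i : Fin p.length) (a : P)
    (h1 : p (Fin.castSucc i) < a) (h2 : a < p i.succ) :
    (p.insertNth i a h1 h2).head = p.head := by
  show Fin.insertNth (α := fun _ => P) (Fin.castSucc i.succ) a p 0 = p 0
  rw [Fin.insertNth_apply_below (h := by simp [Fin.lt_def])]
  simp

lemma insertNth_last (p : LTSeries P) (i : Fin p.length) (a : P)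
    (h1 : p (Fin.castSucc i) < a) (h2 : a < p i.succ) :
    (p.insertNth i a h1 h2).last = p.last := by
  show Fin.insertNth (α := fun _ => P) (Fin.castSucc i.succ) a p (Fin.last _) = p (Fin.last _)
  rw [Fin.insertNth_apply_above (h := by simp [Fin.lt_def])]
  simp only [eq_rec_constant]
  congr 1

lemma sat_of_max (a b : P) (c : LTSeries P) (h1 : c.head = a) (h2 : c.last = b)
    (hmax : ∀ s : LTSeries P, s.head = a → s.last = b → s.length ≤ c.length) : Sat c := by
  intro i
  by_contra hcov
  have hlt : c (Fin.castSucc i) < c (Fin.succ i) := c.step i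
  obtain ⟨z, hz1, hz2⟩ := (not_covBy_iff hlt).mp hcov
  have := hmax (c.insertNth i z hz1 hz2) (by rw [insertNth_head]; exact h1)
    (by rw [insertNth_last]; exact h2)
  have hlen : (c.insertNth i z hz1 hz2).length = c.length + 1 := rfl
  omega

lemma exists_max_chain (a b : P) (n : ℕ)
    (hb : ∀ s : LTSeries P, s.head = a → s.last = b → s.length ≤ n)
    (s₀ : LTSeries P) (h1 : s₀.head = a) (h2 : s₀.last = b) :
    ∃ c : LTSeries P, c.head = a ∧ c.last = b ∧
      ∀ s : LTSeries P, s.head = a → s.last = b → s.length ≤ c.length := by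
  let L : Set ℕ := {m | ∃ s : LTSeries P, s.head = a ∧ s.last = b ∧ s.length = m}
  have hne : L.Nonempty := ⟨_, s₀, h1, h2, rfl⟩
  have hbdd : BddAbove L := ⟨n, by rintro m ⟨s, hs1, hs2, rfl⟩; exact hb s hs1 hs2⟩
  obtain ⟨c, hc1, hc2, hc3⟩ := Nat.sSup_mem hne hbdd
  refine ⟨c, hc1, hc2, fun s hs1 hs2 => ?_⟩
  rw [hc3]
  exact le_csSup hbdd ⟨s, hs1, hs2, rfl⟩

/-- the codimension formulation on the dual poset agrees with the ring-style formulation -/
lemma catPair_dual_iff (p q : P) (_hpq : p ≤ q) :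
    CatPair (OrderDual.toDual q) (OrderDual.toDual p) ↔ Cat2 p q := by
  constructor
  · rintro ⟨hfin, hsat⟩
    refine ⟨⟨(cd (OrderDual.toDual q) (OrderDual.toDual p)).toNat, fun s h1 h2 => ?_⟩,
      fun s t hs1 hs2 ht1 ht2 hss hst => ?_⟩
    · have hle : ((rev s).length : ℕ∞) ≤ cd (OrderDual.toDual q) (OrderDual.toDual p) := by
        unfold cd
        exact le_iSup₂_of_le (rev s) ⟨by rw [rev_head, h2], by rw [rev_last, h1]⟩ le_rfl
      have h3 := ENat.toNat_le_toNat hle hfin
      rw [ENat.toNat_natCast] at h3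
      exact h3
    · have e1 := hsat (rev s) (by rw [rev_head, hs2]) (by rw [rev_last, hs1]) (rev_sat s hss)
      have e2 := hsat (rev t) (by rw [rev_head, ht2]) (by rw [rev_last, ht1]) (rev_sat t hst)
      have e3 : ((rev s).length : ℕ∞) = ((rev t).length : ℕ∞) := e1.trans e2.symm
      have e4 : (rev s).length = (rev t).length := by exact_mod_cast e3
      exact e4
  · rintro ⟨⟨n, hn⟩, heq⟩
    have hbound : ∀ u : LTSeries Pᵒᵈ, u.head = OrderDual.toDual q → u.last ≤ OrderDual.toDual p →
        ∃ u' : LTSeries Pᵒᵈ, u'.head = OrderDual.toDual q ∧ u'.last = OrderDual.toDual p ∧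
          u.length ≤ u'.length := by
      intro u hu1 hu2
      rcases hu2.eq_or_lt with h | h
      · exact ⟨u, hu1, h, le_rfl⟩
      · refine ⟨u.snoc (OrderDual.toDual p) h, ?_, RelSeries.last_snoc _ _ _, ?_⟩
        · rw [RelSeries.head_snoc]; exact hu1
        · rw [RelSeries.snoc_length]; exact Nat.le_succ _
    have hrev : ∀ u' : LTSeries Pᵒᵈ, u'.head = OrderDual.toDual q → u'.last = OrderDual.toDual p →
        (rev' u').head = p ∧ (rev' u').last = q := by
      intro u' h1 h2
      exact ⟨by rw [rev'_head, h2]; rfl, by rw [rev'_last, h1]; rfl⟩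
    have hcd : cd (OrderDual.toDual q) (OrderDual.toDual p) ≤ n := by
      unfold cd
      apply iSup₂_le
      rintro u ⟨hu1, hu2⟩
      obtain ⟨u', hu'1, hu'2, hle⟩ := hbound u hu1 hu2
      have h3 : (rev' u').length ≤ n := hn (rev' u') (hrev u' hu'1 hu'2).1 (hrev u' hu'1 hu'2).2
      have h4 : u.length ≤ n := hle.trans h3
      exact_mod_cast h4
    refine ⟨ne_top_of_le_ne_top (ENat.natCast_ne_top n) hcd, fun t ht1 ht2 htsat => ?_⟩
    apply le_antisymm
    · unfold cd
      exact le_iSup₂_of_le t ⟨ht1, ht2.le⟩ le_rfl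
    · unfold cd
      apply iSup₂_le
      rintro u ⟨hu1, hu2⟩
      obtain ⟨u', hu'1, hu'2, hle⟩ := hbound u hu1 hu2
      obtain ⟨c, hc1, hc2, hcmax⟩ := exists_max_chain p q n hn (rev' u')
        (hrev u' hu'1 hu'2).1 (hrev u' hu'1 hu'2).2
      have hcsat := sat_of_max p q c hc1 hc2 hcmax
      have e := heq (rev' t) c (hrev t ht1 ht2).1 (hrev t ht1 ht2).2 hc1 hc2
        (rev'_sat t htsat) hcsat
      have h3 := hcmax (rev' u') (hrev u' hu'1 hu'2).1 (hrev u' hu'1 hu'2).2
      have h4 : u.length ≤ t.length := by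
        calc u.length ≤ u'.length := hle
          _ = (rev' u').length := rfl
          _ ≤ c.length := h3
          _ = (rev' t).length := e.symm
          _ = t.length := rfl
      exact_mod_cast h4

end Poset

lemma cat_transfer {P Q : Type*} [PartialOrder P] [PartialOrder Q] (f : Q → P)
    (hf : ∀ a b, f a ≤ f b ↔ a ≤ b) (hsurj : Function.Surjective f) :
    (∀ a b : P, a ≤ b → CatPair a b) ↔ (∀ a b : Q, a ≤ b → CatPair a b) := by
  have hconv : ∀ (a c : Q) (b : P), f a ≤ b → b ≤ f c → ∃ b', f b' = b :=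
    fun _ _ b _ _ => hsurj b
  constructor
  · intro h a b hab
    exact (catPair_iff f hf hconv a b).mp (h _ _ ((hf a b).mpr hab))
  · intro h a b hab
    obtain ⟨a', rfl⟩ := hsurj a
    obtain ⟨b', rfl⟩ := hsurj b
    exact (catPair_iff f hf hconv a' b').mpr (h _ _ ((hf a' b').mp hab))

section Top
variable {X Y : Type u} [TopologicalSpace X] [TopologicalSpace Y]

/-- image of an irreducible closed set under a homeomorphism -/
def icMap (h : X ≃ₜ Y) (T : IrreducibleCloseds X) : IrreducibleCloseds Y :=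
  ⟨h '' (T : Set X), T.isIrreducible.image h h.continuous.continuousOn,
    h.isClosedMap _ T.isClosed⟩

lemma cat_homeo (h : X ≃ₜ Y) : PtTop.IsCatenarySpace X ↔ PtTop.IsCatenarySpace Y := by
  rw [isCat_iff, isCat_iff]
  refine (cat_transfer (icMap h) ?_ ?_).symm
  · intro a b
    show h '' (a : Set X) ⊆ h '' (b : Set X) ↔ a ≤ b
    rw [Set.image_subset_image_iff h.injective]
    exact SetLike.coe_subset_coe
  · intro b
    refine ⟨icMap h.symm b, ?_⟩
    apply IrreducibleCloseds.ext
    show h '' (h.symm '' (b : Set Y)) = b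
    exact h.image_symm_image _

end Top

section Ring
variable (R : Type u) [CommRing R]

/-- catenarity of a ring in the codimension formulation on the dual of the spectrum -/
def CatD : Prop := ∀ a b : (PrimeSpectrum R)ᵒᵈ, a ≤ b → CatPair a b

lemma catSpace_iff_catD : PtTop.IsCatenarySpace (PrimeSpectrum R) ↔ CatD R := by
  rw [isCat_iff]
  refine cat_transfer (fun a : (PrimeSpectrum R)ᵒᵈ =>
    OrderDual.ofDual (PrimeSpectrum.pointsEquivIrreducibleCloseds R (OrderDual.ofDual a))) ?_ ?_
  · intro a b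
    show PrimeSpectrum.pointsEquivIrreducibleCloseds R (OrderDual.ofDual b) ≤
      PrimeSpectrum.pointsEquivIrreducibleCloseds R (OrderDual.ofDual a) ↔ a ≤ b
    rw [(PrimeSpectrum.pointsEquivIrreducibleCloseds R).le_iff_le]
    exact Iff.rfl
  · intro T
    obtain ⟨p, hp⟩ := (PrimeSpectrum.pointsEquivIrreducibleCloseds R).surjective
      (OrderDual.toDual T)
    refine ⟨OrderDual.toDual p, ?_⟩
    show OrderDual.ofDual (PrimeSpectrum.pointsEquivIrreducibleCloseds R p) = T
    rw [hp]
    rfl

lemma catD_iff : CatD R ↔ CAlg.IsCatenary R := by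
  constructor
  · intro h
    have h2 : ∀ p q : PrimeSpectrum R, p ≤ q → Cat2 p q := fun p q hpq =>
      (catPair_dual_iff p q hpq).mp (h (OrderDual.toDual q) (OrderDual.toDual p) hpq)
    refine ⟨fun p q hpq => (h2 p q hpq).1, fun s t hh hl hs ht => ?_⟩
    have hpq : s.head ≤ s.last := s.head_le (Fin.last _)
    exact (h2 s.head s.last hpq).2 s t rfl rfl hh.symm hl.symm hs ht
  · rintro ⟨h1, h2⟩ a b hab
    have hpq : OrderDual.ofDual b ≤ OrderDual.ofDual a := hab
    exact (catPair_dual_iff (OrderDual.ofDual b) (OrderDual.ofDual a) hpq).mpr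
      ⟨h1 _ _ hpq, fun s t hs1 hs2 ht1 ht2 hss hst =>
        h2 s t (hs1.trans ht1.symm) (hs2.trans ht2.symm) hss hst⟩

lemma catSpace_iff : PtTop.IsCatenarySpace (PrimeSpectrum R) ↔ CAlg.IsCatenary R :=
  (catSpace_iff_catD R).trans (catD_iff R)

variable {R} {S : Type u} [CommRing S] [Algebra R S]

/-- the map on (dual) spectra induced by `R → S` -/
def locMap (a : (PrimeSpectrum S)ᵒᵈ) : (PrimeSpectrum R)ᵒᵈ :=
  OrderDual.toDual (PrimeSpectrum.comap (algebraMap R S) (OrderDual.ofDual a))

variable (p : Ideal R) [p.IsPrime] [IsLocalization.AtPrime S p]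

include p in
lemma locMap_le_iff (a b : (PrimeSpectrum S)ᵒᵈ) :
    locMap (R := R) a ≤ locMap (R := R) b ↔ a ≤ b := by
  constructor
  · intro h
    have h' : (OrderDual.ofDual b).asIdeal.comap (algebraMap R S) ≤
        (OrderDual.ofDual a).asIdeal.comap (algebraMap R S) := h
    show (OrderDual.ofDual b).asIdeal ≤ (OrderDual.ofDual a).asIdeal
    rw [← IsLocalization.map_under p.primeCompl S (OrderDual.ofDual b).asIdeal,
      ← IsLocalization.map_under p.primeCompl S (OrderDual.ofDual a).asIdeal]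
    exact Ideal.map_mono h'
  · intro h
    exact Ideal.comap_mono (show (OrderDual.ofDual b).asIdeal ≤ (OrderDual.ofDual a).asIdeal from h)

include p in
lemma exists_locMap_eq (b : (PrimeSpectrum R)ᵒᵈ) (hb : (OrderDual.ofDual b).asIdeal ≤ p) :
    ∃ b' : (PrimeSpectrum S)ᵒᵈ, locMap (R := R) b' = b := by
  have : OrderDual.ofDual b ∈ Set.range (PrimeSpectrum.comap (algebraMap R S)) := by
    rw [PrimeSpectrum.localization_comap_range S p.primeCompl]
    show Disjoint ((p : Set R)ᶜ) ((OrderDual.ofDual b).asIdeal : Set R)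
    rw [Set.disjoint_compl_left_iff_subset]
    exact hb
  obtain ⟨q, hq⟩ := this
  exact ⟨OrderDual.toDual q, congrArg OrderDual.toDual hq⟩

include p in
lemma comap_le (a : PrimeSpectrum S) :
    (PrimeSpectrum.comap (algebraMap R S) a).asIdeal ≤ p := by
  have : PrimeSpectrum.comap (algebraMap R S) a ∈
      Set.range (PrimeSpectrum.comap (algebraMap R S)) := ⟨a, rfl⟩
  rw [PrimeSpectrum.localization_comap_range S p.primeCompl] at this
  have h2 : Disjoint ((p : Set R)ᶜ)
      ((PrimeSpectrum.comap (algebraMap R S) a).asIdeal : Set R) := this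
  rw [Set.disjoint_compl_left_iff_subset] at h2
  exact h2

include p in
lemma locMap_conv (a c : (PrimeSpectrum S)ᵒᵈ) (b : (PrimeSpectrum R)ᵒᵈ)
    (h1 : locMap (R := R) a ≤ b) (_h2 : b ≤ locMap (R := R) c) :
    ∃ b' : (PrimeSpectrum S)ᵒᵈ, locMap (R := R) b' = b := by
  apply exists_locMap_eq p b
  have h1' : (OrderDual.ofDual b).asIdeal ≤
      (PrimeSpectrum.comap (algebraMap R S) (OrderDual.ofDual a)).asIdeal := h1
  exact h1'.trans (comap_le p _)

include p in
lemma catD_localization (h : CatD R) : CatD S := by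
  intro a b hab
  exact (catPair_iff (locMap (R := R) (S := S)) (locMap_le_iff p) (locMap_conv p) a b).mp
    (h _ _ ((locMap_le_iff p a b).mpr hab))

include p in
lemma catPair_of_localization (h : CatD S) (a b : (PrimeSpectrum R)ᵒᵈ) (hab : a ≤ b)
    (ha : (OrderDual.ofDual a).asIdeal = p) : CatPair a b := by
  have hb : (OrderDual.ofDual b).asIdeal ≤ p := by
    have hab' : (OrderDual.ofDual b).asIdeal ≤ (OrderDual.ofDual a).asIdeal := hab
    exact hab'.trans ha.le
  obtain ⟨a', rfl⟩ := exists_locMap_eq (S := S) p a ha.le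
  obtain ⟨b', rfl⟩ := exists_locMap_eq (S := S) p b hb
  exact (catPair_iff (locMap (R := R) (S := S)) (locMap_le_iff p) (locMap_conv p) a' b').mpr
    (h a' b' ((locMap_le_iff p a' b').mp hab))

end Ring

section Scheme
open AlgebraicGeometry
variable {X : Scheme.{u}}

lemma catSpace_affine_iff {U : X.Opens} (hU : IsAffineOpen U) :
    PtTop.IsCatenarySpace ↥U ↔ CAlg.IsCatenary Γ(X, U) := by
  have h : ↥U ≃ₜ PrimeSpectrum Γ(X, U) := hU.isoSpec.hom.homeomorph
  rw [cat_homeo h]
  exact catSpace_iff _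

end Scheme

end Groth.Agent.Helper5.Catenary
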