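import Groth.Prelude.Def_FEt
import Mathlib

set_option autoImplicit false
universe u

namespace Groth.Agent.Helper5.FEtFaithful

open CategoryTheory CategoryTheory.Limits AlgebraicGeometry

/-- Core lemma: two morphisms of finite étale `Y`-schemes that agree after base change along
`f : X ⟶ Y`, where the image of `f` meets every nonempty clopen subset of `Y`, are equal. -/
theorem eq_of_fst_comp_eq {X Y Z₁ Z₂ : Scheme.{u}} (f : X ⟶ Y) (a : Z₁ ⟶ Y) (b : Z₂ ⟶ Y)
    [IsFinite a] [Etale a] [IsFinite b] [Etale b]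
    (hf : ∀ V : Set Y, IsClopen V → V.Nonempty → (V ∩ Set.range f).Nonempty)
    (φ ψ : Z₁ ⟶ Z₂) (hφ : φ ≫ b = a) (hψ : ψ ≫ b = a)
    (h : pullback.fst a f ≫ φ = pullback.fst a f ≫ ψ) : φ = ψ := by
  -- the "equalizer" as base change of the diagonal
  let p : Z₁ ⟶ pullback b b := pullback.lift φ ψ (hφ.trans hψ.symm)
  let ι : pullback p (pullback.diagonal b) ⟶ Z₁ := pullback.fst p (pullback.diagonal b)
  have hι : ι ≫ φ = ι ≫ ψ := by
    have h1 : ι ≫ φ = pullback.snd p (pullback.diagonal b) := by
      have : ι ≫ φ = (ι ≫ p) ≫ pullback.fst b b := by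
        simp only [p, Category.assoc, pullback.lift_fst]
      rw [this, pullback.condition, Category.assoc, pullback.diagonal_fst, Category.comp_id]
    have h2 : ι ≫ ψ = pullback.snd p (pullback.diagonal b) := by
      have : ι ≫ ψ = (ι ≫ p) ≫ pullback.snd b b := by
        simp only [p, Category.assoc, pullback.lift_snd]
      rw [this, pullback.condition, Category.assoc, pullback.diagonal_snd, Category.comp_id]
    rw [h1, h2]
  have hfac : ∀ {T : Scheme.{u}} (k : T ⟶ Z₁), k ≫ φ = k ≫ ψ → ∃ k' : T ⟶ _, k' ≫ ι = k := by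
    intro T k hk
    refine ⟨pullback.lift k (k ≫ φ) ?_, pullback.lift_fst _ _ _⟩
    apply pullback.hom_ext
    · simp only [p, Category.assoc, pullback.lift_fst, pullback.diagonal_fst, Category.comp_id]
    · simp only [p, Category.assoc, pullback.lift_snd, pullback.diagonal_snd, Category.comp_id, hk]
  have : IsOpenImmersion ι := inferInstance
  have : IsClosedImmersion ι := inferInstance
  -- the complement of the range of ι is clopen
  have hclopen : IsClopen (Set.range ι)ᶜ :=
    ⟨ι.isOpenEmbedding.isOpen_range.isClosed_compl, ι.isClosedEmbedding.isClosed_range.isOpen_compl⟩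
  have hsurj : Function.Surjective ι := by
    by_contra hns
    have hne : ((Set.range ι)ᶜ).Nonempty := by
      rw [Set.nonempty_compl]
      intro h'
      exact hns (Set.range_eq_univ.1 h')
    have hV : IsClopen (a '' (Set.range ι)ᶜ) :=
      ⟨a.isClosedMap _ hclopen.1, a.isOpenMap _ hclopen.2⟩
    obtain ⟨y, ⟨z, hz, rfl⟩, ⟨x, hx⟩⟩ := hf _ hV (hne.image _)
    obtain ⟨w, hw, -⟩ := Scheme.Pullback.exists_preimage_pullback (f := a) (g := f) z x hx.symm
    obtain ⟨k', hk'⟩ := hfac (pullback.fst a f) h
    apply hz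
    refine ⟨k' w, ?_⟩
    rw [← hw, ← hk']
    rfl
  have : IsIso ι := (isIso_iff_isOpenImmersion_and_surjective ι).2 ⟨inferInstance, ⟨hsurj⟩⟩
  exact (cancel_epi ι).1 hι

theorem restrict_faithful {X Y : Scheme.{u}} (f : X ⟶ Y)
    (hf : ∀ V : Set Y, IsClopen V → V.Nonempty → (V ∩ Set.range f).Nonempty) :
    (FEt.restrict f).Faithful := by
  constructor
  intro A B φ ψ h
  have hA := A.prop
  have hB := B.prop
  have : IsFinite A.hom := hA.1
  have : Etale A.hom := hA.2
  have : IsFinite B.hom := hB.1
  have : Etale B.hom := hB.2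
  have h1 : ((FEt.restrict f).map φ).left ≫ pullback.fst B.hom f =
      ((FEt.restrict f).map ψ).left ≫ pullback.fst B.hom f := by rw [h]
  have h2 : pullback.fst A.hom f ≫ φ.left = pullback.fst A.hom f ≫ ψ.left := by
    have h3 : ∀ χ : A ⟶ B, ((FEt.restrict f).map χ).left ≫ pullback.fst B.hom f =
        pullback.fst A.hom f ≫ χ.left := by
      intro χ
      exact pullback.lift_fst _ _ _
    rw [h3, h3] at h1
    exact h1
  have := eq_of_fst_comp_eq f A.hom B.hom hf φ.left ψ.left (by simp) (by simp) h2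
  ext
  exact this

end Groth.Agent.Helper5.FEtFaithful
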