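import Mathlib

/-!
# Geometric properties of fibres and base change (helper5)

`geom_descent`: if `q' : Z' ⟶ S'` is a base change of `q : Z ⟶ S` along `S' ⟶ S`, with `S` the
spectrum of a field (integral with one point) and `S'` nonempty, and `P` descends along flat
surjective morphisms, then `geometrically P q' → geometrically P q`.

`geom_fiber_iff`: for a cartesian square, the fibre of `f'` at `y'` is geometrically `P` iff the
fibre of `f` at `g y'` is.
-/

open AlgebraicGeometry CategoryTheory Limits

namespace Groth.Agent.Helper5.GeomFib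

universe u

theorem isReduced_of_flat_of_surjective {W Z : Scheme.{u}} (π : W ⟶ Z) [Flat π] [Surjective π]
    [IsReduced W] : IsReduced Z := by
  haveI : ∀ z : Z, _root_.IsReduced (Z.presheaf.stalk z) := by
    intro z
    obtain ⟨w, rfl⟩ := π.surjective z
    algebraize [(π.stalkMap w).hom]
    have : Module.FaithfullyFlat (Z.presheaf.stalk (π w)) (W.presheaf.stalk w) :=
      @Module.FaithfullyFlat.of_flat_of_isLocalHom _ _ _ _ _ _ _
        (Flat.stalkMap π w) (π.toLRSHom.prop w)
    have hinj : Function.Injective (π.stalkMap w).hom := ‹RingHom.FaithfullyFlat _›.injective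
    exact isReduced_of_injective (π.stalkMap w).hom hinj
  exact isReduced_of_isReduced_stalk Z

theorem geom_descent (P : ObjectProperty Scheme.{u})
    (HP : ∀ {W Z : Scheme.{u}} (π : W ⟶ Z), Surjective π → Flat π → P W → P Z)
    {S S' Z Z' : Scheme.{u}} [IsIntegral S] [Subsingleton S] [Nonempty S']
    (φ : S' ⟶ S) (q : Z ⟶ S) (q' : Z' ⟶ S') (p : Z' ⟶ Z)
    (h : IsPullback p q' q φ) (hq' : geometrically P q') : geometrically P q := by
  rw [geometrically_eq_universally] at hq' ⊢
  intro V T fst z snd hV hTint hTsub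
  have hV' : IsPullback fst snd q z := hV.flip
  haveI : Surjective φ := ⟨fun s => ⟨Classical.arbitrary _, Subsingleton.elim _ _⟩⟩
  obtain ⟨t₀⟩ : Nonempty T := hTint.nonempty
  obtain ⟨t, -⟩ := (pullback.fst z φ).surjective t₀
  obtain ⟨a, ha⟩ : ∃ a : Spec ((pullback z φ).residueField t) ⟶ T,
    a = (pullback z φ).fromSpecResidueField t ≫ pullback.fst z φ := ⟨_, rfl⟩
  obtain ⟨b, hb⟩ : ∃ b : Spec ((pullback z φ).residueField t) ⟶ S',
    b = (pullback z φ).fromSpecResidueField t ≫ pullback.snd z φ := ⟨_, rfl⟩
  have hab : a ≫ z = b ≫ φ := by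
    rw [ha, hb, Category.assoc, Category.assoc, pullback.condition]
  haveI : Subsingleton ↥(Spec ((pullback z φ).residueField t)) :=
    inferInstanceAs (Subsingleton (PrimeSpectrum ((pullback z φ).residueField t)))
  haveI : Surjective a :=
    ⟨fun s => ⟨IsLocalRing.closedPoint ((pullback z φ).residueField t), Subsingleton.elim _ _⟩⟩
  haveI : Flat a := inferInstance
  have h1 : IsPullback (pullback.fst snd a ≫ fst) (pullback.snd snd a) q (a ≫ z) :=
    (IsPullback.of_hasPullback snd a).paste_horiz hV'
  have h1' : IsPullback (pullback.fst snd a ≫ fst) (pullback.snd snd a) q (b ≫ φ) := by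
    rw [← hab]; exact h1
  have hw : (pullback.fst snd a ≫ fst) ≫ q = (pullback.snd snd a ≫ b) ≫ φ :=
    h1'.w.trans (Category.assoc _ _ _).symm
  have h2 : IsPullback (h.lift _ _ hw) (pullback.snd snd a) q' b := by
    refine IsPullback.of_right ?_ (h.lift_snd _ _ _) h
    rw [h.lift_fst]; exact h1'
  have PW : P (pullback snd a) :=
    hq' (h.lift _ _ hw) b (pullback.snd snd a) h2.flip inferInstance inferInstance
  exact HP (pullback.fst snd a) inferInstance inferInstance PW

theorem geom_fiber_iff (P : ObjectProperty Scheme.{u})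
    (HP : ∀ {W Z : Scheme.{u}} (π : W ⟶ Z), Surjective π → Flat π → P W → P Z)
    {X Y X' Y' : Scheme.{u}} (f : X ⟶ Y) (g : Y' ⟶ Y) (f' : X' ⟶ Y') (g' : X' ⟶ X)
    (hc : IsPullback g' f' f g) (y' : Y') :
    geometrically P (f'.fiberToSpecResidueField y') ↔
      geometrically P (f.fiberToSpecResidueField (g y')) := by
  have hsq := isPullback_fiberToSpecResidueField_of_isPullback hc y'
  haveI : Subsingleton ↥(Spec (Y.residueField (g y'))) :=
    inferInstanceAs (Subsingleton (PrimeSpectrum (Y.residueField (g y'))))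
  haveI : Nonempty ↥(Spec (Y'.residueField y')) :=
    ⟨IsLocalRing.closedPoint (Y'.residueField y')⟩
  constructor
  · intro h
    exact geom_descent P HP _ _ _ _ hsq h
  · intro h
    exact MorphismProperty.of_isPullback hsq h

end Groth.Agent.Helper5.GeomFib
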