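import Mathlib
import Groth.Prelude.Def_Grpd

/-!
# Helper library for groupoid schemes (helper5)

`cmp G α β h` is the composite `α ∘ β` of two `T`-points of `R` with `s(α) = t(β)`;
the groupoid axioms are restated for `cmp`, together with the usual cancellation rules.
-/

set_option autoImplicit false
universe u
open CategoryTheory CategoryTheory.Limits AlgebraicGeometry

namespace Groth.Agent.Helper5.GrpdLib

variable {S : Scheme.{u}} (G : Grpd.GroupoidScheme S)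

/-- composite of `T`-points -/
noncomputable def cmp {T : Scheme.{u}} (α β : T ⟶ G.R) (h : α ≫ G.s = β ≫ G.t) : T ⟶ G.R :=
  pullback.lift α β h ≫ G.c

variable {G}
variable {T : Scheme.{u}}

lemma cmp_s (α β : T ⟶ G.R) (h : α ≫ G.s = β ≫ G.t) : cmp G α β h ≫ G.s = β ≫ G.s :=
  G.comp_s α β h

lemma cmp_t (α β : T ⟶ G.R) (h : α ≫ G.s = β ≫ G.t) : cmp G α β h ≫ G.t = α ≫ G.t :=
  G.comp_t α β h

lemma cmp_congr {α α' β β' : T ⟶ G.R} (hα : α = α') (hβ : β = β') (h : α ≫ G.s = β ≫ G.t) :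
    cmp G α β h = cmp G α' β' (by rw [← hα, ← hβ]; exact h) := by
  subst hα hβ; rfl

lemma comp_cmp {T' : Scheme.{u}} (f : T' ⟶ T) (α β : T ⟶ G.R) (h : α ≫ G.s = β ≫ G.t) :
    f ≫ cmp G α β h = cmp G (f ≫ α) (f ≫ β) (by rw [Category.assoc, Category.assoc, h]) := by
  unfold cmp
  rw [← Category.assoc]
  congr 1
  apply pullback.hom_ext
  · rw [Category.assoc, pullback.lift_fst, pullback.lift_fst]
  · rw [Category.assoc, pullback.lift_snd, pullback.lift_snd]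

lemma cmp_assoc (α β γ : T ⟶ G.R) (h₁ : α ≫ G.s = β ≫ G.t) (h₂ : β ≫ G.s = γ ≫ G.t) :
    cmp G (cmp G α β h₁) γ ((cmp_s α β h₁).trans h₂) =
      cmp G α (cmp G β γ h₂) (h₁.trans (cmp_t β γ h₂).symm) := G.assoc α β γ h₁ h₂

lemma cmp_e (α β : T ⟶ G.R) (hβ : β = α ≫ G.s ≫ G.e) (h : α ≫ G.s = β ≫ G.t) :
    cmp G α β h = α := by
  subst hβ; exact G.comp_e α

lemma e_cmp (α β : T ⟶ G.R) (hα : α = β ≫ G.t ≫ G.e) (h : α ≫ G.s = β ≫ G.t) :
    cmp G α β h = β := by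
  subst hα; exact G.e_comp β

lemma cmp_i (α β : T ⟶ G.R) (hβ : β = α ≫ G.i) (h : α ≫ G.s = β ≫ G.t) :
    cmp G α β h = α ≫ G.t ≫ G.e := by
  subst hβ; exact G.comp_i α

lemma i_cmp (α β : T ⟶ G.R) (hα : α = β ≫ G.i) (h : α ≫ G.s = β ≫ G.t) :
    cmp G α β h = β ≫ G.s ≫ G.e := by
  subst hα; exact G.i_comp β

/-- `a⁻¹ ∘ (a ∘ b) = b` -/
lemma i_cmp_cmp (α β : T ⟶ G.R) (h : α ≫ G.s = β ≫ G.t)
    (h' : (α ≫ G.i) ≫ G.s = cmp G α β h ≫ G.t) :
    cmp G (α ≫ G.i) (cmp G α β h) h' = β :=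
  have h1 : (α ≫ G.i) ≫ G.s = α ≫ G.t := by rw [Category.assoc, G.i_s]
  (cmp_assoc (α ≫ G.i) α β h1 h).symm.trans
    (e_cmp _ _ (by rw [i_cmp (α ≫ G.i) α rfl h1, ← Category.assoc, h, Category.assoc]) _)

/-- `a ∘ (a⁻¹ ∘ b) = b` where `t(a) = t(b)` -/
lemma cmp_i_cmp (α β : T ⟶ G.R) (h : (α ≫ G.i) ≫ G.s = β ≫ G.t)
    (h' : α ≫ G.s = cmp G (α ≫ G.i) β h ≫ G.t) :
    cmp G α (cmp G (α ≫ G.i) β h) h' = β :=
  have h1 : α ≫ G.s = (α ≫ G.i) ≫ G.t := by rw [Category.assoc, G.i_t]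
  have h2 : α ≫ G.t = β ≫ G.t := by rw [← h, Category.assoc, G.i_s]
  (cmp_assoc α (α ≫ G.i) β h1 h).symm.trans
    (e_cmp _ _ (by rw [cmp_i α (α ≫ G.i) rfl h1, ← Category.assoc, h2, Category.assoc]) _)

/-- `(a ∘ b) ∘ b⁻¹ = a` -/
lemma cmp_cmp_i (α β : T ⟶ G.R) (h : α ≫ G.s = β ≫ G.t)
    (h' : cmp G α β h ≫ G.s = (β ≫ G.i) ≫ G.t) :
    cmp G (cmp G α β h) (β ≫ G.i) h' = α :=
  have h1 : β ≫ G.s = (β ≫ G.i) ≫ G.t := by rw [Category.assoc, G.i_t]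
  (cmp_assoc α β (β ≫ G.i) h h1).trans
    (cmp_e _ _ (by rw [cmp_i β (β ≫ G.i) rfl h1, ← Category.assoc, ← h, Category.assoc]) _)

/-- `(a ∘ b⁻¹) ∘ b = a` where `s(a) = s(b)` -/
lemma cmp_i_cmp' (α β : T ⟶ G.R) (h : α ≫ G.s = (β ≫ G.i) ≫ G.t)
    (h' : cmp G α (β ≫ G.i) h ≫ G.s = β ≫ G.t) :
    cmp G (cmp G α (β ≫ G.i) h) β h' = α :=
  have h1 : (β ≫ G.i) ≫ G.s = β ≫ G.t := by rw [Category.assoc, G.i_s]
  have h2 : α ≫ G.s = β ≫ G.s := by rw [h, Category.assoc, G.i_t]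
  (cmp_assoc α (β ≫ G.i) β h h1).trans
    (cmp_e _ _ (by rw [i_cmp (β ≫ G.i) β rfl h1, ← Category.assoc, ← h2, Category.assoc]) _)

lemma c_eq : G.c = cmp G (pullback.fst G.s G.t) (pullback.snd G.s G.t) pullback.condition := by
  unfold cmp
  have : pullback.lift (pullback.fst G.s G.t) (pullback.snd G.s G.t) pullback.condition = 𝟙 _ := by
    apply pullback.hom_ext
    · rw [pullback.lift_fst, Category.id_comp]
    · rw [pullback.lift_snd, Category.id_comp]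
  rw [this, Category.id_comp]

lemma comp_c (m : T ⟶ pullback G.s G.t) :
    m ≫ G.c = cmp G (m ≫ pullback.fst G.s G.t) (m ≫ pullback.snd G.s G.t)
      (by rw [Category.assoc, Category.assoc, pullback.condition]) :=
  (congrArg (fun x => m ≫ x) c_eq).trans (comp_cmp m _ _ _)

lemma c_s : G.c ≫ G.s = pullback.snd G.s G.t ≫ G.s :=
  (congrArg (fun x => x ≫ G.s) c_eq).trans (cmp_s _ _ _)

lemma c_t : G.c ≫ G.t = pullback.fst G.s G.t ≫ G.t :=
  (congrArg (fun x => x ≫ G.t) c_eq).trans (cmp_t _ _ _)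

lemma j_fst : G.j ≫ pullback.fst G.pU G.pU = G.t := by
  unfold Grpd.GroupoidScheme.j; exact pullback.lift_fst _ _ _

lemma j_snd : G.j ≫ pullback.snd G.pU G.pU = G.s := by
  unfold Grpd.GroupoidScheme.j; exact pullback.lift_snd _ _ _

lemma diag_fst : G.diag ≫ pullback.fst G.pU G.pU = 𝟙 _ := by
  unfold Grpd.GroupoidScheme.diag; exact pullback.lift_fst _ _ _

lemma diag_snd : G.diag ≫ pullback.snd G.pU G.pU = 𝟙 _ := by
  unfold Grpd.GroupoidScheme.diag; exact pullback.lift_snd _ _ _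

lemma fst_eq_of_comp_c (m : T ⟶ pullback G.s G.t) (a b : T ⟶ G.R) (h1 : m ≫ G.c = a)
    (h2 : m ≫ pullback.snd G.s G.t = b) (h : a ≫ G.s = (b ≫ G.i) ≫ G.t) :
    m ≫ pullback.fst G.s G.t = cmp G a (b ≫ G.i) h := by
  subst h1 h2
  exact ((cmp_congr (comp_c m) rfl _).trans (cmp_cmp_i _ _ _ _)).symm

/-- The square `c, pr₂, s, s` is cartesian. -/
lemma isPullback_c_snd : IsPullback G.c (pullback.snd G.s G.t) G.s G.s := by
  have w : G.c ≫ G.s = pullback.snd G.s G.t ≫ G.s := c_s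
  have hk : ∀ k : PullbackCone G.s G.s, k.fst ≫ G.s = (k.snd ≫ G.i) ≫ G.t := fun k => by
    rw [Category.assoc, G.i_t, k.condition]
  have hk2 : ∀ k : PullbackCone G.s G.s,
      cmp G k.fst (k.snd ≫ G.i) (hk k) ≫ G.s = k.snd ≫ G.t := fun k => by
    rw [cmp_s, Category.assoc, G.i_s]
  refine ⟨⟨w⟩, ⟨PullbackCone.IsLimit.mk w
    (fun k => pullback.lift (cmp G k.fst (k.snd ≫ G.i) (hk k)) k.snd (hk2 k)) ?_ ?_ ?_⟩⟩
  · intro k
    exact (comp_c _).trans ((cmp_congr (pullback.lift_fst _ _ _) (pullback.lift_snd _ _ _) _).trans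
      (cmp_i_cmp' _ _ _ _))
  · intro k
    exact pullback.lift_snd _ _ _
  · intro k m hm1 hm2
    apply pullback.hom_ext
    · rw [pullback.lift_fst]
      exact fst_eq_of_comp_c m _ _ hm1 hm2 (hk k)
    · rw [pullback.lift_snd]
      exact hm2

end Groth.Agent.Helper5.GrpdLib
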