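import Mathlib
import Groth.Agent.Lib.Helper5.GrpdLib

/-!
# Point-level lemmas for groupoid schemes (helper5)
-/

set_option autoImplicit false
universe u
open CategoryTheory CategoryTheory.Limits AlgebraicGeometry

namespace Groth.Agent.Helper5.GrpdPts

open Groth.Agent.Helper5.GrpdLib

variable {S : Scheme.{u}} (G : Grpd.GroupoidScheme S)

lemma s_c (z : ↑(pullback G.s G.t)) : G.s (G.c z) = G.s (pullback.snd G.s G.t z) :=
  (Scheme.Hom.comp_apply G.c G.s z).symm.trans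
    ((congrArg (fun f : pullback G.s G.t ⟶ G.U => f z) c_s).trans
      (Scheme.Hom.comp_apply _ _ z))

lemma t_c (z : ↑(pullback G.s G.t)) : G.t (G.c z) = G.t (pullback.fst G.s G.t z) :=
  (Scheme.Hom.comp_apply G.c G.t z).symm.trans
    ((congrArg (fun f : pullback G.s G.t ⟶ G.U => f z) c_t).trans
      (Scheme.Hom.comp_apply _ _ z))

lemma s_i (r : G.R) : G.s (G.i r) = G.t r :=
  (Scheme.Hom.comp_apply G.i G.s r).symm.trans (congrArg (fun f : G.R ⟶ G.U => f r) G.i_s)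

lemma t_i (r : G.R) : G.t (G.i r) = G.s r :=
  (Scheme.Hom.comp_apply G.i G.t r).symm.trans (congrArg (fun f : G.R ⟶ G.U => f r) G.i_t)

lemma s_e (u : G.U) : G.s (G.e u) = u :=
  (Scheme.Hom.comp_apply G.e G.s u).symm.trans
    ((congrArg (fun f : G.U ⟶ G.U => f u) G.e_s).trans (by simp))

lemma t_e (u : G.U) : G.t (G.e u) = u :=
  (Scheme.Hom.comp_apply G.e G.t u).symm.trans
    ((congrArg (fun f : G.U ⟶ G.U => f u) G.e_t).trans (by simp))

/-- composite of two composable points -/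
lemma exists_comp (r r' : G.R) (h : G.s r = G.t r') :
    ∃ r'' : G.R, G.s r'' = G.s r' ∧ G.t r'' = G.t r := by
  obtain ⟨z, hz1, hz2⟩ := Scheme.Pullback.exists_preimage_pullback (f := G.s) (g := G.t) r r' h
  exact ⟨G.c z, by rw [s_c, hz2], by rw [t_c, hz1]⟩

/-- The saturation of a subset. -/
def sat (W : Set G.U) : Set G.U := ⇑G.t '' (⇑G.s ⁻¹' W)

lemma subset_sat (W : Set G.U) : W ⊆ sat G W := fun u hu =>
  ⟨G.e u, by show G.s (G.e u) ∈ W; rw [s_e]; exact hu, t_e G u⟩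

/-- The saturation is invariant. -/
lemma sat_invariant (W : Set G.U) : ⇑G.s ⁻¹' (sat G W) = ⇑G.t ⁻¹' (sat G W) := by
  ext r
  simp only [sat, Set.mem_preimage, Set.mem_image]
  constructor
  · rintro ⟨r', hr'W, hr'⟩
    obtain ⟨r'', h1, h2⟩ := exists_comp G r r' hr'.symm
    exact ⟨r'', by rw [h1]; exact hr'W, h2⟩
  · rintro ⟨r', hr'W, hr'⟩
    obtain ⟨r'', h1, h2⟩ := exists_comp G (G.i r) r' (by rw [s_i, hr'])
    exact ⟨r'', by rw [h1]; exact hr'W, by rw [h2, t_i]⟩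

lemma sat_compact [QuasiCompact G.s] (W : G.U.Opens) (hW : IsCompact (W : Set G.U)) :
    IsCompact (sat G (W : Set G.U)) :=
  (G.s.isCompact_preimage hW).image G.t.continuous

lemma sat_genStable [Flat G.t] (W : Set G.U) (hW : IsOpen W) :
    ∀ e ∈ sat G W, ∀ y, y ⤳ e → y ∈ sat G W := by
  rintro _ ⟨r, hr, rfl⟩ y hy
  obtain ⟨r', hr', hr'y⟩ := @Flat.generalizingMap _ _ G.t _ r y hy
  have hr'' : r' ⤳ r := hr'
  exact ⟨r', (hr''.map G.s.continuous).mem_open hW hr, hr'y⟩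

/-- A quasi-compact set is contained in a quasi-compact open built from given affine neighbourhoods. -/
lemma exists_qc_open {X : Scheme.{u}} (E : Set X) (hE : IsCompact E) (P : X.Opens → Prop)
    (hP : ∀ e ∈ E, ∃ A : X.Opens, IsAffineOpen A ∧ e ∈ A ∧ P A) :
    ∃ V : X.Opens, IsCompact (V : Set X) ∧ E ⊆ V ∧ ∀ y ∈ V, ∃ A : X.Opens, P A ∧ y ∈ A := by
  classical
  have hP' : ∀ e : E, ∃ A : X.Opens, IsAffineOpen A ∧ (e : X) ∈ A ∧ P A := fun e => hP e e.2
  choose A hAaff hAmem hAP using hP'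
  obtain ⟨t, ht⟩ := hE.elim_finite_subcover (fun e : E => (A e : Set X)) (fun e => (A e).2)
    (fun e he => Set.mem_iUnion.mpr ⟨⟨e, he⟩, hAmem _⟩)
  refine ⟨⟨⋃ e ∈ t, (A e : Set X), isOpen_biUnion (fun e _ => (A e).2)⟩, ?_, ht, ?_⟩
  · exact t.isCompact_biUnion (fun e _ => (hAaff e).isCompact)
  · intro y hy
    have hy' : y ∈ ⋃ e ∈ t, (A e : Set X) := hy
    simp only [Set.mem_iUnion] at hy'
    obtain ⟨e, _, hye⟩ := hy'
    exact ⟨A e, hAP e, hye⟩

lemma exists_qc_open_ge {X : Scheme.{u}} (E : Set X) (hE : IsCompact E) :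
    ∃ V : X.Opens, IsCompact (V : Set X) ∧ E ⊆ V := by
  obtain ⟨V, hV, hEV, -⟩ := exists_qc_open E hE (fun _ => True) (fun e _ => by
    obtain ⟨_, ⟨A, hA, rfl⟩, heA, -⟩ :=
      X.isBasis_affineOpens.exists_subset_of_mem_open (Set.mem_univ e) isOpen_univ
    exact ⟨A, hA, heA, trivial⟩)
  exact ⟨V, hV, hEV⟩

lemma exists_qc_open_avoid {X : Scheme.{u}} (E : Set X) (hE : IsCompact E) (x : X)
    (hx : ∀ e ∈ E, ¬ x ⤳ e) : ∃ V : X.Opens, IsCompact (V : Set X) ∧ E ⊆ V ∧ x ∉ V := by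
  obtain ⟨V, hV, hEV, hVP⟩ := exists_qc_open E hE (fun A => x ∉ A) (fun e he => by
    have := hx e he
    rw [specializes_iff_forall_open] at this
    push Not at this
    obtain ⟨O, hO, heO, hxO⟩ := this
    obtain ⟨_, ⟨A, hA, rfl⟩, heA, hAO⟩ :=
      X.isBasis_affineOpens.exists_subset_of_mem_open heO hO
    exact ⟨A, hA, heA, fun hxA => hxO (hAO hxA)⟩)
  refine ⟨V, hV, hEV, fun hxV => ?_⟩
  obtain ⟨A, hA, hxA⟩ := hVP x hxV
  exact hA hxA

end Groth.Agent.Helper5.GrpdPts
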