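import Mathlib
import Groth.Agent.Lib.Helper5.GrpdLib

/-!
# Translation squares for groupoid schemes (helper5)
-/

set_option autoImplicit false
universe u
open CategoryTheory CategoryTheory.Limits AlgebraicGeometry

namespace Groth.Agent.Helper5.GrpdTrans

open Groth.Agent.Helper5.GrpdLib

variable {S : Scheme.{u}} {G : Grpd.GroupoidScheme S}

/-- left translation `(z, r) ↦ a(z) ∘ r` on `Z ×_{s a, U, t} R` -/
noncomputable def transl {Z : Scheme.{u}} (a : Z ⟶ G.R) : pullback (a ≫ G.s) G.t ⟶ G.R :=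
  cmp G (pullback.fst (a ≫ G.s) G.t ≫ a) (pullback.snd (a ≫ G.s) G.t)
    (by rw [Category.assoc]; exact pullback.condition)

lemma transl_eq {Z : Scheme.{u}} (a : Z ⟶ G.R) :
    transl a = pullback.lift (pullback.fst (a ≫ G.s) G.t ≫ a) (pullback.snd (a ≫ G.s) G.t)
      (by rw [Category.assoc]; exact pullback.condition) ≫ G.c := rfl

lemma snd_eq_of_comp_transl {Z T : Scheme.{u}} (a : Z ⟶ G.R) (m : T ⟶ pullback (a ≫ G.s) G.t)
    (α : T ⟶ G.R) (ζ : T ⟶ Z) (h1 : m ≫ transl a = α) (h2 : m ≫ pullback.fst _ _ = ζ)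
    (h : ((ζ ≫ a) ≫ G.i) ≫ G.s = α ≫ G.t) :
    m ≫ pullback.snd (a ≫ G.s) G.t = cmp G ((ζ ≫ a) ≫ G.i) α h := by
  subst h1 h2
  have e : m ≫ transl a = cmp G ((m ≫ pullback.fst (a ≫ G.s) G.t) ≫ a)
      (m ≫ pullback.snd (a ≫ G.s) G.t) (by
        simp only [Category.assoc, pullback.condition]) := by
    unfold transl
    rw [comp_cmp]
    exact cmp_congr (by rw [Category.assoc]) rfl _
  exact ((cmp_congr rfl e _).trans (i_cmp_cmp _ _ _ _)).symm

/-- The square `transl a, pr₁, t, a ≫ t` is cartesian. -/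
lemma isPullback_transl {Z : Scheme.{u}} (a : Z ⟶ G.R) :
    IsPullback (transl a) (pullback.fst (a ≫ G.s) G.t) G.t (a ≫ G.t) := by
  have w : transl a ≫ G.t = pullback.fst (a ≫ G.s) G.t ≫ a ≫ G.t := by
    unfold transl
    rw [cmp_t, Category.assoc]
  have hk : ∀ k : PullbackCone G.t (a ≫ G.t), ((k.snd ≫ a) ≫ G.i) ≫ G.s = k.fst ≫ G.t :=
    fun k => by rw [Category.assoc, G.i_s, Category.assoc, k.condition]
  have hk2 : ∀ k : PullbackCone G.t (a ≫ G.t),
      k.snd ≫ a ≫ G.s = cmp G ((k.snd ≫ a) ≫ G.i) k.fst (hk k) ≫ G.t := fun k => by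
    rw [cmp_t, Category.assoc, G.i_t, Category.assoc]
  refine ⟨⟨w⟩, ⟨PullbackCone.IsLimit.mk w
    (fun k => pullback.lift k.snd (cmp G ((k.snd ≫ a) ≫ G.i) k.fst (hk k)) (hk2 k)) ?_ ?_ ?_⟩⟩
  · intro k
    unfold transl
    rw [comp_cmp]
    exact (cmp_congr (by rw [← Category.assoc, pullback.lift_fst])
      (pullback.lift_snd _ _ _) _).trans (cmp_i_cmp _ _ _ _)
  · intro k
    exact pullback.lift_fst _ _ _
  · intro k m hm1 hm2
    apply pullback.hom_ext
    · rw [pullback.lift_fst]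
      exact hm2
    · rw [pullback.lift_snd]
      exact snd_eq_of_comp_transl a m _ _ hm1 hm2 (hk k)

end Groth.Agent.Helper5.GrpdTrans
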