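import Groth.Agent.S7469
import Groth.Agent.S7470
import Mathlib

set_option autoImplicit false
universe w w' u

namespace Groth.Agent.Helper5.HTopLib

open CategoryTheory CategoryTheory.Limits AlgebraicGeometry HTop

/-- A morphism from the spectrum of a local ring whose closed point lands in an open `W`
factors through `W`. -/
theorem range_subset_of_closedPoint_mem {T : Scheme.{u}} (V : CommRingCat.{u}) [IsLocalRing V]
    (g : Spec V ⟶ T) (W : T.Opens) (h : g (IsLocalRing.closedPoint V) ∈ W) :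
    Set.range g ⊆ W := by
  rintro _ ⟨x, rfl⟩
  have hx : x ⤳ IsLocalRing.closedPoint V := IsLocalRing.specializes_closedPoint x
  have hx' : g x ⤳ g (IsLocalRing.closedPoint V) := hx.map g.continuous
  exact hx'.mem_open W.2 h

/-- A finite affine open cover of an affine scheme is a standard V covering. -/
theorem isStandardV_of_opens {T : Scheme.{u}} [IsAffine T] {n : ℕ} (W : Fin n → T.Opens)
    (hW : ∀ k, IsAffineOpen (W k)) (hcov : ∀ x : T, ∃ k, x ∈ W k) :
    IsStandardV (⟨Fin n, fun k => (W k : Scheme.{u}), fun k => (W k).ι⟩ : PreZeroHypercover.{0} T) := by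
  refine ⟨inferInstance, inferInstanceAs (Finite (Fin n)), fun k => hW k, ?_⟩
  intro V _ _ g
  obtain ⟨k, hk⟩ := hcov (g (IsLocalRing.closedPoint V))
  refine ⟨V, inferInstance, inferInstance, 𝟙 V, ⟨Function.injective_id, ?_⟩, k, ?_⟩
  · exact ⟨fun a ha => ha⟩
  · have hr : Set.range g ⊆ Set.range (W k).ι := by
      rw [Scheme.Opens.range_ι]
      exact range_subset_of_closedPoint_mem V g (W k) hk
    refine ⟨IsOpenImmersion.lift (W k).ι g hr, ?_⟩
    show IsOpenImmersion.lift (W k).ι g hr ≫ (W k).ι = Spec.map (𝟙 V) ≫ g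
    rw [IsOpenImmersion.lift_fac, Spec.map_id, Category.id_comp]

/-- Finite affine open cover of an affine scheme `T'` each of whose members maps into an affine
open of `T`. -/
theorem exists_finite_affine_cover_mapsTo {T T' : Scheme.{u}} [IsAffine T'] (g : T' ⟶ T) :
    ∃ (n : ℕ) (W : Fin n → T'.Opens) (U : Fin n → T.affineOpens),
      (∀ k, IsAffineOpen (W k)) ∧ (∀ x : T', ∃ k, x ∈ W k) ∧ ∀ k, W k ≤ g ⁻¹ᵁ (U k : T.Opens) := by
  have h1 : ∀ x : T', ∃ U : T.Opens, IsAffineOpen U ∧ g x ∈ U := by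
    intro x
    obtain ⟨U, hU, hx, -⟩ := exists_isAffineOpen_mem_and_subset
      (X := T) (x := g x) (U := ⊤) (by simp)
    exact ⟨U, hU, hx⟩
  choose U hU hxU using h1
  have h2 : ∀ x : T', ∃ W : T'.Opens, IsAffineOpen W ∧ x ∈ W ∧ W ≤ g ⁻¹ᵁ (U x) := by
    intro x
    obtain ⟨W, hW, hx, hsub⟩ := exists_isAffineOpen_mem_and_subset
      (X := T') (x := x) (U := g ⁻¹ᵁ (U x)) (hxU x)
    exact ⟨W, hW, hx, hsub⟩
  choose W hW hxW hWU using h2
  obtain ⟨t, ht⟩ := isCompact_univ.elim_finite_subcover (fun x => ((W x : T'.Opens) : Set T'))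
    (fun x => (W x).2) (fun x _ => Set.mem_iUnion.2 ⟨x, hxW x⟩)
  let e : Fin t.card ≃ t := t.equivFin.symm
  refine ⟨t.card, fun k => W (e k), fun k => ⟨U (e k), hU (e k)⟩, fun k => hW _, ?_, fun k => hWU _⟩
  intro x
  have := ht (Set.mem_univ x)
  simp only [Set.mem_iUnion] at this
  obtain ⟨y, hy, hxy⟩ := this
  refine ⟨e.symm ⟨y, hy⟩, ?_⟩
  simpa using hxy

/-- Lemma A for V coverings: a V covering of `T` can be refined, over any morphism `T' ⟶ T` from an
affine scheme, by a standard V covering of `T'`. -/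
theorem exists_standardV_refinesOver {T T' : Scheme.{u}} [IsAffine T'] (g : T' ⟶ T)
    (E : PreZeroHypercover.{w} T) (hE : IsVCover E) :
    ∃ F : PreZeroHypercover.{0} T', IsStandardV F ∧ RefinesOver g F E := by
  obtain ⟨n, W, U, hW, hcov, hWU⟩ := exists_finite_affine_cover_mapsTo g
  choose F hF hFE using fun k => hE (U k)
  let Z0 : PreZeroHypercover.{0} T' := ⟨Fin n, fun k => (W k : Scheme.{u}), fun k => (W k).ι⟩
  have hZ0 : IsStandardV Z0 := isStandardV_of_opens W hW hcov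
  have hr : ∀ k, Set.range ((W k).ι ≫ g) ⊆ Set.range ((U k : T.Opens).ι) := by
    intro k
    rw [Scheme.Opens.range_ι]
    rintro _ ⟨x, rfl⟩
    exact hWU k x.2
  let gk : ∀ k, Z0.X k ⟶ ((U k : T.Opens) : Scheme.{u}) := fun k =>
    IsOpenImmersion.lift ((U k : T.Opens).ι) ((W k).ι ≫ g) (hr k)
  have hgk : ∀ k, gk k ≫ (U k : T.Opens).ι = (W k).ι ≫ g := fun k =>
    IsOpenImmersion.lift_fac _ _ _
  haveI : ∀ k, IsAffine (Z0.X k) := fun k => hW k
  refine ⟨Z0.bind (fun k => (F k).pullback₁ (gk k)), ?_, ?_⟩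
  · exact Groth.Agent.S7470.result Z0 hZ0 _ (fun k => Groth.Agent.S7469.result (gk k) (F k) (hF k))
  · rintro ⟨k, j⟩
    obtain ⟨i, h, hh⟩ := hFE k j
    refine ⟨i, (pullback.snd (gk k) ((F k).f j) : pullback (gk k) ((F k).f j) ⟶ (F k).X j) ≫ h, ?_⟩
    show (pullback.snd (gk k) ((F k).f j) ≫ h) ≫ E.f i = (pullback.fst (gk k) ((F k).f j) ≫ (W k).ι) ≫ g
    rw [Category.assoc, hh, ← Category.assoc, ← pullback.condition, Category.assoc, hgk,
      Category.assoc]

end Groth.Agent.Helper5.HTopLib
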