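import Mathlib
import Groth.Agent.S2254
import Groth.Agent.Lib.Helper5.BirDense

/-!
# A separated local isomorphism between integral schemes is an open immersion (helper5)
-/

set_option autoImplicit false
universe u
open CategoryTheory CategoryTheory.Limits AlgebraicGeometry TopologicalSpace

namespace Groth.Agent.Helper5.LocIsoSep

/-- If `g : X ⟶ Y` is a separated morphism between integral schemes which is a local isomorphism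
(every point of `X` has an open neighbourhood `W` with `W.ι ≫ g` an open immersion), then `g` is an
open immersion. -/
theorem isOpenImmersion_of_forall_exists {X Y : Scheme.{u}} [IsIntegral X] [IsIntegral Y]
    (g : X ⟶ Y) [IsSeparated g]
    (hloc : ∀ x : X, ∃ W : X.Opens, x ∈ W ∧ IsOpenImmersion (W.ι ≫ g)) : IsOpenImmersion g := by
  classical
  have hηmem : ∀ W : X.Opens, (W : Set ↥X).Nonempty → genericPoint ↥X ∈ W := fun W hW =>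
    ((genericPoint_spec ↥X).mem_open_set_iff W.isOpen).mpr ⟨hW.some, trivial, hW.some_mem⟩
  choose Wx hxWx hWx using hloc
  haveI : ∀ x, IsOpenImmersion ((Wx x).ι ≫ g) := hWx
  haveI hstalk : ∀ x, IsIso (g.stalkMap x) := fun x =>
    Groth.Agent.S2254.stalk_iso_of_localIso g x ⟨Wx x, hxWx x, hWx x⟩
  have hopen : IsOpenMap g := by
    intro O hO
    have h1 : g '' O = ⋃ x : X, g '' (O ∩ Wx x) := by
      ext q
      simp only [Set.mem_image, Set.mem_iUnion]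
      constructor
      · rintro ⟨p, hp, rfl⟩
        exact ⟨p, p, ⟨hp, hxWx p⟩, rfl⟩
      · rintro ⟨x, p, ⟨hp, -⟩, rfl⟩
        exact ⟨p, hp, rfl⟩
    rw [h1]
    exact isOpen_iUnion fun x =>
      Groth.Agent.Helper5.BirDense.isOpen_image_of_le g (Wx x) _ (hO.inter (Wx x).isOpen)
        (fun p hp => hp.2)
  have hinj : Function.Injective g := by
    intro x1 x2 h12
    have hyV : g x1 ∈ ((Wx x1).ι ≫ g).opensRange ⊓ ((Wx x2).ι ≫ g).opensRange :=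
      ⟨⟨⟨x1, hxWx x1⟩, rfl⟩, ⟨⟨x2, hxWx x2⟩, h12.symm⟩⟩
    obtain ⟨V, hVdef⟩ : ∃ V : Y.Opens,
        V = ((Wx x1).ι ≫ g).opensRange ⊓ ((Wx x2).ι ≫ g).opensRange := ⟨_, rfl⟩
    rw [← hVdef] at hyV
    have hVle : ∀ y : Y, y ∈ V →
        y ∈ ((Wx x1).ι ≫ g).opensRange ⊓ ((Wx x2).ι ≫ g).opensRange := by
      intro y hy
      rw [hVdef] at hy
      exact hy
    have hV1 : Set.range V.ι ⊆ Set.range ((Wx x1).ι ≫ g) := by
      rintro _ ⟨v, rfl⟩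
      exact (hVle _ v.2).1
    have hV2 : Set.range V.ι ⊆ Set.range ((Wx x2).ι ≫ g) := by
      rintro _ ⟨v, rfl⟩
      exact (hVle _ v.2).2
    have hl1 : IsOpenImmersion.lift ((Wx x1).ι ≫ g) V.ι hV1 ≫ ((Wx x1).ι ≫ g) = V.ι :=
      IsOpenImmersion.lift_fac _ _ _
    have hl2 : IsOpenImmersion.lift ((Wx x2).ι ≫ g) V.ι hV2 ≫ ((Wx x2).ι ≫ g) = V.ι :=
      IsOpenImmersion.lift_fac _ _ _
    obtain ⟨l1, hl1def⟩ : ∃ l, l = IsOpenImmersion.lift ((Wx x1).ι ≫ g) V.ι hV1 := ⟨_, rfl⟩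
    obtain ⟨l2, hl2def⟩ : ∃ l, l = IsOpenImmersion.lift ((Wx x2).ι ≫ g) V.ι hV2 := ⟨_, rfl⟩
    rw [← hl1def] at hl1
    rw [← hl2def] at hl2
    have hs1 : (l1 ≫ (Wx x1).ι) ≫ g = V.ι := by rw [Category.assoc]; exact hl1
    have hs2 : (l2 ≫ (Wx x2).ι) ≫ g = V.ι := by rw [Category.assoc]; exact hl2
    -- the overlap
    have hηD : genericPoint ↥X ∈ Wx x1 ⊓ Wx x2 :=
      ⟨hηmem _ ⟨x1, hxWx x1⟩, hηmem _ ⟨x2, hxWx x2⟩⟩
    have hD1 : (Wx x1 ⊓ Wx x2).ι ≫ g =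
        X.homOfLE (inf_le_left : Wx x1 ⊓ Wx x2 ≤ Wx x1) ≫ ((Wx x1).ι ≫ g) := by
      rw [← Category.assoc, Scheme.homOfLE_ι]
    have hD2 : (Wx x1 ⊓ Wx x2).ι ≫ g =
        X.homOfLE (inf_le_right : Wx x1 ⊓ Wx x2 ≤ Wx x2) ≫ ((Wx x2).ι ≫ g) := by
      rw [← Category.assoc, Scheme.homOfLE_ι]
    haveI : IsOpenImmersion ((Wx x1 ⊓ Wx x2).ι ≫ g) := by
      rw [hD1]
      infer_instance
    obtain ⟨V', hV'def⟩ : ∃ V' : Y.Opens,
        V' = ((Wx x1 ⊓ Wx x2).ι ≫ g).opensRange ⊓ V := ⟨_, rfl⟩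
    have hV'V : V' ≤ V := by rw [hV'def]; exact inf_le_right
    have hV'le : ∀ y : Y, y ∈ V' → y ∈ ((Wx x1 ⊓ Wx x2).ι ≫ g).opensRange ⊓ V := by
      intro y hy
      rw [hV'def] at hy
      exact hy
    have hV'D : Set.range V'.ι ⊆ Set.range ((Wx x1 ⊓ Wx x2).ι ≫ g) := by
      rintro _ ⟨v, rfl⟩
      exact (hV'le _ v.2).1
    obtain ⟨t, htdef⟩ : ∃ t, t = IsOpenImmersion.lift ((Wx x1 ⊓ Wx x2).ι ≫ g) V'.ι hV'D :=
      ⟨_, rfl⟩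
    have ht : t ≫ ((Wx x1 ⊓ Wx x2).ι ≫ g) = V'.ι := by
      rw [htdef]
      exact IsOpenImmersion.lift_fac _ _ _
    have hι1 : Y.homOfLE hV'V ≫ (l1 ≫ (Wx x1).ι) = t ≫ (Wx x1 ⊓ Wx x2).ι := by
      have e1 : Y.homOfLE hV'V ≫ l1 =
          t ≫ X.homOfLE (inf_le_left : Wx x1 ⊓ Wx x2 ≤ Wx x1) := by
        rw [← cancel_mono ((Wx x1).ι ≫ g)]
        calc (Y.homOfLE hV'V ≫ l1) ≫ ((Wx x1).ι ≫ g) = Y.homOfLE hV'V ≫ V.ι := by
              rw [Category.assoc, hl1]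
          _ = V'.ι := Scheme.homOfLE_ι _ _
          _ = t ≫ ((Wx x1 ⊓ Wx x2).ι ≫ g) := ht.symm
          _ = (t ≫ X.homOfLE (inf_le_left : Wx x1 ⊓ Wx x2 ≤ Wx x1)) ≫ ((Wx x1).ι ≫ g) := by
              rw [hD1, Category.assoc]
      calc Y.homOfLE hV'V ≫ (l1 ≫ (Wx x1).ι) = (Y.homOfLE hV'V ≫ l1) ≫ (Wx x1).ι :=
            (Category.assoc _ _ _).symm
        _ = (t ≫ X.homOfLE (inf_le_left : Wx x1 ⊓ Wx x2 ≤ Wx x1)) ≫ (Wx x1).ι := by rw [e1]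
        _ = t ≫ (Wx x1 ⊓ Wx x2).ι := by rw [Category.assoc, Scheme.homOfLE_ι]
    have hι2 : Y.homOfLE hV'V ≫ (l2 ≫ (Wx x2).ι) = t ≫ (Wx x1 ⊓ Wx x2).ι := by
      have e1 : Y.homOfLE hV'V ≫ l2 =
          t ≫ X.homOfLE (inf_le_right : Wx x1 ⊓ Wx x2 ≤ Wx x2) := by
        rw [← cancel_mono ((Wx x2).ι ≫ g)]
        calc (Y.homOfLE hV'V ≫ l2) ≫ ((Wx x2).ι ≫ g) = Y.homOfLE hV'V ≫ V.ι := by
              rw [Category.assoc, hl2]
          _ = V'.ι := Scheme.homOfLE_ι _ _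
          _ = t ≫ ((Wx x1 ⊓ Wx x2).ι ≫ g) := ht.symm
          _ = (t ≫ X.homOfLE (inf_le_right : Wx x1 ⊓ Wx x2 ≤ Wx x2)) ≫ ((Wx x2).ι ≫ g) := by
              rw [hD2, Category.assoc]
      calc Y.homOfLE hV'V ≫ (l2 ≫ (Wx x2).ι) = (Y.homOfLE hV'V ≫ l2) ≫ (Wx x2).ι :=
            (Category.assoc _ _ _).symm
        _ = (t ≫ X.homOfLE (inf_le_right : Wx x1 ⊓ Wx x2 ≤ Wx x2)) ≫ (Wx x2).ι := by rw [e1]
        _ = t ≫ (Wx x1 ⊓ Wx x2).ι := by rw [Category.assoc, Scheme.homOfLE_ι]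
    haveI : Nonempty V.toScheme := ⟨⟨g x1, hyV⟩⟩
    haveI : IsIntegral V.toScheme := isIntegral_of_isOpenImmersion V.ι
    have hgV' : g (genericPoint ↥X) ∈ V' := by
      rw [hV'def, hVdef]
      exact ⟨⟨⟨genericPoint ↥X, hηD⟩, rfl⟩, ⟨⟨⟨genericPoint ↥X, hηD.1⟩, rfl⟩,
        ⟨⟨genericPoint ↥X, hηD.2⟩, rfl⟩⟩⟩
    haveI : IsDominant (Y.homOfLE hV'V) := by
      refine ⟨?_⟩
      have hne : (Set.range (Y.homOfLE hV'V)).Nonempty :=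
        ⟨(Y.homOfLE hV'V) ⟨g (genericPoint ↥X), hgV'⟩, ⟨_, rfl⟩⟩
      exact (Y.homOfLE hV'V).isOpenEmbedding.isOpen_range.dense hne
    have hs : l1 ≫ (Wx x1).ι = l2 ≫ (Wx x2).ι :=
      ext_of_isDominant_of_isSeparated g (hs1.trans hs2.symm) (Y.homOfLE hV'V)
        (hι1.trans hι2.symm)
    have hp1 : (l1 ≫ (Wx x1).ι) ⟨g x1, hyV⟩ = x1 := by
      have h1 : ((Wx x1).ι ≫ g) (l1 ⟨g x1, hyV⟩) = ((Wx x1).ι ≫ g) ⟨x1, hxWx x1⟩ :=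
        congrArg (fun φ : V.toScheme ⟶ Y => φ ⟨g x1, hyV⟩) hl1
      have h2 := ((Wx x1).ι ≫ g).isOpenEmbedding.injective h1
      show (Wx x1).ι (l1 ⟨g x1, hyV⟩) = x1
      rw [h2]
      rfl
    have hp2 : (l2 ≫ (Wx x2).ι) ⟨g x1, hyV⟩ = x2 := by
      have h1 : ((Wx x2).ι ≫ g) (l2 ⟨g x1, hyV⟩) = ((Wx x2).ι ≫ g) ⟨x2, hxWx x2⟩ :=
        (congrArg (fun φ : V.toScheme ⟶ Y => φ ⟨g x1, hyV⟩) hl2).trans h12
      have h2 := ((Wx x2).ι ≫ g).isOpenEmbedding.injective h1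
      show (Wx x2).ι (l2 ⟨g x1, hyV⟩) = x2
      rw [h2]
      rfl
    calc x1 = (l1 ≫ (Wx x1).ι) ⟨g x1, hyV⟩ := hp1.symm
      _ = (l2 ≫ (Wx x2).ι) ⟨g x1, hyV⟩ := by rw [hs]
      _ = x2 := hp2
  have hemb : Topology.IsOpenEmbedding g :=
    Topology.IsOpenEmbedding.of_continuous_injective_isOpenMap g.continuous hinj hopen
  exact IsOpenImmersion.of_isIso_stalkMap g hemb

end Groth.Agent.Helper5.LocIsoSep
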