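import Mathlib
import Groth.Agent.Lib.Helper5.MilK

set_option autoImplicit false
universe u w

namespace Groth.Agent.Helper5

open MilK

variable {F : Type u} [Field F]

theorem symbol_comp_swap {n : ℕ} (x : Fin n → Fˣ) (i j : Fin n) (hij : i ≠ j) :
    (symbol (x ∘ Equiv.swap i j) : K F n) = - symbol x := by
  classical
  have hB := isStSymb_update (F := F) x j i (Ne.symm hij)
  have h1 : x ∘ Equiv.swap i j = Function.update (Function.update x j (x i)) i (x j) :=
    Equiv.comp_swap_eq_update i j x
  have h2 : x = Function.update (Function.update x j (x j)) i (x i) := by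
    simp
  rw [h1]
  conv_rhs => rw [h2]
  exact hB.swap_eq_neg (x j) (x i)

theorem symbol_comp_perm {n : ℕ} (σ : Equiv.Perm (Fin n)) :
    ∀ x : Fin n → Fˣ, (symbol (x ∘ σ) : K F n) = ((Equiv.Perm.sign σ : ℤˣ) : ℤ) • symbol x := by
  classical
  induction σ using Equiv.Perm.swap_induction_on with
  | one => intro x; simp
  | swap_mul f a b hab ih =>
    intro x
    have e : x ∘ (Equiv.swap a b * f) = (x ∘ Equiv.swap a b) ∘ f := by
      ext i; simp
    rw [e, ih, symbol_comp_swap x a b hab, Equiv.Perm.sign_mul, Equiv.Perm.sign_swap hab]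
    simp

theorem finRotate_pow_val (N k : ℕ) (i : Fin N) :
    (((finRotate N) ^ k) i).val = (i.val + k) % N := by
  cases N with
  | zero => exact i.elim0
  | succ N =>
    induction k with
    | zero => simp [Nat.mod_eq_of_lt i.isLt]
    | succ k ih =>
      rw [pow_succ', Equiv.Perm.mul_apply, finRotate_apply, Fin.val_add, ih, Fin.val_one',
        ← Nat.add_mod, add_assoc]

theorem append_eq_append_comp_rotate {α : Type*} {n m : ℕ} (a : Fin n → α) (b : Fin m → α) :
    Fin.append a b =
      (Fin.append b a ∘ Fin.cast (Nat.add_comm n m)) ∘ ((finRotate (n + m)) ^ m) := by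
  ext i
  simp only [Function.comp_apply]
  by_cases hi : i.val < n
  · have h1 : i = Fin.castAdd m ⟨i.val, hi⟩ := Fin.ext rfl
    have h2 : Fin.cast (Nat.add_comm n m) (((finRotate (n + m)) ^ m) i) = Fin.natAdd m ⟨i.val, hi⟩ := by
      apply Fin.ext
      simp only [Fin.val_cast, finRotate_pow_val, Fin.val_natAdd]
      rw [Nat.mod_eq_of_lt (by omega)]
      omega
    rw [h2, Fin.append_right]
    conv_lhs => rw [h1]
    rw [Fin.append_left]
  · have hi' : n ≤ i.val := not_lt.mp hi
    have hlt : i.val - n < m := by have := i.isLt; omega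
    have h1 : i = Fin.natAdd n ⟨i.val - n, hlt⟩ := by
      apply Fin.ext
      simp only [Fin.val_natAdd]
      omega
    have h2 : Fin.cast (Nat.add_comm n m) (((finRotate (n + m)) ^ m) i) =
        Fin.castAdd n ⟨i.val - n, hlt⟩ := by
      apply Fin.ext
      simp only [Fin.val_cast, finRotate_pow_val, Fin.val_castAdd]
      have hN := i.isLt
      have : i.val + m = (i.val - n) + (n + m) := by omega
      rw [this, Nat.add_mod_right, Nat.mod_eq_of_lt (by omega)]
    rw [h2, Fin.append_left]
    conv_lhs => rw [h1]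
    rw [Fin.append_right]

theorem sign_finRotate_pow (n m : ℕ) :
    ((Equiv.Perm.sign ((finRotate (n + m)) ^ m) : ℤˣ) : ℤ) = (-1) ^ (n * m) := by
  rw [map_pow, sign_finRotate]
  push_cast
  rw [← pow_mul]
  rcases Nat.eq_zero_or_pos m with rfl | hm
  · simp
  · have h1 : (n + m - 1) * m = n * m + (m - 1) * m := by
      have : n + m - 1 = n + (m - 1) := by omega
      rw [this, add_mul]
    have h2 : Even ((m - 1) * m) := by
      have := Nat.even_mul_pred_self m
      rwa [mul_comm] at this
    rw [h1, pow_add, h2.neg_one_pow, mul_one]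

theorem symbol_append_comm {n m : ℕ} (a : Fin n → Fˣ) (b : Fin m → Fˣ) :
    (symbol (Fin.append a b) : K F (n + m)) =
      ((-1 : ℤ) ^ (n * m)) • symbol (Fin.append b a ∘ Fin.cast (Nat.add_comm n m)) := by
  rw [append_eq_append_comp_rotate a b, symbol_comp_perm, sign_finRotate_pow]

end Groth.Agent.Helper5
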