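import Mathlib
import Groth.Agent.Lib.Helper5.MilK

set_option autoImplicit false
universe u v

namespace Groth.Agent.Helper5

open MilK

section RightMul

variable {F : Type u} [Field F]

/-- Right multiplication by the degree-one symbol `{c}`. -/
noncomputable def rmul (c : Fˣ) (m : ℕ) : K F m →+ K F (m + 1) :=
  (MilK.mul F m 1).flip (sym1 F (Additive.ofMul c))

theorem rmul_symbol (c : Fˣ) {m : ℕ} (a : Fin m → Fˣ) :
    rmul c m (symbol a) = symbol (Fin.snoc (α := fun _ => Fˣ) a c) := by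
  rw [rmul, AddMonoidHom.flip_apply, sym1_apply, toMul_ofMul, mul_symbol_symbol]
  congr 1
  exact Fin.append_right_eq_snoc a ![c]

theorem rmul_mul (c c' : Fˣ) (m : ℕ) : rmul (c * c') m = rmul c m + rmul c' m := by
  rw [rmul, rmul, rmul, ofMul_mul, map_add, map_add]

theorem rmul_one (m : ℕ) : rmul (1 : Fˣ) m = 0 := by
  rw [rmul, ofMul_one, map_zero, map_zero]

theorem rmul_neg (c : Fˣ) (m : ℕ) : rmul (-c) m = rmul (-1) m + rmul c m := by
  rw [← rmul_mul, neg_one_mul]

theorem isStSymb_rmul (m : ℕ) :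
    IsStSymb (fun c c' : Fˣ => (rmul c' (m + 1)).comp (rmul c m)) where
  mul_left x x' y := by
    show (rmul y (m + 1)).comp (rmul (x * x') m) = _
    rw [rmul_mul, AddMonoidHom.comp_add]
  mul_right x y y' := by
    show (rmul (y * y') (m + 1)).comp (rmul x m) = _
    rw [rmul_mul, AddMonoidHom.add_comp]
  rel x y hxy := by
    apply K_hom_ext
    intro a
    rw [AddMonoidHom.comp_apply, rmul_symbol, rmul_symbol, AddMonoidHom.zero_apply]
    apply symbol_eq_zero_of_isSteinberg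
    refine ⟨Fin.castSucc (Fin.last m), Fin.last (m + 1), ?_, ?_⟩
    · rw [Fin.lt_def]
      simp
    · simpa using hxy

theorem two_smul_rmul_neg_one {m : ℕ} (a : K F m) : (2 : ℤ) • rmul (-1 : Fˣ) m a = 0 := by
  have h : rmul ((-1 : Fˣ) * (-1)) m a = 0 := by
    rw [neg_one_mul, neg_neg, rmul_one, AddMonoidHom.zero_apply]
  rw [rmul_mul, AddMonoidHom.add_apply] at h
  rw [two_smul]
  exact h

theorem even_smul_rmul_neg_one {m : ℕ} (a : K F m) {j : ℤ} (hj : Even j) :
    j • rmul (-1 : Fˣ) m a = 0 := by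
  obtain ⟨i, rfl⟩ := hj
  rw [← two_mul, mul_comm, mul_smul, two_smul_rmul_neg_one, smul_zero]

theorem rmul_anticomm (c c' : Fˣ) {m : ℕ} (a : K F m) :
    rmul c' (m + 1) (rmul c m a) + rmul c (m + 1) (rmul c' m a) = 0 := by
  have := (isStSymb_rmul (F := F) m).anticomm c c'
  exact DFunLike.congr_fun this a

/-- State space: pairs `(a, b)` standing for `a + ξ b`. -/
abbrev NSt (F : Type u) [Field F] (m : ℕ) : Type u := K F (m + 1) × K F m

/-- The operator "right multiplication by `{c} + k ξ`". -/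
noncomputable def Rfun (m : ℕ) (k : ℤ) (c : Fˣ) : NSt F m →+ NSt F (m + 1) :=
  AddMonoidHom.mk' (fun s => (rmul c (m + 1) s.1,
    ((-1 : ℤ) ^ (m + 1) * k) • s.1 + rmul c m s.2 + k • rmul (-1) m s.2)) (by
    intro s t
    ext
    · simp
    · simp only [Prod.snd_add, Prod.fst_add, map_add, smul_add]
      abel)

theorem Rfun_apply (m : ℕ) (k : ℤ) (c : Fˣ) (s : NSt F m) :
    Rfun m k c s = (rmul c (m + 1) s.1,
      ((-1 : ℤ) ^ (m + 1) * k) • s.1 + rmul c m s.2 + k • rmul (-1) m s.2) := rfl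

theorem Rfun_add_mul (m : ℕ) (k k₂ : ℤ) (c c₂ : Fˣ) :
    Rfun (F := F) m (k + k₂) (c * c₂) = Rfun m k c + Rfun m k₂ c₂ := by
  ext s
  · simp [Rfun_apply, rmul_mul]
  · simp only [Rfun_apply, rmul_mul, AddMonoidHom.add_apply, Prod.snd_add]
    module

/-- The unit element of `K F 0`. -/
noncomputable def one0 (F : Type u) [Field F] : K F 0 := symbol (Fin.elim0 : Fin 0 → Fˣ)

/-- The initial state `{c} + k ξ`. -/
noncomputable def d0 (k : ℤ) (c : Fˣ) : NSt F 0 := (rmul c 0 (one0 F), k • one0 F)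

theorem d0_add_mul (k k₂ : ℤ) (c c₂ : Fˣ) :
    d0 (F := F) (k + k₂) (c * c₂) = d0 k c + d0 k₂ c₂ := by
  ext
  · simp [d0, rmul_mul]
  · simp only [d0, Prod.snd_add]
    module

/-- The relation between the data of `x` and `y` when `x + y = 1` (sign conditions dropped). -/
def StCond (k : ℤ) (c : Fˣ) (k' : ℤ) (c' : Fˣ) : Prop :=
  (k = 0 ∧ k' = 0 ∧ (c : F) + c' = 1) ∨ (k' = 0 ∧ c' = 1) ∨ (k = 0 ∧ c = 1) ∨ (k' = k ∧ c' = -c)

theorem stc_rr {k k' : ℤ} {c c' : Fˣ} (h : StCond k c k' c') {m : ℕ} (a : K F m) :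
    rmul c' (m + 1) (rmul c m a) = 0 := by
  rcases h with ⟨-, -, h⟩ | ⟨-, rfl⟩ | ⟨-, rfl⟩ | ⟨-, rfl⟩
  · exact DFunLike.congr_fun ((isStSymb_rmul (F := F) m).rel c c' h) a
  · rw [rmul_one, AddMonoidHom.zero_apply]
  · rw [rmul_one, AddMonoidHom.zero_apply, map_zero]
  · exact DFunLike.congr_fun ((isStSymb_rmul (F := F) m).neg_self c) a

theorem stc_phi {k k' : ℤ} {c c' : Fˣ} (h : StCond k c k' c') {m : ℕ} (a : K F m) :
    (-k') • rmul c m a + k • rmul c' m a + (k * k') • rmul (-1) m a = 0 := by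
  rcases h with ⟨rfl, rfl, -⟩ | ⟨rfl, rfl⟩ | ⟨rfl, rfl⟩ | ⟨rfl, rfl⟩
  · simp
  · simp [rmul_one]
  · simp [rmul_one]
  · rw [rmul_neg, AddMonoidHom.add_apply]
    have he : Even (k' * (k' + 1)) := Int.even_mul_succ_self k'
    have := even_smul_rmul_neg_one (F := F) a he
    linear_combination (norm := module) this

theorem stc_psi {k k' : ℤ} {c c' : Fˣ} (h : StCond k c k' c') {m : ℕ} (b : K F m) :
    rmul c' (m + 1) (rmul c m b) + k • rmul c' (m + 1) (rmul (-1) m b) +
      k' • rmul (-1) (m + 1) (rmul c m b) + (k * k') • rmul (-1) (m + 1) (rmul (-1) m b) = 0 := by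
  have h0 := stc_rr h b
  rcases h with ⟨rfl, rfl, -⟩ | ⟨rfl, rfl⟩ | ⟨rfl, rfl⟩ | ⟨rfl, rfl⟩
  · simpa using h0
  · simp [rmul_one]
  · simp [rmul_one]
  · rw [h0, rmul_neg, AddMonoidHom.add_apply]
    have he : Even (k' * (k' + 1)) := Int.even_mul_succ_self k'
    have h1 := even_smul_rmul_neg_one (F := F) (rmul (-1) m b) he
    have h2 := rmul_anticomm (F := F) c (-1) b
    linear_combination (norm := module) h1 + k' • h2

/-- L2: the product vanishes under the Steinberg condition. -/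
theorem Rfun_Rfun_eq_zero {k k' : ℤ} {c c' : Fˣ} (h : StCond k c k' c') (m : ℕ) (s : NSt F m) :
    Rfun (m + 1) k' c' (Rfun m k c s) = 0 := by
  ext
  · simp only [Rfun_apply, Prod.fst_zero]
    exact stc_rr h s.1
  · simp only [Rfun_apply, Prod.snd_zero, map_add, map_zsmul]
    have h1 := stc_phi h s.1
    have h2 := stc_psi h s.2
    linear_combination (norm := module) ((-1 : ℤ) ^ (m + 1)) • h1 + h2

/-- L3: the initial version. -/
theorem Rfun_d0_eq_zero {k k' : ℤ} {c c' : Fˣ} (h : StCond k c k' c') :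
    Rfun 0 k' c' (d0 (F := F) k c) = 0 := by
  ext
  · simp only [Rfun_apply, d0, Prod.fst_zero]
    exact stc_rr h (one0 F)
  · simp only [Rfun_apply, d0, Prod.snd_zero, map_zsmul]
    have h1 := stc_phi h (one0 F)
    linear_combination (norm := module) h1

/-- L1: the operators anticommute. -/
theorem Rfun_anticomm (k k' : ℤ) (c c' : Fˣ) (m : ℕ) (s : NSt F m) :
    Rfun (m + 1) k' c' (Rfun m k c s) = - Rfun (m + 1) k c (Rfun m k' c' s) := by
  rw [eq_neg_iff_add_eq_zero]
  ext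
  · simp only [Rfun_apply, Prod.fst_add, Prod.fst_zero]
    exact rmul_anticomm c c' s.1
  · simp only [Rfun_apply, Prod.snd_add, Prod.snd_zero, map_add, map_zsmul]
    have h1 := two_smul_rmul_neg_one (F := F) s.1
    have h2 := two_smul_rmul_neg_one (F := F) (rmul (-1) m s.2)
    have h3 := rmul_anticomm (F := F) c c' s.2
    have h4 := rmul_anticomm (F := F) c (-1) s.2
    have h5 := rmul_anticomm (F := F) c' (-1) s.2
    linear_combination (norm := module) ((-1 : ℤ) ^ (m + 1) * k * k') • h1 + (k * k') • h2 + h3 +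
      k' • h4 + k • h5

end RightMul

end Groth.Agent.Helper5
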