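import Mathlib
import Groth.Agent.Lib.Helper5.MilKTameOps
import Groth.Agent.Lib.Helper5.MilKDVR

set_option autoImplicit false
universe u v

namespace Groth.Agent.Helper5

open MilK

section Decomp

variable (A : Type u) [CommRing A] [IsDomain A] [IsDiscreteValuationRing A]
  (L : Type v) [Field L] [Algebra A L] [IsFractionRing A L] (ϖ : A) (hϖ : Irreducible ϖ)

/-- `(e, w) ↦ ϖ ^ e * w`. -/
noncomputable def decompHom : Multiplicative ℤ × Aˣ →* Lˣ :=
  ((zpowersHom Lˣ (unitFrac A L ϖ hϖ.ne_zero)).comp (MonoidHom.fst _ _)) *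
    ((unitToFrac A L).comp (MonoidHom.snd _ _))

theorem decompHom_apply (e : Multiplicative ℤ) (w : Aˣ) :
    decompHom A L ϖ hϖ (e, w) =
      unitFrac A L ϖ hϖ.ne_zero ^ (Multiplicative.toAdd e) * unitToFrac A L w := by
  simp [decompHom]

theorem decompHom_injective : Function.Injective (decompHom A L ϖ hϖ) := by
  rw [injective_iff_map_eq_one]
  rintro ⟨e, w⟩ h
  have hinj : Function.Injective (algebraMap A L) := IsFractionRing.injective A L
  have h' : (algebraMap A L ϖ) ^ (Multiplicative.toAdd e) * algebraMap A L (w : A) = 1 := by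
    have := congrArg (fun z : Lˣ => (z : L)) h
    simpa [decompHom_apply, unitToFrac] using this
  have hP0 : algebraMap A L ϖ ≠ 0 :=
    mt (IsFractionRing.to_map_eq_zero_iff (K := L)).mp hϖ.ne_zero
  rcases Int.eq_nat_or_neg (Multiplicative.toAdd e) with ⟨n, hn | hn⟩
  · rw [hn, zpow_natCast, ← map_pow, ← map_mul, ← map_one (algebraMap A L)] at h'
    have h2 := hinj h'
    cases n with
    | zero =>
      simp only [pow_zero, one_mul] at h2
      ext
      · show e = 1
        have : Multiplicative.toAdd e = 0 := by simpa using hn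
        exact Multiplicative.toAdd.injective this
      · simpa using h2
    | succ n =>
      exfalso
      rw [pow_succ', mul_assoc] at h2
      exact hϖ.not_isUnit (IsUnit.of_mul_eq_one _ h2)
  · rw [hn, zpow_neg, zpow_natCast, inv_mul_eq_one₀ (pow_ne_zero _ hP0), ← map_pow] at h'
    have h2 := hinj h'
    cases n with
    | zero =>
      simp only [pow_zero] at h2
      ext
      · show e = 1
        have : Multiplicative.toAdd e = 0 := by simpa using hn
        exact Multiplicative.toAdd.injective this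
      · simpa using h2.symm
    | succ n =>
      exfalso
      have hdvd : ϖ ∣ (w : A) := by
        rw [← h2, pow_succ']
        exact dvd_mul_right _ _
      exact hϖ.not_isUnit (isUnit_of_dvd_unit hdvd w.isUnit)

theorem decompHom_surjective : Function.Surjective (decompHom A L ϖ hϖ) := by
  intro l
  obtain ⟨e, w, h⟩ := exists_zpow_mul_unit A L ϖ hϖ l
  exact ⟨(Multiplicative.ofAdd e, w), by rw [decompHom_apply, h]; rfl⟩

/-- The decomposition `Lˣ ≃ ℤ × Aˣ` attached to a uniformizer. -/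
noncomputable def decompEquiv : Multiplicative ℤ × Aˣ ≃* Lˣ :=
  MulEquiv.ofBijective (decompHom A L ϖ hϖ)
    ⟨decompHom_injective A L ϖ hϖ, decompHom_surjective A L ϖ hϖ⟩

/-- The valuation as a homomorphism. -/
noncomputable def valHom : Lˣ →* Multiplicative ℤ :=
  (MonoidHom.fst _ _).comp (decompEquiv A L ϖ hϖ).symm.toMonoidHom

/-- The angular component (residue class of the unit part). -/
noncomputable def angHom : Lˣ →* (IsLocalRing.ResidueField A)ˣ :=
  (unitResidue A).comp ((MonoidHom.snd _ _).comp (decompEquiv A L ϖ hϖ).symm.toMonoidHom)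

theorem val_ang_of_eq (l : Lˣ) (e : ℤ) (w : Aˣ)
    (h : l = unitFrac A L ϖ hϖ.ne_zero ^ e * unitToFrac A L w) :
    valHom A L ϖ hϖ l = Multiplicative.ofAdd e ∧ angHom A L ϖ hϖ l = unitResidue A w := by
  have h1 : (decompEquiv A L ϖ hϖ).symm l = (Multiplicative.ofAdd e, w) := by
    rw [MulEquiv.symm_apply_eq]
    show l = decompHom A L ϖ hϖ (Multiplicative.ofAdd e, w)
    rw [decompHom_apply, h]
    rfl
  constructor
  · simp [valHom, h1]
  · simp [angHom, h1]

/-- Additive valuation. -/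
noncomputable def kZ (x : Additive Lˣ) : ℤ :=
  Multiplicative.toAdd (valHom A L ϖ hϖ x.toMul)

/-- Angular component on the additive group. -/
noncomputable def cU (x : Additive Lˣ) : (IsLocalRing.ResidueField A)ˣ :=
  angHom A L ϖ hϖ x.toMul

theorem kZ_add (x y : Additive Lˣ) : kZ A L ϖ hϖ (x + y) = kZ A L ϖ hϖ x + kZ A L ϖ hϖ y := by
  simp [kZ]

theorem cU_add (x y : Additive Lˣ) : cU A L ϖ hϖ (x + y) = cU A L ϖ hϖ x * cU A L ϖ hϖ y := by
  simp [cU]

theorem kZ_cU_of_eq (l : Lˣ) (e : ℤ) (w : Aˣ)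
    (h : l = unitFrac A L ϖ hϖ.ne_zero ^ e * unitToFrac A L w) :
    kZ A L ϖ hϖ (Additive.ofMul l) = e ∧ cU A L ϖ hϖ (Additive.ofMul l) = unitResidue A w := by
  obtain ⟨h1, h2⟩ := val_ang_of_eq A L ϖ hϖ l e w h
  constructor
  · simp [kZ, h1]
  · simp [cU, h2]

theorem units_eq_of_val (y : Lˣ) (e : ℤ) (wz : Aˣ)
    (h : (y : L) = (algebraMap A L ϖ) ^ e * algebraMap A L (wz : A)) :
    y = unitFrac A L ϖ hϖ.ne_zero ^ e * unitToFrac A L wz := by
  apply Units.ext
  simp [unitToFrac, h]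

include hϖ in
theorem residue_unif : IsLocalRing.residue A ϖ = 0 := by
  rw [IsLocalRing.residue_eq_zero_iff, IsLocalRing.mem_maximalIdeal]
  exact hϖ.not_isUnit

theorem stCond_of_add_eq_one (x y : Lˣ) (h : (x : L) + y = 1) :
    StCond (kZ A L ϖ hϖ (Additive.ofMul x)) (cU A L ϖ hϖ (Additive.ofMul x))
      (kZ A L ϖ hϖ (Additive.ofMul y)) (cU A L ϖ hϖ (Additive.ofMul y)) := by
  obtain ⟨e, w, hx⟩ := exists_zpow_mul_unit A L ϖ hϖ x
  obtain ⟨hkx, hcx⟩ := kZ_cU_of_eq A L ϖ hϖ x e w hx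
  have hP0 : algebraMap A L ϖ ≠ 0 :=
    mt (IsFractionRing.to_map_eq_zero_iff (K := L)).mp hϖ.ne_zero
  have hxL : (x : L) = (algebraMap A L ϖ) ^ e * algebraMap A L (w : A) := by
    rw [hx]; simp [unitToFrac]
  have hyL : (y : L) = 1 - (algebraMap A L ϖ) ^ e * algebraMap A L (w : A) := by
    rw [← hxL, ← h]; ring
  have hres0 := residue_unif A ϖ hϖ
  have hresw : IsLocalRing.residue A (w : A) ≠ 0 := by
    exact (IsLocalRing.residue_ne_zero_iff_isUnit _).2 w.isUnit
  rw [hkx, hcx]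
  rcases lt_trichotomy e 0 with he | he | he
  · -- negative valuation
    obtain ⟨j, hj⟩ := Int.eq_negSucc_of_lt_zero he
    have hj' : e = -((j + 1 : ℕ) : ℤ) := by rw [hj]; rfl
    have hz : IsLocalRing.residue A (ϖ ^ (j + 1) - (w : A)) ≠ 0 := by
      rw [map_sub, map_pow, hres0, zero_pow (Nat.succ_ne_zero j), zero_sub, neg_ne_zero]
      exact hresw
    obtain ⟨wz, hwz⟩ := ((IsLocalRing.residue_ne_zero_iff_isUnit _).1 hz)
    have hy : y = unitFrac A L ϖ hϖ.ne_zero ^ e * unitToFrac A L wz := by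
      refine units_eq_of_val A L ϖ hϖ y _ wz ?_
      rw [hyL, hwz, hj', zpow_neg, zpow_natCast, map_sub, map_pow]
      field_simp
    obtain ⟨hky, hcy⟩ := kZ_cU_of_eq A L ϖ hϖ y e wz hy
    right; right; right
    refine ⟨hky, ?_⟩
    rw [hcy]
    apply Units.ext
    simp only [unitResidue, Units.coe_map, MonoidHom.coe_coe, Units.val_neg]
    rw [hwz, map_sub, map_pow, hres0, zero_pow (Nat.succ_ne_zero j), zero_sub]
  · -- valuation zero
    subst he
    have hyL' : (y : L) = algebraMap A L (1 - (w : A)) := by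
      rw [hyL, zpow_zero, one_mul, map_sub, map_one]
    by_cases hu : IsUnit (1 - (w : A))
    · obtain ⟨wz, hwz⟩ := hu
      have hy : y = unitFrac A L ϖ hϖ.ne_zero ^ (0 : ℤ) * unitToFrac A L wz := by
        refine units_eq_of_val A L ϖ hϖ y _ wz ?_
        rw [hyL', hwz, zpow_zero, one_mul]
      obtain ⟨hky, hcy⟩ := kZ_cU_of_eq A L ϖ hϖ y 0 wz hy
      left
      refine ⟨rfl, hky, ?_⟩
      rw [hcy]
      simp only [unitResidue, Units.coe_map, MonoidHom.coe_coe]
      rw [hwz, map_sub, map_one]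
      ring
    · right; right; left
      refine ⟨rfl, ?_⟩
      apply Units.ext
      simp only [unitResidue, Units.coe_map, MonoidHom.coe_coe, Units.val_one]
      have : IsLocalRing.residue A (1 - (w : A)) = 0 := by
        by_contra hne
        exact hu ((IsLocalRing.residue_ne_zero_iff_isUnit _).1 hne)
      rw [map_sub, map_one, sub_eq_zero] at this
      exact this.symm
  · -- positive valuation
    obtain ⟨j, hj⟩ := Int.eq_succ_of_zero_lt he
    have hj' : e = ((j + 1 : ℕ) : ℤ) := by rw [hj]; rfl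
    have hz : IsLocalRing.residue A (1 - ϖ ^ (j + 1) * (w : A)) ≠ 0 := by
      rw [map_sub, map_mul, map_pow, hres0, zero_pow (Nat.succ_ne_zero j), zero_mul, sub_zero,
        map_one]
      exact one_ne_zero
    obtain ⟨wz, hwz⟩ := ((IsLocalRing.residue_ne_zero_iff_isUnit _).1 hz)
    have hy : y = unitFrac A L ϖ hϖ.ne_zero ^ (0 : ℤ) * unitToFrac A L wz := by
      refine units_eq_of_val A L ϖ hϖ y _ wz ?_
      rw [hyL, hwz, hj', zpow_natCast, zpow_zero, one_mul, map_sub, map_one, map_mul, map_pow]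
    obtain ⟨hky, hcy⟩ := kZ_cU_of_eq A L ϖ hϖ y 0 wz hy
    right; left
    refine ⟨hky, ?_⟩
    rw [hcy]
    apply Units.ext
    simp only [unitResidue, Units.coe_map, MonoidHom.coe_coe, Units.val_one]
    rw [hwz, map_sub, map_mul, map_pow, hres0, zero_pow (Nat.succ_ne_zero j), zero_mul, sub_zero,
      map_one]

end Decomp

section Build

variable (A : Type u) [CommRing A] [IsDomain A] [IsDiscreteValuationRing A]
  (L : Type v) [Field L] [Algebra A L] [IsFractionRing A L] (ϖ : A) (hϖ : Irreducible ϖ)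

/-- The bilinear operator `(s, x) ↦ s · ({ang x} + val x · ξ)` as iterated additive maps. -/
noncomputable def RopAdd (m : ℕ) :
    NSt (IsLocalRing.ResidueField A) m →+ (Additive Lˣ →+ NSt (IsLocalRing.ResidueField A) (m + 1)) :=
  AddMonoidHom.mk' (fun s => AddMonoidHom.mk'
      (fun x => Rfun m (kZ A L ϖ hϖ x) (cU A L ϖ hϖ x) s)
      (by intro x y; rw [kZ_add, cU_add, Rfun_add_mul]; rfl))
    (by intro s t; ext x <;> simp)

noncomputable def Rop (m : ℕ) :
    NSt (IsLocalRing.ResidueField A) m →ₗ[ℤ]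
      (Additive Lˣ →ₗ[ℤ] NSt (IsLocalRing.ResidueField A) (m + 1)) :=
  (addMonoidHomLequivInt ℤ).toLinearMap ∘ₗ (RopAdd A L ϖ hϖ m).toIntLinearMap

theorem Rop_apply (m : ℕ) (s : NSt (IsLocalRing.ResidueField A) m) (x : Additive Lˣ) :
    Rop A L ϖ hϖ m s x = Rfun m (kZ A L ϖ hϖ x) (cU A L ϖ hϖ x) s := rfl

noncomputable def d0Lin : Additive Lˣ →ₗ[ℤ] NSt (IsLocalRing.ResidueField A) 0 :=
  (AddMonoidHom.mk' (fun x => d0 (kZ A L ϖ hϖ x) (cU A L ϖ hϖ x))
    (by intro x y; rw [kZ_add, cU_add, d0_add_mul])).toIntLinearMap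

/-- The multilinear map `(x₀, …, xₙ) ↦ d(x₀) ⋯ d(xₙ)`. -/
noncomputable def FM : (n : ℕ) →
    MultilinearMap ℤ (fun _ : Fin (n + 1) => Additive Lˣ) (NSt (IsLocalRing.ResidueField A) n)
  | 0 => MultilinearMap.ofSubsingleton ℤ (Additive Lˣ) (NSt (IsLocalRing.ResidueField A) 0)
      (0 : Fin 1) (d0Lin A L ϖ hϖ)
  | n + 1 => MultilinearMap.uncurryRight (M := fun _ : Fin (n + 1 + 1) => Additive Lˣ)
      ((Rop A L ϖ hϖ n).compMultilinearMap (FM n))

theorem FM_zero (x : Fin 1 → Additive Lˣ) :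
    FM A L ϖ hϖ 0 x = d0 (kZ A L ϖ hϖ (x 0)) (cU A L ϖ hϖ (x 0)) := rfl

theorem FM_succ (n : ℕ) (x : Fin (n + 2) → Additive Lˣ) :
    FM A L ϖ hϖ (n + 1) x = Rfun n (kZ A L ϖ hϖ (x (Fin.last _))) (cU A L ϖ hϖ (x (Fin.last _)))
      (FM A L ϖ hϖ n (Fin.init x)) := rfl

theorem FM_claim (n : ℕ) (y : Fin (n + 1) → Additive Lˣ) (q : Additive Lˣ)
    (h : ∃ i, ((y i).toMul : L) + (q.toMul : L) = 1) :
    Rfun n (kZ A L ϖ hϖ q) (cU A L ϖ hϖ q) (FM A L ϖ hϖ n y) = 0 := by
  induction n with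
  | zero =>
    obtain ⟨i, hi⟩ := h
    obtain rfl : i = 0 := Fin.ext (by have := i.isLt; simp only [Fin.val_zero]; omega)
    rw [FM_zero]
    exact Rfun_d0_eq_zero (stCond_of_add_eq_one A L ϖ hϖ (y 0).toMul q.toMul hi)
  | succ n ih =>
    obtain ⟨i, hi⟩ := h
    rw [FM_succ]
    cases i using Fin.lastCases with
    | last =>
      exact Rfun_Rfun_eq_zero (stCond_of_add_eq_one A L ϖ hϖ (y (Fin.last _)).toMul q.toMul hi) n _
    | cast i' =>
      rw [Rfun_anticomm, ih (Fin.init y) ⟨i', hi⟩, map_zero, neg_zero]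

theorem FM_steinberg (n : ℕ) (x : Fin (n + 1) → Lˣ) (h : IsSteinberg L x) :
    FM A L ϖ hϖ n (fun i => Additive.ofMul (x i)) = 0 := by
  induction n with
  | zero =>
    obtain ⟨i, j, hij, -⟩ := h
    exfalso
    rw [Fin.lt_def] at hij
    omega
  | succ n ih =>
    obtain ⟨i, j, hij, hsum⟩ := h
    rw [FM_succ]
    cases j using Fin.lastCases with
    | last =>
      obtain ⟨i', rfl⟩ := Fin.exists_castSucc_eq.2 (ne_of_lt hij)
      exact FM_claim A L ϖ hϖ n _ _ ⟨i', hsum⟩
    | cast j' =>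
      have hi : i ≠ Fin.last _ := by
        intro hi
        rw [hi, Fin.lt_def] at hij
        simp only [Fin.val_last, Fin.val_castSucc] at hij
        omega
      obtain ⟨i', rfl⟩ := Fin.exists_castSucc_eq.2 hi
      have : FM A L ϖ hϖ n (Fin.init fun i => Additive.ofMul (x i)) = 0 := by
        apply ih (fun i => x (Fin.castSucc i))
        exact ⟨i', j', Fin.castSucc_lt_castSucc_iff.1 hij, hsum⟩
      rw [this, map_zero]

/-- The combined specialization and tame symbol map. -/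
noncomputable def tameSpec (n : ℕ) : K L (n + 1) →+ NSt (IsLocalRing.ResidueField A) n :=
  MilK.lift (FM A L ϖ hϖ n) (FM_steinberg A L ϖ hϖ n)

theorem tameSpec_symbol (n : ℕ) (x : Fin (n + 1) → Lˣ) :
    tameSpec A L ϖ hϖ n (symbol x) = FM A L ϖ hϖ n (fun i => Additive.ofMul (x i)) :=
  lift_symbol _ _ _

theorem FM_fst (n : ℕ) (x : Fin (n + 1) → Additive Lˣ) :
    (FM A L ϖ hϖ n x).1 = symbol (fun i => cU A L ϖ hϖ (x i)) := by
  induction n with
  | zero =>
    rw [FM_zero]
    show rmul _ 0 (one0 _) = _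
    rw [one0, rmul_symbol]
    congr 1
    funext i
    obtain rfl : i = Fin.last 0 := Fin.ext (by have := i.isLt; simp only [Fin.val_last]; omega)
    rw [Fin.snoc_last]
    rfl
  | succ n ih =>
    rw [FM_succ]
    show rmul _ (n + 1) (FM A L ϖ hϖ n (Fin.init x)).1 = _
    rw [ih, rmul_symbol]
    congr 1
    funext i
    cases i using Fin.lastCases with
    | last => rw [Fin.snoc_last]
    | cast i' => rw [Fin.snoc_castSucc]; rfl

theorem FM_snd_of_units (n : ℕ) (x : Fin (n + 1) → Additive Lˣ)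
    (hx : ∀ i : Fin n, kZ A L ϖ hϖ (x i.succ) = 0) :
    (FM A L ϖ hϖ n x).2 =
      kZ A L ϖ hϖ (x 0) • symbol (fun i : Fin n => cU A L ϖ hϖ (x i.succ)) := by
  induction n with
  | zero =>
    rw [FM_zero]
    show kZ A L ϖ hϖ (x 0) • one0 _ = _
    rw [one0]
    congr 2
    funext i
    exact i.elim0
  | succ n ih =>
    rw [FM_succ]
    have hlast : kZ A L ϖ hϖ (x (Fin.last (n + 1))) = 0 := by
      have := hx (Fin.last n)
      rwa [Fin.succ_last] at this
    rw [Rfun_apply, hlast]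
    simp only [mul_zero, zero_smul, zero_add, add_zero]
    rw [ih (Fin.init x) (fun i => by
      have := hx (Fin.castSucc i)
      rwa [Fin.succ_castSucc] at this), map_zsmul, rmul_symbol]
    congr 2
    funext i
    cases i using Fin.lastCases with
    | last => rw [Fin.snoc_last, Fin.succ_last]
    | cast i' => rw [Fin.snoc_castSucc, Fin.succ_castSucc]; rfl

/-- The tame symbol attached to `ϖ`. -/
noncomputable def tame (n : ℕ) : K L (n + 1) →+ K (IsLocalRing.ResidueField A) n :=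
  (AddMonoidHom.snd _ _).comp (tameSpec A L ϖ hϖ n)

/-- The specialization map attached to `ϖ` in positive degrees. -/
noncomputable def spec (n : ℕ) : K L (n + 1) →+ K (IsLocalRing.ResidueField A) (n + 1) :=
  (AddMonoidHom.fst _ _).comp (tameSpec A L ϖ hϖ n)

theorem spec_isSpecMap (n : ℕ) : IsSpecMap A L ϖ hϖ (n + 1) (spec A L ϖ hϖ n) := by
  intro e u
  show (tameSpec A L ϖ hϖ n (symbol _)).1 = _
  rw [tameSpec_symbol, FM_fst]
  congr 1
  funext i
  exact (kZ_cU_of_eq A L ϖ hϖ _ (e i) (u i) rfl).2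

theorem tame_isTameSymbol (n : ℕ) : IsTameSymbol A L n (tame A L ϖ hϖ n) := by
  intro ϖ' hϖ' u
  show (tameSpec A L ϖ hϖ n (symbol _)).2 = _
  rw [tameSpec_symbol]
  obtain ⟨w, hw⟩ := IsDiscreteValuationRing.associated_of_irreducible A hϖ hϖ'
  have h0 : unitFrac A L ϖ' hϖ'.ne_zero =
      unitFrac A L ϖ hϖ.ne_zero ^ (1 : ℤ) * unitToFrac A L w := by
    apply Units.ext
    simp [unitToFrac, ← hw]
  have hi : ∀ i : Fin n, unitToFrac A L (u i) =
      unitFrac A L ϖ hϖ.ne_zero ^ (0 : ℤ) * unitToFrac A L (u i) := by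
    intro i
    rw [zpow_zero, one_mul]
  rw [FM_snd_of_units]
  · have e0 := (kZ_cU_of_eq A L ϖ hϖ _ 1 w h0).1
    simp only [Fin.cons_zero, Fin.cons_succ]
    rw [e0, one_smul]
    congr 1
    funext i
    exact (kZ_cU_of_eq A L ϖ hϖ _ 0 (u i) (hi i)).2
  · intro i
    simp only [Fin.cons_succ]
    exact (kZ_cU_of_eq A L ϖ hϖ _ 0 (u i) (hi i)).1

end Build

end Groth.Agent.Helper5
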