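import Mathlib
import Groth.Agent.Lib.Helper5.MilKDVR

set_option autoImplicit false
universe u v

namespace Groth.Agent.Helper5

open MilK

section General

variable {F : Type u} [Field F]

/-- Multiplying the `k`-th entry by a power of `p` does not change the symbol when the `0`-th
entry is `q` with `q + p = 1`. -/
theorem symbol_update_mul_zpow_of_zero_add_eq_one {n : ℕ} (z : Fin (n + 1) → Fˣ) (q p : Fˣ)
    (hqp : (q : F) + p = 1)
    (h0 : z 0 = q) (k : Fin (n + 1)) (hk : k ≠ 0) (e : ℤ) (c : Fˣ) :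
    (symbol (Function.update z k (p ^ e * c)) : K F (n + 1)) = symbol (Function.update z k c) := by
  classical
  rw [symbol_update_mul]
  have hB := isStSymb_update (F := F) z 0 k (Ne.symm hk)
  have h1 : Function.update z k (p ^ e) = Function.update (Function.update z 0 q) k (p ^ e) := by
    rw [← h0, Function.update_eq_self]
  rw [h1]
  have h2 : (symbol (Function.update (Function.update z 0 q) k (p ^ e)) : K F (n + 1)) = 0 := by
    have h5 := hB.zpow_right q p e
    have h3 := hB.rel q p hqp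
    rw [h3, smul_zero] at h5
    exact h5
  rw [h2, zero_add]

theorem symbol_cons_mul_zpow_of_add_eq_one {n : ℕ} (q p : Fˣ) (hqp : (q : F) + p = 1)
    (e : Fin n → ℤ) (c : Fin n → Fˣ) :
    (symbol (Fin.cons q (fun i => p ^ e i * c i)) : K F (n + 1)) = symbol (Fin.cons q c) := by
  classical
  have key : ∀ s : Finset (Fin n),
      (symbol (Fin.cons q (fun i => if i ∈ s then p ^ e i * c i else c i)) : K F (n + 1)) =
        symbol (Fin.cons q c) := by
    intro s
    induction s using Finset.induction_on with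
    | empty => simp
    | insert k s hk ih =>
      rw [← ih]
      set z : Fin (n + 1) → Fˣ := Fin.cons q (fun i => if i ∈ s then p ^ e i * c i else c i)
        with hz
      have h1 : (Fin.cons q (fun i => if i ∈ insert k s then p ^ e i * c i else c i) :
          Fin (n + 1) → Fˣ) = Function.update z k.succ (p ^ e k * c k) := by
        rw [hz, ← Fin.cons_update]
        congr 1
        ext i
        by_cases hik : i = k
        · subst hik; simp
        · simp [Finset.mem_insert, hik]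
      have h2 : z = Function.update z k.succ (c k) := by
        rw [hz, ← Fin.cons_update]
        congr 1
        ext i
        by_cases hik : i = k
        · subst hik; simp [hk]
        · simp [Function.update_of_ne hik]
      rw [h1]
      conv_rhs => rw [h2]
      exact symbol_update_mul_zpow_of_zero_add_eq_one z q p hqp (by simp [hz]) k.succ
        (Fin.succ_ne_zero k) _ _
  simpa using key Finset.univ

end General

section DVR

variable (A : Type u) [CommRing A] [IsDomain A] [IsDiscreteValuationRing A]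
  (L : Type v) [Field L] [Algebra A L] [IsFractionRing A L]

/-- The subgroup generated by unit symbols. -/
noncomputable def unitSymbols (n : ℕ) : AddSubgroup (K L n) :=
  AddSubgroup.closure {z : K L n | ∃ u : Fin n → Aˣ, z = symbol (fun i => unitToFrac A L (u i))}

/-- Lemma 1: for a uniformizer `ϖ` and the unit `x₀ = 1 - ϖ`, any symbol `{x₀, w₁, …, wₙ}` is a
unit symbol. -/
theorem symbol_one_sub_unif_mem (ϖ : A) (hϖ : Irreducible ϖ) (x₀ : Aˣ) (hx₀ : (x₀ : A) = 1 - ϖ)
    {n : ℕ} (w : Fin n → Lˣ) :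
    (symbol (Fin.cons (unitToFrac A L x₀) w) : K L (n + 1)) ∈ unitSymbols A L (n + 1) := by
  choose e v hv using fun i => exists_zpow_mul_unit A L ϖ hϖ (w i)
  have hw : w = fun i => unitFrac A L ϖ hϖ.ne_zero ^ e i * unitToFrac A L (v i) := funext hv
  rw [hw, symbol_cons_mul_zpow_of_add_eq_one]
  · apply AddSubgroup.subset_closure
    refine ⟨Fin.cons x₀ v, ?_⟩
    congr 1
    ext i
    refine Fin.cases ?_ (fun j => ?_) i
    · simp
    · simp
  · simp [unitToFrac, hx₀]

/-- Lemma 2: a unit with residue class `1` is `1`, or `1 - ϖ'`, or `(1 - ϖ₁)(1 - ϖ₂)` for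
uniformizers `ϖ'`, `ϖ₁`, `ϖ₂`. -/
theorem unit_residue_one_cases (u₀ : Aˣ) (hu₀ : IsLocalRing.residue A (u₀ : A) = 1) :
    u₀ = 1 ∨ (∃ ϖ' : A, Irreducible ϖ' ∧ (u₀ : A) = 1 - ϖ') ∨
      ∃ (ϖ₁ ϖ₂ : A) (x₁ x₂ : Aˣ), Irreducible ϖ₁ ∧ Irreducible ϖ₂ ∧ (x₁ : A) = 1 - ϖ₁ ∧
        (x₂ : A) = 1 - ϖ₂ ∧ u₀ = x₁ * x₂ := by
  obtain ⟨ϖ, hϖ⟩ := IsDiscreteValuationRing.exists_irreducible A
  have hϖm : ϖ ∈ IsLocalRing.maximalIdeal A := by
    rw [IsLocalRing.mem_maximalIdeal]
    exact hϖ.not_isUnit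
  have hmem : (u₀ : A) - 1 ∈ IsLocalRing.maximalIdeal A := by
    rw [← IsLocalRing.residue_eq_zero_iff, map_sub, hu₀, map_one, sub_self]
  by_cases h1 : (u₀ : A) = 1
  · left
    exact Units.ext h1
  right
  have hd0 : (u₀ : A) - 1 ≠ 0 := sub_ne_zero.2 h1
  obtain ⟨i, a, hd⟩ := IsDiscreteValuationRing.eq_unit_mul_pow_irreducible hd0 hϖ
  have hi0 : i ≠ 0 := by
    rintro rfl
    rw [pow_zero, mul_one] at hd
    rw [hd, IsLocalRing.mem_maximalIdeal] at hmem
    exact hmem a.isUnit
  obtain ⟨j, rfl⟩ := Nat.exists_eq_succ_of_ne_zero hi0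
  rcases Nat.eq_zero_or_pos j with rfl | hj
  · left
    refine ⟨(-a : Aˣ) * ϖ, (irreducible_units_mul (-a)).2 hϖ, ?_⟩
    have : (u₀ : A) = 1 + a * ϖ := by
      have := hd
      simp only [Nat.succ_eq_add_one, zero_add, pow_one] at this
      linear_combination this
    rw [this]
    simp
  · right
    obtain ⟨m, rfl⟩ := Nat.exists_eq_succ_of_ne_zero hj.ne'
    have ht0 : IsUnit ((1 : A) + ϖ) := by
      rw [← IsLocalRing.notMem_maximalIdeal]
      intro h
      have : (1 : A) ∈ IsLocalRing.maximalIdeal A := by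
        have := (IsLocalRing.maximalIdeal A).sub_mem h hϖm
        simpa using this
      exact (IsLocalRing.maximalIdeal A).ne_top_iff_one.1 (IsLocalRing.maximalIdeal.isMaximal A).ne_top this
    have hs0 : IsUnit ((a : A) * ϖ ^ (m + 1) - 1) := by
      rw [← IsLocalRing.notMem_maximalIdeal]
      intro h
      have h2 : (a : A) * ϖ ^ (m + 1) ∈ IsLocalRing.maximalIdeal A :=
        Ideal.mul_mem_left _ _ (Ideal.pow_mem_of_mem _ hϖm _ (Nat.succ_pos m))
      have : (1 : A) ∈ IsLocalRing.maximalIdeal A := by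
        have := (IsLocalRing.maximalIdeal A).sub_mem h2 h
        simpa using this
      exact (IsLocalRing.maximalIdeal A).ne_top_iff_one.1 (IsLocalRing.maximalIdeal.isMaximal A).ne_top this
    obtain ⟨t, ht⟩ := ht0
    obtain ⟨s, hs⟩ := hs0
    have htinv : ((t⁻¹ : Aˣ) : A) * (t : A) = 1 := Units.inv_mul t
    have ht0' : (t : A) ≠ 0 := t.ne_zero
    refine ⟨((-1 : Aˣ) : A) * ϖ, (-(s * t⁻¹) : Aˣ) * ϖ, t, u₀ * t⁻¹,
      (irreducible_units_mul _).2 hϖ, (irreducible_units_mul _).2 hϖ, ?_, ?_, ?_⟩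
    · rw [ht]; simp
    · apply mul_right_cancel₀ ht0'
      simp only [Units.val_mul, Units.val_neg]
      simp only [Nat.succ_eq_add_one] at hd
      linear_combination ((u₀ : A) - s * ϖ) * htinv + hd - ht - ϖ * hs
    · rw [mul_comm, mul_assoc, inv_mul_cancel, mul_one]

theorem symbol_cons_one {n : ℕ} (c : Fin n → Lˣ) : (symbol (Fin.cons 1 c) : K L (n + 1)) = 0 := by
  have := symbol_cons_mul (F := L) 1 1 c
  rw [mul_one] at this
  exact left_eq_add.mp this

theorem unitOneSymbols_le_unitSymbols (n : ℕ) :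
    AddSubgroup.closure {z : K L (n + 1) | ∃ (u₀ : Aˣ) (w : Fin n → Lˣ),
        IsLocalRing.residue A (u₀ : A) = 1 ∧ z = symbol (Fin.cons (unitToFrac A L u₀) w)} ≤
      unitSymbols A L (n + 1) := by
  rw [AddSubgroup.closure_le]
  rintro z ⟨u₀, w, hu₀, rfl⟩
  rcases unit_residue_one_cases A u₀ hu₀ with rfl | ⟨ϖ', hϖ', h⟩ | ⟨ϖ₁, ϖ₂, x₁, x₂, h1, h2, hx1, hx2, rfl⟩
  · rw [map_one, symbol_cons_one]
    exact zero_mem _
  · exact symbol_one_sub_unif_mem A L ϖ' hϖ' u₀ h w
  · rw [map_mul, symbol_cons_mul]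
    exact add_mem (symbol_one_sub_unif_mem A L ϖ₁ h1 x₁ hx1 w)
      (symbol_one_sub_unif_mem A L ϖ₂ h2 x₂ hx2 w)

end DVR

end Groth.Agent.Helper5
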