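import Mathlib
import Groth.Agent.Lib.Helper5.MilKTame
import Groth.Agent.Lib.Helper5.MilKPerm
import Groth.Agent.Lib.Helper5.MilKU1

set_option autoImplicit false
universe u v w

namespace Groth.Agent.Helper5

open MilK

section General

variable {F : Type u} [Field F]

theorem symbol_update_one {n : ℕ} (x : Fin n → Fˣ) (i : Fin n) :
    (symbol (Function.update x i 1) : K F n) = 0 := by
  have := symbol_update_mul (F := F) x i 1 1
  rw [mul_one] at this
  exact left_eq_add.mp this

theorem symbol_update_inv {n : ℕ} (x : Fin n → Fˣ) (i : Fin n) (t : Fˣ) :
    (symbol (Function.update x i t⁻¹) : K F n) = - symbol (Function.update x i t) := by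
  have := symbol_update_mul (F := F) x i t t⁻¹
  rw [mul_inv_cancel, symbol_update_one] at this
  exact eq_neg_of_add_eq_zero_right this.symm

/-- Multilinear generation: if a subgroup `H` contains all symbols with entries in a generating
set `S` of `Fˣ`, it contains all symbols. -/
theorem symbol_mem_of_generators {n : ℕ} (H : AddSubgroup (K F n)) (S : Set Fˣ)
    (hS : Subgroup.closure S = ⊤)
    (h : ∀ w : Fin n → Fˣ, (∀ i, w i ∈ S) → symbol w ∈ H) (w : Fin n → Fˣ) : symbol w ∈ H := by
  classical
  have key : ∀ j : ℕ, j ≤ n → ∀ w : Fin n → Fˣ, (∀ i : Fin n, j ≤ i.val → w i ∈ S) →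
      symbol w ∈ H := by
    intro j
    induction j with
    | zero => intro _ w hw; exact h w (fun i => hw i (Nat.zero_le _))
    | succ j ih =>
      intro hj w hw
      have hj' : j < n := hj
      have hall : ∀ t : Fˣ, symbol (Function.update w ⟨j, hj'⟩ t) ∈ H := by
        intro t
        have ht : t ∈ Subgroup.closure S := by rw [hS]; trivial
        induction ht using Subgroup.closure_induction with
        | mem t ht =>
          apply ih (Nat.le_of_lt hj')
          intro i hi
          by_cases hij : i = ⟨j, hj'⟩
          · subst hij; simpa using ht
          · rw [Function.update_of_ne hij]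
            apply hw
            have : i.val ≠ j := fun hv => hij (Fin.ext hv)
            omega
        | one => rw [symbol_update_one]; exact zero_mem _
        | mul a b _ _ ha hb => rw [symbol_update_mul]; exact add_mem ha hb
        | inv a _ ha => rw [symbol_update_inv]; exact neg_mem ha
      have := hall (w ⟨j, hj'⟩)
      rwa [Function.update_eq_self] at this
  exact key n le_rfl w (fun i hi => absurd i.isLt (not_lt.2 hi))

end General

section DVR

variable (A : Type u) [CommRing A] [IsDomain A] [IsDiscreteValuationRing A]
  (L : Type v) [Field L] [Algebra A L] [IsFractionRing A L]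

/-- An additive map vanishing on all symbols `{ϖ', u₁, …, uₙ}` (all uniformizers `ϖ'`) is zero. -/
theorem hom_eq_zero_of_tame_vanish {M : Type w} [AddCommGroup M] (n : ℕ) (D : K L (n + 1) →+ M)
    (hD : ∀ (ϖ' : A) (hϖ' : Irreducible ϖ') (u : Fin n → Aˣ),
      D (symbol (Fin.cons (unitFrac A L ϖ' hϖ'.ne_zero) fun i => unitToFrac A L (u i))) = 0) :
    D = 0 := by
  classical
  obtain ⟨ϖ, hϖ⟩ := IsDiscreteValuationRing.exists_irreducible A
  set P : Lˣ := unitFrac A L ϖ hϖ.ne_zero with hP
  -- (a) unit symbols
  have hunit : ∀ u : Fin (n + 1) → Aˣ, D (symbol (fun i => unitToFrac A L (u i))) = 0 := by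
    intro u
    have hirr : Irreducible (ϖ * (u 0 : A)) := by
      rw [mul_comm]; exact (irreducible_units_mul (u 0)).2 hϖ
    have h1 := hD (ϖ * (u 0 : A)) hirr (fun i => u i.succ)
    have h2 := hD ϖ hϖ (fun i => u i.succ)
    have e1 : unitFrac A L (ϖ * (u 0 : A)) hirr.ne_zero = P * unitToFrac A L (u 0) := by
      apply Units.ext
      simp [unitToFrac, hP]
    rw [e1, symbol_cons_mul, map_add, h2, zero_add] at h1
    have e2 : (fun i => unitToFrac A L (u i)) =
        (Fin.cons (unitToFrac A L (u 0)) (fun i => unitToFrac A L (u i.succ)) : Fin (n + 1) → Lˣ) := by
      funext i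
      refine Fin.cases ?_ (fun j => ?_) i
      · simp
      · simp
    rw [e2]
    exact h1
  -- (b) normalized symbols
  have hnorm : ∀ (k : ℕ) (w : Fin (n + 1) → Lˣ),
      (∀ i, w i = P ∨ ∃ u : Aˣ, w i = unitToFrac A L u) →
      (Finset.univ.filter (fun i => w i = P)).card = k → D (symbol w) = 0 := by
    intro k
    induction k using Nat.strong_induction_on with
    | _ k ih =>
      intro w hw hk
      by_cases hk0 : k = 0
      · -- all units
        subst hk0
        rw [Finset.card_eq_zero, Finset.filter_eq_empty_iff] at hk
        have : ∀ i, ∃ u : Aˣ, w i = unitToFrac A L u := by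
          intro i
          rcases hw i with h | h
          · exact absurd h (hk (Finset.mem_univ i))
          · exact h
        choose u hu using this
        rw [show w = fun i => unitToFrac A L (u i) from funext hu]
        exact hunit u
      by_cases hk1 : k = 1
      · subst hk1
        rw [Finset.card_eq_one] at hk
        obtain ⟨i, hi⟩ := hk
        have hiP : w i = P := by
          have : i ∈ Finset.univ.filter (fun i => w i = P) := by rw [hi]; simp
          simpa using this
        have hother : ∀ j, j ≠ i → ∃ u : Aˣ, w j = unitToFrac A L u := by
          intro j hj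
          rcases hw j with h | h
          · exfalso
            have : j ∈ Finset.univ.filter (fun i => w i = P) := by simp [h]
            rw [hi, Finset.mem_singleton] at this
            exact hj this
          · exact h
        -- move slot i to the front
        have hsw : symbol (w ∘ Equiv.swap 0 i) = ((Equiv.Perm.sign (Equiv.swap 0 i) : ℤˣ) : ℤ) • symbol w :=
          symbol_comp_perm _ w
        have hunits : ∀ j : Fin n, ∃ u : Aˣ, (w ∘ Equiv.swap 0 i) j.succ = unitToFrac A L u := by
          intro j
          by_cases hji : j.succ = i
          · rw [Function.comp_apply, hji, Equiv.swap_apply_right]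
            apply hother
            rw [← hji]
            exact (Fin.succ_ne_zero j).symm
          · rw [Function.comp_apply, Equiv.swap_apply_of_ne_of_ne (Fin.succ_ne_zero j) hji]
            exact hother _ hji
        choose u hu using hunits
        have e3 : w ∘ Equiv.swap 0 i = (Fin.cons P (fun j => unitToFrac A L (u j)) : Fin (n + 1) → Lˣ) := by
          funext j
          refine Fin.cases ?_ (fun j' => ?_) j
          · simp [hiP]
          · rw [Fin.cons_succ]; exact hu j'
        have h4 : D (symbol (w ∘ Equiv.swap 0 i)) = 0 := by
          rw [e3]; exact hD ϖ hϖ u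
        rw [hsw, map_zsmul] at h4
        rcases Int.units_eq_one_or (Equiv.Perm.sign (Equiv.swap 0 i)) with hs | hs
        · rw [hs] at h4; simpa using h4
        · rw [hs] at h4; simpa using h4
      · -- at least two slots equal to P
        have hk2 : 1 < k := by omega
        rw [← hk] at hk2
        obtain ⟨i, hi, j, hj, hij⟩ := Finset.one_lt_card.1 hk2
        have hiP : w i = P := by simpa using hi
        have hjP : w j = P := by simpa using hj
        have hB := isStSymb_update (F := L) w i j hij
        have e4 : symbol w = symbol (Function.update w j (-1)) := by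
          have h6 : symbol (Function.update (Function.update w i P) j P) =
              symbol (Function.update (Function.update w i P) j (-1)) := hB.self_eq P
          have h7 : Function.update w i P = w := by rw [← hiP, Function.update_eq_self]
          rw [h7] at h6
          have h8 : Function.update w j P = w := by rw [← hjP, Function.update_eq_self]
          rw [h8] at h6
          exact h6
        rw [e4]
        have hcard : (Finset.univ.filter (fun l => Function.update w j (-1) l = P)).card < k := by
          rw [← hk]
          apply Finset.card_lt_card
          rw [Finset.ssubset_iff_of_subset]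
          · refine ⟨j, hj, ?_⟩
            simp only [Finset.mem_filter, Finset.mem_univ, Function.update_self, true_and]
            intro hneg
            -- -1 = P impossible: P is not a unit of A
            have : (algebraMap A L ϖ) = algebraMap A L (-1) := by
              have := congrArg (fun z : Lˣ => (z : L)) hneg
              simpa [hP] using this.symm
            have h5 := IsFractionRing.injective A L this
            exact hϖ.not_isUnit (h5 ▸ isUnit_one.neg)
          · intro l hl
            simp only [Finset.mem_filter, Finset.mem_univ, true_and] at hl ⊢
            by_cases hlj : l = j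
            · subst hlj; exact hjP
            · rwa [Function.update_of_ne hlj] at hl
        refine ih _ hcard (Function.update w j (-1)) ?_ rfl
        intro l
        by_cases hlj : l = j
        · subst hlj
          right
          refine ⟨-1, ?_⟩
          rw [Function.update_self]
          apply Units.ext
          simp [unitToFrac]
        · rw [Function.update_of_ne hlj]; exact hw l
  -- (c) conclude
  apply K_hom_ext
  intro x
  rw [AddMonoidHom.zero_apply]
  have hgen : Subgroup.closure ({P} ∪ Set.range (unitToFrac A L) : Set Lˣ) = ⊤ := by
    rw [eq_top_iff]
    intro l _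
    obtain ⟨e, u, rfl⟩ := exists_zpow_mul_unit A L ϖ hϖ l
    have hPm : P ∈ Subgroup.closure ({P} ∪ Set.range (unitToFrac A L) : Set Lˣ) :=
      Subgroup.subset_closure (Set.mem_union_left _ (Set.mem_singleton _))
    have hum : unitToFrac A L u ∈ Subgroup.closure ({P} ∪ Set.range (unitToFrac A L) : Set Lˣ) :=
      Subgroup.subset_closure (Set.mem_union_right _ ⟨u, rfl⟩)
    exact mul_mem (zpow_mem hPm e) hum
  have := symbol_mem_of_generators (F := L) D.ker _ hgen (fun w hw => by
    rw [AddMonoidHom.mem_ker]
    refine hnorm _ w (fun i => ?_) rfl
    rcases hw i with h | ⟨u, hu⟩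
    · exact Or.inl h
    · exact Or.inr ⟨u, hu.symm⟩) x
  exact this

end DVR

end Groth.Agent.Helper5
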