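import Mathlib
import Groth.Agent.Lib.Helper5.MilKGen

set_option autoImplicit false
universe u v w

namespace Groth.Agent.Helper5

open MilK

section General

variable {F : Type u} [Field F]

/-- A subgroup containing all symbols is everything. -/
theorem addSubgroup_eq_top_of_symbols {n : ℕ} (H : AddSubgroup (K F n))
    (h : ∀ x : Fin n → Fˣ, symbol x ∈ H) : H = ⊤ := by
  rw [eq_top_iff]
  intro y _
  have h0 : QuotientAddGroup.mk' H = 0 := by
    apply K_hom_ext
    intro x
    rw [AddMonoidHom.zero_apply, QuotientAddGroup.mk'_apply, QuotientAddGroup.eq_zero_iff]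
    exact h x
  have := DFunLike.congr_fun h0 y
  rwa [AddMonoidHom.zero_apply, QuotientAddGroup.mk'_apply, QuotientAddGroup.eq_zero_iff] at this

end General

section DVR

variable (A : Type u) [CommRing A] [IsDomain A] [IsDiscreteValuationRing A]
  (L : Type v) [Field L] [Algebra A L] [IsFractionRing A L]

theorem unitResidue_surjective : Function.Surjective (unitResidue A) := by
  intro c
  obtain ⟨a, ha⟩ := IsLocalRing.residue_surjective (c : IsLocalRing.ResidueField A)
  have hne : IsLocalRing.residue A a ≠ 0 := by rw [ha]; exact c.ne_zero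
  obtain ⟨w, hw⟩ := (IsLocalRing.residue_ne_zero_iff_isUnit _).1 hne
  refine ⟨w, ?_⟩
  apply Units.ext
  simp only [unitResidue, Units.coe_map, MonoidHom.coe_coe]
  rw [hw, ha]

/-- A chosen section of the residue map on units. -/
noncomputable def sec (c : (IsLocalRing.ResidueField A)ˣ) : Aˣ :=
  Function.surjInv (unitResidue_surjective A) c

theorem unitResidue_sec (c : (IsLocalRing.ResidueField A)ˣ) : unitResidue A (sec A c) = c :=
  Function.surjInv_eq _ c

theorem residue_one_of_unitResidue_eq {a b : Aˣ} (h : unitResidue A a = unitResidue A b) :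
    IsLocalRing.residue A ((b⁻¹ * a : Aˣ) : A) = 1 := by
  have h1 : unitResidue A (b⁻¹ * a) = 1 := by
    rw [map_mul, map_inv, h, inv_mul_cancel]
  have := congrArg (fun z : (IsLocalRing.ResidueField A)ˣ => (z : IsLocalRing.ResidueField A)) h1
  simpa [unitResidue] using this

/-- A symbol with an entry in `1 + 𝔪` (at any slot) lies in the subgroup of unit symbols. -/
theorem symbol_mem_of_slot_residue_one {n : ℕ} (z : Fin (n + 1) → Lˣ) (i : Fin (n + 1)) (t : Aˣ)
    (ht : IsLocalRing.residue A (t : A) = 1) (hz : z i = unitToFrac A L t) :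
    symbol z ∈ unitSymbols A L (n + 1) := by
  have h0 : ∀ z' : Fin (n + 1) → Lˣ, z' 0 = unitToFrac A L t → symbol z' ∈ unitSymbols A L (n + 1) := by
    intro z' hz'
    apply unitOneSymbols_le_unitSymbols A L n
    apply AddSubgroup.subset_closure
    refine ⟨t, Fin.tail z', ht, ?_⟩
    rw [← hz', Fin.cons_self_tail]
  by_cases hi : i = 0
  · subst hi; exact h0 z hz
  · have h1 := symbol_comp_swap (F := L) z 0 i (Ne.symm hi)
    have h2 : symbol (z ∘ Equiv.swap 0 i) ∈ unitSymbols A L (n + 1) := by
      apply h0
      rw [Function.comp_apply, Equiv.swap_apply_left, hz]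
    rw [h1] at h2
    simpa using neg_mem h2

/-- Replacement lemma: changing entries by factors in `1 + 𝔪` does not change the class modulo
unit symbols. -/
theorem symbol_sub_mem_of_residue_one {n : ℕ} (z z' : Fin (n + 1) → Lˣ)
    (h : ∀ i, ∃ t : Aˣ, IsLocalRing.residue A (t : A) = 1 ∧ z' i = z i * unitToFrac A L t) :
    symbol z' - symbol z ∈ unitSymbols A L (n + 1) := by
  classical
  have key : ∀ S : Finset (Fin (n + 1)),
      symbol (fun i => if i ∈ S then z' i else z i) - symbol z ∈ unitSymbols A L (n + 1) := by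
    intro S
    induction S using Finset.induction_on with
    | empty => simp
    | insert k S hk ih =>
      obtain ⟨t, ht, hzk⟩ := h k
      set v : Fin (n + 1) → Lˣ := fun i => if i ∈ S then z' i else z i with hv
      have e1 : (fun i => if i ∈ insert k S then z' i else z i) =
          Function.update v k (z k * unitToFrac A L t) := by
        funext i
        by_cases hik : i = k
        · subst hik; simp [hzk]
        · simp [Function.update_of_ne hik, Finset.mem_insert, hik, hv]
      have e2 : Function.update v k (z k) = v := by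
        have : v k = z k := by simp [hv, hk]
        rw [← this, Function.update_eq_self]
      rw [e1, symbol_update_mul, e2]
      have h3 : symbol (Function.update v k (unitToFrac A L t)) ∈ unitSymbols A L (n + 1) :=
        symbol_mem_of_slot_residue_one A L _ k t ht (by simp)
      have : symbol v + symbol (Function.update v k (unitToFrac A L t)) - symbol z =
          (symbol v - symbol z) + symbol (Function.update v k (unitToFrac A L t)) := by abel
      rw [this]
      exact add_mem ih h3
  simpa using key Finset.univ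

/-- Tame symbols vanish on unit symbols. -/
theorem tame_unit_symbol {n : ℕ} (d : K L (n + 1) →+ K (IsLocalRing.ResidueField A) n)
    (hd : IsTameSymbol A L n d) (u : Fin (n + 1) → Aˣ) :
    d (symbol (fun i => unitToFrac A L (u i))) = 0 := by
  obtain ⟨ϖ, hϖ⟩ := IsDiscreteValuationRing.exists_irreducible A
  have hirr : Irreducible (ϖ * (u 0 : A)) := by
    rw [mul_comm]; exact (irreducible_units_mul (u 0)).2 hϖ
  have h1 := hd (ϖ * (u 0 : A)) hirr (fun i => u i.succ)
  have h2 := hd ϖ hϖ (fun i => u i.succ)
  have e1 : unitFrac A L (ϖ * (u 0 : A)) hirr.ne_zero =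
      unitFrac A L ϖ hϖ.ne_zero * unitToFrac A L (u 0) := by
    apply Units.ext
    simp [unitToFrac]
  rw [e1, symbol_cons_mul, map_add, h2] at h1
  have e2 : (fun i => unitToFrac A L (u i)) =
      (Fin.cons (unitToFrac A L (u 0)) (fun i => unitToFrac A L (u i.succ)) : Fin (n + 1) → Lˣ) := by
    funext i
    refine Fin.cases ?_ (fun j => ?_) i
    · simp
    · simp
  rw [e2]
  exact left_eq_add.mp h1.symm

section Rho

variable (ϖ : A) (hϖ : Irreducible ϖ) (n : ℕ)

/-- The function underlying `ρ`. -/
noncomputable def rhoFun (c : Fin n → Additive (IsLocalRing.ResidueField A)ˣ) :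
    K L (n + 1) ⧸ unitSymbols A L (n + 1) :=
  QuotientAddGroup.mk (symbol (Fin.cons (unitFrac A L ϖ hϖ.ne_zero)
    (fun j => unitToFrac A L (sec A (c j).toMul))))

theorem rhoFun_update [DecidableEq (Fin n)] (c : Fin n → Additive (IsLocalRing.ResidueField A)ˣ)
    (i : Fin n) (t : Additive (IsLocalRing.ResidueField A)ˣ) :
    rhoFun A L ϖ hϖ n (Function.update c i t) =
      QuotientAddGroup.mk (symbol (Function.update (Fin.cons (unitFrac A L ϖ hϖ.ne_zero)
        (fun j => unitToFrac A L (sec A (c j).toMul)) : Fin (n + 1) → Lˣ) i.succ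
          (unitToFrac A L (sec A t.toMul)))) := by
  rw [rhoFun]
  congr 2
  funext j
  refine Fin.cases ?_ (fun j' => ?_) j
  · rw [Fin.cons_zero, Function.update_of_ne (Fin.succ_ne_zero i).symm, Fin.cons_zero]
  · rw [Fin.cons_succ]
    by_cases hji : j' = i
    · subst hji; simp
    · rw [Function.update_of_ne hji, Function.update_of_ne (fun h => hji (Fin.succ_injective _ h)),
        Fin.cons_succ]

theorem rhoFun_update_add [DecidableEq (Fin n)]
    (c : Fin n → Additive (IsLocalRing.ResidueField A)ˣ)
    (i : Fin n) (a b : Additive (IsLocalRing.ResidueField A)ˣ) :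
    rhoFun A L ϖ hϖ n (Function.update c i (a + b)) =
      rhoFun A L ϖ hϖ n (Function.update c i a) + rhoFun A L ϖ hϖ n (Function.update c i b) := by
  rw [rhoFun_update, rhoFun_update, rhoFun_update]
  set z : Fin (n + 1) → Lˣ := Fin.cons (unitFrac A L ϖ hϖ.ne_zero)
    (fun j => unitToFrac A L (sec A (c j).toMul)) with hz
  set T : Aˣ := (sec A a.toMul * sec A b.toMul)⁻¹ * sec A (a.toMul * b.toMul) with hT
  have hTres : IsLocalRing.residue A (T : A) = 1 := by
    apply residue_one_of_unitResidue_eq
    rw [map_mul, unitResidue_sec, unitResidue_sec, unitResidue_sec]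
  have e1 : sec A (a + b).toMul = sec A a.toMul * sec A b.toMul * T := by
    rw [hT, toMul_add]; group
  rw [e1, map_mul, map_mul, symbol_update_mul, symbol_update_mul, QuotientAddGroup.mk_add,
    QuotientAddGroup.mk_add]
  have h3 : (QuotientAddGroup.mk (symbol (Function.update z i.succ (unitToFrac A L T))) :
      K L (n + 1) ⧸ unitSymbols A L (n + 1)) = 0 := by
    rw [QuotientAddGroup.eq_zero_iff]
    exact symbol_mem_of_slot_residue_one A L _ i.succ T hTres (by simp)
  rw [h3, add_zero]

theorem rhoFun_steinberg (c : Fin n → (IsLocalRing.ResidueField A)ˣ)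
    (h : IsSteinberg (IsLocalRing.ResidueField A) c) :
    rhoFun A L ϖ hϖ n (fun i => Additive.ofMul (c i)) = 0 := by
  classical
  obtain ⟨i, j, hij, hsum⟩ := h
  rw [rhoFun, QuotientAddGroup.eq_zero_iff]
  set z : Fin (n + 1) → Lˣ := Fin.cons (unitFrac A L ϖ hϖ.ne_zero)
    (fun j => unitToFrac A L (sec A (c j))) with hz
  show symbol z ∈ unitSymbols A L (n + 1)
  -- the unit 1 - sec (c i)
  have hres : IsLocalRing.residue A (1 - (sec A (c i) : A)) = (c j : IsLocalRing.ResidueField A) := by
    have h1 := congrArg (fun z : (IsLocalRing.ResidueField A)ˣ => (z : IsLocalRing.ResidueField A))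
      (unitResidue_sec A (c i))
    simp only [unitResidue, Units.coe_map, MonoidHom.coe_coe] at h1
    rw [map_sub, map_one, h1, ← hsum]; ring
  have hne : IsLocalRing.residue A (1 - (sec A (c i) : A)) ≠ 0 := by rw [hres]; exact (c j).ne_zero
  obtain ⟨v, hv⟩ := (IsLocalRing.residue_ne_zero_iff_isUnit _).1 hne
  have hvres : unitResidue A v = c j := by
    apply Units.ext
    simp only [unitResidue, Units.coe_map, MonoidHom.coe_coe]
    rw [hv, hres]
  set T : Aˣ := v⁻¹ * sec A (c j) with hT
  have hTres : IsLocalRing.residue A (T : A) = 1 := by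
    apply residue_one_of_unitResidue_eq
    rw [unitResidue_sec, hvres]
  have e1 : sec A (c j) = v * T := by rw [hT]; group
  have e2 : z = Function.update z j.succ (unitToFrac A L v * unitToFrac A L T) := by
    have : z j.succ = unitToFrac A L v * unitToFrac A L T := by
      rw [hz, Fin.cons_succ, e1, map_mul]
    rw [← this, Function.update_eq_self]
  rw [e2, symbol_update_mul]
  refine add_mem ?_ (symbol_mem_of_slot_residue_one A L _ j.succ T hTres (by simp))
  have hst : symbol (Function.update z j.succ (unitToFrac A L v)) = 0 := by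
    apply symbol_eq_zero_of_isSteinberg
    refine ⟨i.succ, j.succ, Fin.succ_lt_succ_iff.2 hij, ?_⟩
    rw [Function.update_self, Function.update_of_ne (fun h => (ne_of_lt hij) (Fin.succ_injective _ h)),
      hz, Fin.cons_succ]
    simp only [unitToFrac, Units.coe_map, MonoidHom.coe_coe]
    rw [hv, map_sub, map_one]
    ring
  rw [hst]
  exact zero_mem _

/-- `ρ` as a multilinear map. -/
noncomputable def rhoM : MultilinearMap ℤ (fun _ : Fin n => Additive (IsLocalRing.ResidueField A)ˣ)
    (K L (n + 1) ⧸ unitSymbols A L (n + 1)) where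
  toFun := rhoFun A L ϖ hϖ n
  map_update_add' := by
    intro _ c i a b
    exact rhoFun_update_add A L ϖ hϖ n c i a b
  map_update_smul' := by
    intro _ c i k a
    let g : Additive (IsLocalRing.ResidueField A)ˣ →+ (K L (n + 1) ⧸ unitSymbols A L (n + 1)) :=
      AddMonoidHom.mk' (fun t => rhoFun A L ϖ hϖ n (Function.update c i t))
        (fun a b => rhoFun_update_add A L ϖ hϖ n c i a b)
    exact map_zsmul g k a

/-- `ρ : K_n(κ) → K_{n+1}(L) / U`, `{ū₁, …, ūₙ} ↦ {ϖ, u₁, …, uₙ}`. -/
noncomputable def rho : K (IsLocalRing.ResidueField A) n →+ (K L (n + 1) ⧸ unitSymbols A L (n + 1)) :=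
  MilK.lift (rhoM A L ϖ hϖ n) (rhoFun_steinberg A L ϖ hϖ n)

theorem rho_symbol (c : Fin n → (IsLocalRing.ResidueField A)ˣ) :
    rho A L ϖ hϖ n (symbol c) = QuotientAddGroup.mk (symbol (Fin.cons (unitFrac A L ϖ hϖ.ne_zero)
      (fun j => unitToFrac A L (sec A (c j))))) :=
  lift_symbol _ _ _

theorem mk_eq_rho_comp (d : K L (n + 1) →+ K (IsLocalRing.ResidueField A) n)
    (hd : IsTameSymbol A L n d) :
    QuotientAddGroup.mk' (unitSymbols A L (n + 1)) = (rho A L ϖ hϖ n).comp d := by
  rw [← sub_eq_zero]
  apply hom_eq_zero_of_tame_vanish A L n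
  intro ϖ' hϖ' u
  rw [AddMonoidHom.sub_apply, AddMonoidHom.comp_apply, hd ϖ' hϖ' u, rho_symbol,
    QuotientAddGroup.mk'_apply, ← QuotientAddGroup.mk_sub, QuotientAddGroup.eq_zero_iff]
  obtain ⟨w, hw⟩ := IsDiscreteValuationRing.associated_of_irreducible A hϖ hϖ'
  have e1 : unitFrac A L ϖ' hϖ'.ne_zero = unitFrac A L ϖ hϖ.ne_zero * unitToFrac A L w := by
    apply Units.ext
    simp [unitToFrac, ← hw]
  rw [e1, symbol_cons_mul]
  have h1 : symbol (Fin.cons (unitToFrac A L w) (fun i => unitToFrac A L (u i)) : Fin (n + 1) → Lˣ) ∈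
      unitSymbols A L (n + 1) := by
    apply AddSubgroup.subset_closure
    refine ⟨Fin.cons w u, ?_⟩
    congr 1
    funext i
    refine Fin.cases ?_ (fun j => ?_) i
    · simp
    · simp
  have h2 := symbol_sub_mem_of_residue_one A L
    (Fin.cons (unitFrac A L ϖ hϖ.ne_zero) (fun i => unitToFrac A L (u i)) : Fin (n + 1) → Lˣ)
    (Fin.cons (unitFrac A L ϖ hϖ.ne_zero)
      (fun j => unitToFrac A L (sec A (unitResidue A (u j)))) : Fin (n + 1) → Lˣ) (by
    intro i
    refine Fin.cases ?_ (fun j => ?_) i
    · exact ⟨1, by simp, by simp⟩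
    · refine ⟨(u j)⁻¹ * sec A (unitResidue A (u j)), ?_, ?_⟩
      · apply residue_one_of_unitResidue_eq
        rw [unitResidue_sec]
      · rw [Fin.cons_succ, Fin.cons_succ, ← map_mul]
        congr 1
        group)
  have : symbol (Fin.cons (unitFrac A L ϖ hϖ.ne_zero) fun i => unitToFrac A L (u i)) +
      symbol (Fin.cons (unitToFrac A L w) fun i => unitToFrac A L (u i)) -
      symbol (Fin.cons (unitFrac A L ϖ hϖ.ne_zero)
        fun j => unitToFrac A L (sec A (unitResidue A (u j)))) =
      symbol (Fin.cons (unitToFrac A L w) fun i => unitToFrac A L (u i)) -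
      (symbol (Fin.cons (unitFrac A L ϖ hϖ.ne_zero)
        fun j => unitToFrac A L (sec A (unitResidue A (u j)))) -
        symbol (Fin.cons (unitFrac A L ϖ hϖ.ne_zero) fun i => unitToFrac A L (u i))) := by abel
  rw [this]
  exact sub_mem h1 h2

end Rho

/-- The kernel and surjectivity of a tame symbol. -/
theorem tame_surjective_and_ker (n : ℕ) (d : K L (n + 1) →+ K (IsLocalRing.ResidueField A) n)
    (hd : IsTameSymbol A L n d) :
    Function.Surjective d ∧ d.ker = unitSymbols A L (n + 1) := by
  obtain ⟨ϖ, hϖ⟩ := IsDiscreteValuationRing.exists_irreducible A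
  constructor
  · rw [← AddMonoidHom.range_eq_top]
    apply addSubgroup_eq_top_of_symbols
    intro c
    refine ⟨symbol (Fin.cons (unitFrac A L ϖ hϖ.ne_zero) (fun j => unitToFrac A L (sec A (c j)))), ?_⟩
    rw [hd ϖ hϖ (fun j => sec A (c j))]
    congr 1
    funext i
    exact unitResidue_sec A (c i)
  · apply le_antisymm
    · intro x hx
      rw [AddMonoidHom.mem_ker] at hx
      have := DFunLike.congr_fun (mk_eq_rho_comp A L ϖ hϖ n d hd) x
      rw [AddMonoidHom.comp_apply, hx, map_zero, QuotientAddGroup.mk'_apply,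
        QuotientAddGroup.eq_zero_iff] at this
      exact this
    · rw [unitSymbols, AddSubgroup.closure_le]
      rintro z ⟨u, rfl⟩
      exact tame_unit_symbol A L d hd u

end DVR

end Groth.Agent.Helper5
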