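import Groth.Agent.Lib.Helper5.VSheaf
import Mathlib

set_option autoImplicit false
universe w w' u

namespace Groth.Agent.Helper5.PhSheaf

open CategoryTheory CategoryTheory.Limits AlgebraicGeometry HTop Opposite

theorem zar_mem {U' : Scheme.{u}} {J : Type w'} (X : J → Scheme.{u}) (ι : ∀ j, X j ⟶ U')
    (hι : ∀ j, IsOpenImmersion (ι j)) (hcov : ∀ x : U', ∃ j, x ∈ Set.range (ι j).base) :
    Sieve.generate (Presieve.ofArrows X ι) ∈ Scheme.zariskiTopology U' := by
  apply Precoverage.generate_mem_toGrothendieck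
  refine (Scheme.presieve₀_mem_precoverage_iff (P := @IsOpenImmersion)
    (⟨J, X, ι⟩ : PreZeroHypercover.{w'} U')).2 ⟨?_, hι⟩
  intro x
  obtain ⟨j, hj⟩ := hcov x
  exact ⟨j, hj⟩

section

variable (F : Scheme.{u}ᵒᵖ ⥤ Type w)

theorem sheafFor_datum (hzar : Presieve.IsSheaf Scheme.zariskiTopology F)
    (hprop : ∀ (U V : Scheme.{u}) (f : V ⟶ U), IsProper f → Surjective f →
      Presieve.IsSheafFor F (Presieve.singleton f))
    {T U' : Scheme.{u}} (f : U' ⟶ T) (hf1 : IsProper f) (hf2 : Surjective f) {J : Type w'}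
    (X : J → Scheme.{u}) (ι : ∀ j, X j ⟶ U')
    (hι : ∀ j, IsOpenImmersion (ι j)) (hcov : ∀ x : U', ∃ j, x ∈ Set.range (ι j).base) :
    Presieve.IsSheafFor F
      (Sieve.generate (Presieve.ofArrows X (fun j => ι j ≫ f))).arrows := by
  obtain ⟨S, hS⟩ : ∃ S, S = Sieve.generate (Presieve.ofArrows X (fun j => ι j ≫ f)) := ⟨_, rfl⟩
  rw [← hS]
  have hZ := zar_mem X ι hι hcov
  have key : ∀ {Y : Scheme.{u}} (h : Y ⟶ U'),
      S.pullback (h ≫ f) ∈ Scheme.zariskiTopology Y := by
    intro Y h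
    refine Scheme.zariskiTopology.superset_covering ?_
      (Scheme.zariskiTopology.pullback_stable h hZ)
    intro W k hk
    obtain ⟨V, a, b, ⟨j⟩, hab⟩ := hk
    rw [hS]
    exact ⟨_, a, ι j ≫ f, ⟨j⟩, by rw [← Category.assoc, hab, Category.assoc]⟩
  have key' : ∀ {Y : Scheme.{u}} {g : Y ⟶ T},
      (Sieve.generate (Presieve.singleton f)).arrows g →
        S.pullback g ∈ Scheme.zariskiTopology Y := by
    intro Y g hg
    obtain ⟨V, h, k, ⟨⟩, rfl⟩ := hg
    exact key h
  have hbind := Presieve.isSheafFor_bind F (Sieve.generate (Presieve.singleton f))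
    (@fun Y g _ => S.pullback g)
    ((Presieve.isSheafFor_iff_generate _).1 (hprop _ _ f hf1 hf2))
    (@fun Y g hg => hzar _ (key' hg))
    (@fun Y g hg Z k =>
      (hzar _ (Scheme.zariskiTopology.pullback_stable k (key' hg))).isSeparatedFor)
  have heq : Sieve.bind (Sieve.generate (Presieve.singleton f)).arrows
      (@fun Y g _ => S.pullback g) = S := by
    apply le_antisymm
    · rintro Z m ⟨Y, g', g, hg, hg', rfl⟩
      exact hg'
    · rintro Z m hm
      rw [hS] at hm
      obtain ⟨V, a, b, ⟨j⟩, rfl⟩ := hm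
      refine ⟨_, a, ι j ≫ f, ⟨_, ι j, f, ⟨⟩, rfl⟩, ?_, rfl⟩
      rw [hS]
      exact ⟨_, a, ι j ≫ f, ⟨j⟩, rfl⟩
  rw [← heq]
  exact hbind

theorem sep_datum_pullback (hzar : Presieve.IsSheaf Scheme.zariskiTopology F)
    (hprop : ∀ (U V : Scheme.{u}) (f : V ⟶ U), IsProper f → Surjective f →
      Presieve.IsSheafFor F (Presieve.singleton f))
    {T U' : Scheme.{u}} (f : U' ⟶ T) (hf1 : IsProper f) (hf2 : Surjective f) {J : Type w'}
    (X : J → Scheme.{u}) (ι : ∀ j, X j ⟶ U')
    (hι : ∀ j, IsOpenImmersion (ι j)) (hcov : ∀ x : U', ∃ j, x ∈ Set.range (ι j).base)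
    {T' : Scheme.{u}} (g : T' ⟶ T) :
    Presieve.IsSeparatedFor F
      ((Sieve.generate (Presieve.ofArrows X (fun j => ι j ≫ f))).pullback g).arrows := by
  haveI := hf1
  haveI := hf2
  haveI := hι
  have h1 : IsProper (pullback.fst g f) := inferInstance
  have h2 : Surjective (pullback.fst g f) := inferInstance
  have h3 : ∀ j, IsOpenImmersion (pullback.fst (pullback.snd g f) (ι j)) := fun j => inferInstance
  have h4 : ∀ x : ↑(pullback g f),
      ∃ j, x ∈ Set.range (pullback.fst (pullback.snd g f) (ι j)).base := by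
    intro x
    obtain ⟨j, hj⟩ := hcov (pullback.snd g f x)
    refine ⟨j, ?_⟩
    have := Scheme.Pullback.range_fst (f := pullback.snd g f) (g := ι j)
    show x ∈ Set.range (pullback.fst (pullback.snd g f) (ι j))
    rw [this]
    exact hj
  have hsh := sheafFor_datum F hzar hprop (pullback.fst g f) h1 h2
    (fun j => pullback (pullback.snd g f) (ι j)) (fun j => pullback.fst _ _) h3 h4
  have hle : ∀ ⦃Y : Scheme.{u}⦄ (k : Y ⟶ T'),
      (Sieve.generate (Presieve.ofArrows (fun j => pullback (pullback.snd g f) (ι j))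
        (fun j => pullback.fst (pullback.snd g f) (ι j) ≫ pullback.fst g f))).arrows k →
      ((Sieve.generate (Presieve.ofArrows X (fun j => ι j ≫ f))).pullback g).arrows k := by
    intro Y k hk
    obtain ⟨V, a, b, ⟨j⟩, rfl⟩ := hk
    refine ⟨_, a ≫ pullback.snd (pullback.snd g f) (ι j), ι j ≫ f, ⟨j⟩, ?_⟩
    have c1 := pullback.condition (f := pullback.snd g f) (g := ι j)
    have c2 := pullback.condition (f := g) (g := f)
    simp only [Category.assoc]
    rw [c2, reassoc_of% c1]
  intro x t₁ t₂ ht₁ ht₂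
  refine hsh.isSeparatedFor.ext ?_
  intro Y k hk
  rw [ht₁ k (hle k hk), ht₂ k (hle k hk)]

theorem sheafFor_pullback_openImm (hzar : Presieve.IsSheaf Scheme.zariskiTopology F)
    (hprop : ∀ (U V : Scheme.{u}) (f : V ⟶ U), IsProper f → Surjective f →
      Presieve.IsSheafFor F (Presieve.singleton f))
    {X : Scheme.{u}} (E : PreZeroHypercover.{w'} X) (hE : IsPhCover E) {T' : Scheme.{u}}
    [IsAffine T'] (g : T' ⟶ X) [IsOpenImmersion g] :
    Presieve.IsSheafFor F ((Sieve.generate E.presieve₀).pullback g).arrows := by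
  have hU : g.opensRange ∈ X.affineOpens := isAffineOpen_opensRange g
  obtain ⟨G, hG, hGE⟩ := hE.2 ⟨g.opensRange, hU⟩
  obtain ⟨U', f, ι, hf1, hf2, hι, hfac, hcov⟩ := hG.exists_proper
  let e : (g.opensRange : Scheme.{u}) ≅ T' :=
    IsOpenImmersion.isoOfRangeEq g.opensRange.ι g (by simp)
  have he : e.hom ≫ g = g.opensRange.ι := IsOpenImmersion.isoOfRangeEq_hom_fac _ _ _
  haveI := hf1
  haveI := hf2
  have hf1' : IsProper (f ≫ e.hom) := inferInstance
  have hf2' : Surjective (f ≫ e.hom) := inferInstance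
  have hsh := sheafFor_datum F hzar hprop (f ≫ e.hom) hf1' hf2' G.X ι hι hcov
  refine Presieve.isSheafFor_subsieve_aux F
    (S := Sieve.generate (Presieve.ofArrows G.X (fun j => ι j ≫ f ≫ e.hom))) ?_ hsh ?_
  · intro Y k hk
    obtain ⟨V, a, b, ⟨j⟩, rfl⟩ := hk
    obtain ⟨i, h, hh⟩ := hGE j
    refine ⟨_, a ≫ h, E.f i, ⟨i⟩, ?_⟩
    have hh' : h ≫ E.f i = G.f j ≫ g.opensRange.ι := hh
    simp only [Category.assoc]
    rw [hh', he, ← hfac j, Category.assoc]
  · intro Y k _
    exact sep_datum_pullback F hzar hprop (f ≫ e.hom) hf1' hf2' G.X ι hι hcov k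

theorem isPhSheaf (hzar : Presieve.IsSheaf Scheme.zariskiTopology F)
    (hprop : ∀ (U V : Scheme.{u}) (f : V ⟶ U), IsProper f → Surjective f →
      Presieve.IsSheafFor F (Presieve.singleton f)) : IsPhSheaf F := by
  intro X R hR
  obtain ⟨E, hE, rfl⟩ := PreZeroHypercoverFamily.mem_precoverage_iff.1 hR
  refine X.affineOneHypercover.isSheafFor_of_pullback hzar ?_ ?_
  · intro i
    haveI : IsAffine (X.affineOneHypercover.X i) := inferInstanceAs (IsAffine (Spec _))
    haveI : IsOpenImmersion (X.affineOneHypercover.f i) := X.affineCover.map_prop i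
    exact sheafFor_pullback_openImm F hzar hprop E hE _
  · intro i j k
    haveI : IsAffine (X.affineOneHypercover.Y k) := inferInstanceAs (IsAffine (Spec _))
    haveI : IsOpenImmersion (X.affineOneHypercover.p₁ k ≫ X.affineOneHypercover.f i) := by
      haveI : IsOpenImmersion (X.affineCover.f i) := X.affineCover.map_prop i
      haveI : IsOpenImmersion (X.affineCover.f j) := X.affineCover.map_prop j
      haveI : IsOpenImmersion ((pullback (X.affineCover.f i) (X.affineCover.f j)).affineCover.f k) :=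
        (pullback (X.affineCover.f i) (X.affineCover.f j)).affineCover.map_prop k
      show IsOpenImmersion (((pullback (X.affineCover.f i) (X.affineCover.f j)).affineCover.f k ≫
        pullback.fst _ _) ≫ X.affineCover.f i)
      infer_instance
    exact (sheafFor_pullback_openImm F hzar hprop E hE _).isSeparatedFor

end

end Groth.Agent.Helper5.PhSheaf
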