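import Groth.Agent.Lib.Helper5.VSheaf
import Groth.Agent.S7468
import Mathlib

set_option autoImplicit false
universe w w' u

namespace Groth.Agent.Helper5.PhV

open CategoryTheory CategoryTheory.Limits AlgebraicGeometry HTop Opposite

/-- Finite affine open cover of a quasi-compact scheme. -/
theorem exists_finite_affine_cover_compact (T' : Scheme.{u}) [CompactSpace T'] :
    ∃ (n : ℕ) (W : Fin n → T'.Opens), (∀ k, IsAffineOpen (W k)) ∧ (∀ x : T', ∃ k, x ∈ W k) := by
  have h2 : ∀ x : T', ∃ W : T'.Opens, IsAffineOpen W ∧ x ∈ W := by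
    intro x
    obtain ⟨W, hW, hx, -⟩ := exists_isAffineOpen_mem_and_subset
      (X := T') (x := x) (U := ⊤) (by simp)
    exact ⟨W, hW, hx⟩
  choose W hW hxW using h2
  obtain ⟨t, ht⟩ := isCompact_univ.elim_finite_subcover (fun x => ((W x : T'.Opens) : Set T'))
    (fun x => (W x).2) (fun x _ => Set.mem_iUnion.2 ⟨x, hxW x⟩)
  let e : Fin t.card ≃ t := t.equivFin.symm
  refine ⟨t.card, fun k => W (e k), fun k => hW _, ?_⟩
  intro x
  have := ht (Set.mem_univ x)
  simp only [Set.mem_iUnion] at this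
  obtain ⟨y, hy, hxy⟩ := this
  refine ⟨e.symm ⟨y, hy⟩, ?_⟩
  simpa using hxy

/-- The family of restrictions of a proper surjective morphism to a finite affine open cover
of its source is a standard ph covering. -/
theorem isStandardPh_of_proper {T U : Scheme.{u}} [IsAffine T] (f : U ⟶ T) [IsProper f]
    [Surjective f] {n : ℕ} (W : Fin n → U.Opens) (hW : ∀ k, IsAffineOpen (W k))
    (hcov : ∀ x : U, ∃ k, x ∈ W k) :
    IsStandardPh (⟨Fin n, fun k => (W k : Scheme.{u}), fun k => (W k).ι ≫ f⟩ :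
      PreZeroHypercover.{0} T) := by
  refine ⟨inferInstance, inferInstanceAs (Finite (Fin n)), fun k => hW k, ?_⟩
  refine ⟨U, f, fun k => (W k).ι, inferInstance, inferInstance, fun k => inferInstance,
    fun k => rfl, ?_⟩
  intro x
  obtain ⟨k, hk⟩ := hcov x
  exact ⟨k, ⟨⟨x, hk⟩, rfl⟩⟩

/-- A proper surjective morphism, on its own, is a V covering. -/
theorem isVCover_singleton_of_proper {X Y : Scheme.{u}} (f : Y ⟶ X) [IsProper f] [Surjective f] :
    IsVCover (PreZeroHypercover.singleton.{w} f) := by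
  intro U
  haveI : IsAffine ((U : X.Opens) : Scheme.{u}) := U.2
  haveI hpr : IsProper (f ∣_ (U : X.Opens)) := IsZariskiLocalAtTarget.restrict ‹IsProper f› _
  haveI hsu : Surjective (f ∣_ (U : X.Opens)) := IsZariskiLocalAtTarget.restrict ‹Surjective f› _
  haveI : CompactSpace ↥((f ⁻¹ᵁ (U : X.Opens) : Y.Opens) : Scheme.{u}) :=
    QuasiCompact.compactSpace_of_compactSpace (f ∣_ (U : X.Opens))
  obtain ⟨n, W, hW, hcov⟩ := exists_finite_affine_cover_compact
    ((f ⁻¹ᵁ (U : X.Opens) : Y.Opens) : Scheme.{u})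
  refine ⟨⟨Fin n, fun k => (W k : Scheme.{u}), fun k => (W k).ι ≫ (f ∣_ (U : X.Opens))⟩,
    Groth.Agent.S7468.result _ (isStandardPh_of_proper (f ∣_ (U : X.Opens)) W hW hcov), ?_⟩
  intro k
  refine ⟨⟨⟩, (W k).ι ≫ (f ⁻¹ᵁ (U : X.Opens)).ι, ?_⟩
  show ((W k).ι ≫ (f ⁻¹ᵁ (U : X.Opens)).ι) ≫ f = ((W k).ι ≫ (f ∣_ (U : X.Opens))) ≫ (U : X.Opens).ι
  rw [Category.assoc, Category.assoc, morphismRestrict_ι]

/-- A ph covering is a V covering. -/
theorem isVCover_of_isPhCover {T : Scheme.{u}} (E : PreZeroHypercover.{w} T) (hE : IsPhCover E) :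
    IsVCover E := by
  intro U
  obtain ⟨F, hF, hFE⟩ := hE.2 U
  exact ⟨F, Groth.Agent.S7468.result F hF, hFE⟩

end Groth.Agent.Helper5.PhV
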