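import Mathlib

/-!
Helper5: the prime spectrum of a semilocal Prüfer domain of finite Krull dimension is finite.
-/

namespace Groth.Agent.Helper5.PruferFinite

theorem prime_comparable {R : Type*} [CommRing R] [IsDomain R]
    (n : Ideal R) [n.IsPrime] (hV : ValuationRing (Localization.AtPrime n))
    (p p' : Ideal R) [hp : p.IsPrime] [hp' : p'.IsPrime] (h : p ≤ n) (h' : p' ≤ n) :
    p ≤ p' ∨ p' ≤ p := by
  have hd : Disjoint (n.primeCompl : Set R) p :=
    Set.disjoint_left.mpr (fun x hx hxp => hx (h hxp))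
  have hd' : Disjoint (n.primeCompl : Set R) p' :=
    Set.disjoint_left.mpr (fun x hx hxp => hx (h' hxp))
  have e := IsLocalization.under_map_of_isPrime_disjoint n.primeCompl (Localization.AtPrime n) hp hd
  have e' :=
    IsLocalization.under_map_of_isPrime_disjoint n.primeCompl (Localization.AtPrime n) hp' hd'
  rcases (ValuationRing.le_total_ideal (A := Localization.AtPrime n)).total
    (p.map (algebraMap R (Localization.AtPrime n)))
    (p'.map (algebraMap R (Localization.AtPrime n))) with h1 | h1
  · left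
    exact e.symm.le.trans ((Ideal.comap_mono h1).trans e'.le)
  · right
    exact e'.symm.le.trans ((Ideal.comap_mono h1).trans e.le)

theorem finite_primeSpectrum {R : Type*} [CommRing R] [IsDomain R]
    (hR : ∀ (p : Ideal R) [p.IsPrime], ValuationRing (Localization.AtPrime p))
    (hfin : Finite (MaximalSpectrum R)) (hdim : ringKrullDim R < ⊤) :
    Finite (PrimeSpectrum R) := by
  have hht : ∀ p : PrimeSpectrum R, Order.height p < ⊤ := by
    intro p
    have h1 : (Order.height p : WithBot ℕ∞) ≤ ringKrullDim R := Order.height_le_krullDim p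
    have h2 : (Order.height p : WithBot ℕ∞) < ⊤ := lt_of_le_of_lt h1 hdim
    have h3 : ((Order.height p : ℕ∞) : WithBot ℕ∞) < ((⊤ : ℕ∞) : WithBot ℕ∞) := h2
    exact WithBot.coe_lt_coe.mp h3
  obtain ⟨d, hd⟩ : ∃ d : ℕ, ∀ p : PrimeSpectrum R, Order.height p ≤ d := by
    have hne : ringKrullDim R ≠ ⊥ :=
      ne_bot_of_le_ne_bot (by simp : (0 : WithBot ℕ∞) ≠ ⊥) ringKrullDim_nonneg_of_nontrivial
    obtain ⟨e, he⟩ := WithBot.ne_bot_iff_exists.mp hne
    have he' : e ≠ ⊤ := by
      rintro rfl
      rw [← he] at hdim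
      exact lt_irrefl _ hdim
    obtain ⟨d, rfl⟩ := ENat.ne_top_iff_exists.mp he'
    refine ⟨d, fun p => ?_⟩
    have h1 : (Order.height p : WithBot ℕ∞) ≤ ringKrullDim R := Order.height_le_krullDim p
    rw [← he] at h1
    exact_mod_cast h1
  have hDfin : ∀ n : MaximalSpectrum R,
      Finite {p : PrimeSpectrum R // p.asIdeal ≤ n.asIdeal} := by
    intro n
    have := n.isMaximal
    let f : {p : PrimeSpectrum R // p.asIdeal ≤ n.asIdeal} → Fin (d + 1) :=
      fun p => ⟨(Order.height p.1).toNat, by
        have h2 := ENat.toNat_le_of_le_natCast (hd p.1)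
        omega⟩
    apply Finite.of_injective f
    intro p p' hpp'
    have hh : (Order.height p.1).toNat = (Order.height p'.1).toNat := congrArg Fin.val hpp'
    have hh' : Order.height p.1 = Order.height p'.1 := by
      rw [← ENat.natCast_toNat (hht p.1).ne, ← ENat.natCast_toNat (hht p'.1).ne, hh]
    apply Subtype.ext
    have := p.1.isPrime
    have := p'.1.isPrime
    rcases prime_comparable n.asIdeal (hR _) p.1.asIdeal p'.1.asIdeal p.2 p'.2 with h | h
    · by_contra hne
      have hlt : p.1 < p'.1 := lt_of_le_of_ne (show p.1 ≤ p'.1 from h) hne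
      exact absurd hh' (Order.height_strictMono hlt (hht p.1)).ne
    · by_contra hne
      have hlt : p'.1 < p.1 := lt_of_le_of_ne (show p'.1 ≤ p.1 from h) (Ne.symm hne)
      exact absurd hh'.symm (Order.height_strictMono hlt (hht p'.1)).ne
  let g : (Σ n : MaximalSpectrum R, {p : PrimeSpectrum R // p.asIdeal ≤ n.asIdeal}) →
      PrimeSpectrum R := fun x => x.2.1
  apply Finite.of_surjective g
  intro p
  obtain ⟨m, hm, hpm⟩ := Ideal.exists_le_maximal p.asIdeal p.isPrime.ne_top
  exact ⟨⟨⟨m, hm⟩, ⟨p, hpm⟩⟩, rfl⟩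

end Groth.Agent.Helper5.PruferFinite
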