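import Mathlib
import Groth.Agent.Lib.Helper18.ShfCat

/-!
# Quotients of group sheaves (helper5)

General tools for the cluster S6047 S6048 S6050 S6051 S6054 S6055: in `Sheaf J (Type w)` (with
sheafification), `G × H ⇉ G` (projection, right multiplication) is an equivalence relation,
hence it is the kernel pair of its coequalizer `π : G ⟶ G/H` (uses helper18's `sheafUEER`).
-/

set_option autoImplicit false
open CategoryTheory CategoryTheory.Limits MonoidalCategory CartesianMonoidalCategory MonObj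
universe w v₁ u₁

namespace Groth.Agent.Helper5.ShGrp

section Cart

variable {D : Type u₁} [Category.{v₁} D] [CartesianMonoidalCategory D]

theorem isPullback_whiskerLeft (X : D) {A B : D} (p : A ⟶ B) :
    IsPullback (X ◁ p) (snd X A) (snd X B) p := by
  refine ⟨⟨by simp⟩, ⟨PullbackCone.IsLimit.mk _ (fun s => lift (s.fst ≫ fst X B) s.snd) ?_ ?_ ?_⟩⟩
  · intro s
    apply CartesianMonoidalCategory.hom_ext
    · simp
    · simp [s.condition]
  · intro s
    simp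
  · intro s m h1 h2
    apply CartesianMonoidalCategory.hom_ext
    · simp [← h1]
    · simp [← h2]

theorem isPullback_whiskerRight {A B : D} (p : A ⟶ B) (X : D) :
    IsPullback (p ▷ X) (fst A X) (fst B X) p := by
  refine ⟨⟨by simp⟩, ⟨PullbackCone.IsLimit.mk _ (fun s => lift s.snd (s.fst ≫ snd B X)) ?_ ?_ ?_⟩⟩
  · intro s
    apply CartesianMonoidalCategory.hom_ext
    · simp [s.condition]
    · simp
  · intro s
    simp
  · intro s m h1 h2
    apply CartesianMonoidalCategory.hom_ext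
    · simp [← h2]
    · simp [← h1]

section
variable {A G : D} [GrpObj G] (u : A ⟶ G)

theorem lift_qb {Y : D} (g : Y ⟶ G) (h : Y ⟶ A) :
    lift g h ≫ (G ◁ u) ≫ μ[G] = g * (h ≫ u) := by
  rw [Hom.mul_def, ← Category.assoc, lift_whiskerLeft]

theorem comp_qb {Y : D} (f : Y ⟶ G ⊗ A) :
    f ≫ (G ◁ u) ≫ μ[G] = (f ≫ fst G A) * (f ≫ snd G A ≫ u) := by
  have hf : f = lift (f ≫ fst G A) (f ≫ snd G A) := by
    apply CartesianMonoidalCategory.hom_ext <;> simp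
  conv_lhs => rw [hf]
  rw [lift_qb, Category.assoc]

theorem qb_eq : (G ◁ u) ≫ μ[G] = fst G A * (snd G A ≫ u) := by
  have := comp_qb u (𝟙 (G ⊗ A))
  simpa using this

theorem jm [Mono u] : JointlyMono₂ (fst G A) ((G ◁ u) ≫ μ[G]) where
  right_cancellation Y f g h₁ h₂ := by
    rw [comp_qb, comp_qb, h₁] at h₂
    have h3 : f ≫ snd G A ≫ u = g ≫ snd G A ≫ u := mul_left_cancel h₂
    have h4 : f ≫ snd G A = g ≫ snd G A := by
      rw [← cancel_mono u]
      simpa using h3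
    exact CartesianMonoidalCategory.hom_ext _ _ h₁ h4

end

variable {H G : D} [GrpObj H] [GrpObj G] (u : H ⟶ G) [Mono u] [IsMonHom u]

theorem tr2 [HasPullbacks D] :
    lift (pullback.fst ((G ◁ u) ≫ μ[G]) (fst G H) ≫ fst G H)
      ((pullback.fst ((G ◁ u) ≫ μ[G]) (fst G H) ≫ snd G H) *
        (pullback.snd ((G ◁ u) ≫ μ[G]) (fst G H) ≫ snd G H)) ≫ (G ◁ u) ≫ μ[G] =
      pullback.snd ((G ◁ u) ≫ μ[G]) (fst G H) ≫ (G ◁ u) ≫ μ[G] := by
  rw [lift_qb, MonObj.mul_comp, ← _root_.mul_assoc, Category.assoc, Category.assoc,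
    ← comp_qb u (pullback.fst ((G ◁ u) ≫ μ[G]) (fst G H)), pullback.condition,
    comp_qb u (pullback.snd ((G ◁ u) ≫ μ[G]) (fst G H))]

/-- `G × H ⇉ G` is an equivalence relation. -/
noncomputable def eqv [HasPullbacks D] : EquivalenceRelation (fst G H) ((G ◁ u) ≫ μ[G]) where
  right_cancellation := (jm u).right_cancellation
  r := lift (𝟙 G) 1
  reflexivity₁ := lift_fst _ _
  reflexivity₂ := by
    rw [lift_qb, MonObj.one_comp, _root_.mul_one]
  s := lift ((G ◁ u) ≫ μ[G]) (snd G H)⁻¹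
  symmetry₁ := lift_fst _ _
  symmetry₂ := by
    rw [lift_qb, GrpObj.inv_comp, qb_eq, mul_inv_cancel_right]
  c := PullbackCone.mk (pullback.fst ((G ◁ u) ≫ μ[G]) (fst G H))
    (pullback.snd ((G ◁ u) ≫ μ[G]) (fst G H)) pullback.condition
  isLimit := pullbackIsPullback _ _
  t := lift (pullback.fst ((G ◁ u) ≫ μ[G]) (fst G H) ≫ fst G H)
    ((pullback.fst ((G ◁ u) ≫ μ[G]) (fst G H) ≫ snd G H) *
      (pullback.snd ((G ◁ u) ≫ μ[G]) (fst G H) ≫ snd G H))
  transitivity₁ := lift_fst _ _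
  transitivity₂ := tr2 u

end Cart

/-- The exactness properties of `Sheaf J (Type w)` used below. -/
class GoodCat (D : Type u₁) [Category.{v₁} D] [HasPullbacks D] [HasCoequalizers D] : Prop where
  epi_of_isPullback : ∀ {X Y X' Y' : D} {f : X ⟶ Y} {f' : X' ⟶ Y'} {i₁ : X' ⟶ X} {i₂ : Y' ⟶ Y},
    IsPullback f' i₁ i₂ f → Epi f → Epi f'
  effectiveEpi_of_epi : ∀ {A B : D} (p : A ⟶ B), Epi p → EffectiveEpi p
  kernelPair_of_eqv : ∀ {R X : D} {p₁ p₂ : R ⟶ X} (_ : EquivalenceRelation p₁ p₂),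
    IsKernelPair (coequalizer.π p₁ p₂) p₁ p₂
  exists_factor : ∀ {Y B : D} (f : Y ⟶ B), ∃ (A : D) (q : Y ⟶ A) (m : A ⟶ B),
    Mono m ∧ Epi q ∧ q ≫ m = f

section Sh

variable {C : Type u₁} [Category.{v₁} C] (J : GrothendieckTopology C) [HasSheafify J (Type w)]

theorem isKernelPair_coequalizer {R X : Sheaf J (Type w)} {p₁ p₂ : R ⟶ X}
    (er : EquivalenceRelation p₁ p₂) : IsKernelPair (coequalizer.π p₁ p₂) p₁ p₂ := by
  let e := Helper18.ShfCat.sheafUEER J er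
  have hcoeq := e.toEffectiveEquivalenceRelation.isCoequalizer
  let iso := (colimit.isColimit (parallelPair p₁ p₂)).coconePointUniqueUpToIso hcoeq
  have hiso : coequalizer.π p₁ p₂ ≫ iso.hom = e.π :=
    (colimit.isColimit _).comp_coconePointUniqueUpToIso_hom hcoeq WalkingParallelPair.one
  have h1 : e.π ≫ iso.inv = coequalizer.π p₁ p₂ := (Iso.comp_inv_eq iso).mpr hiso.symm
  rw [← h1]
  exact IsKernelPair.comp_of_mono e.isKernelPair

instance goodCat_sheaf : GoodCat (Sheaf J (Type w)) where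
  epi_of_isPullback := fun H hf => Helper18.ShfCat.sheaf_epi_of_isPullback J H (hf := hf)
  effectiveEpi_of_epi := fun p hp => by
    have := IsRegularEpiCategory.regularEpiOfEpi p
    exact (isRegularEpi_iff_effectiveEpi p).mp this
  kernelPair_of_eqv := fun er => isKernelPair_coequalizer J er
  exists_factor := fun f => ⟨Sheaf.image f, Sheaf.toImage f, Sheaf.imageι f, inferInstance,
    inferInstance, Sheaf.toImage_ι f⟩

end Sh

section Good

variable {D : Type u₁} [Category.{v₁} D] [CartesianMonoidalCategory D] [HasPullbacks D]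
  [HasCoequalizers D] [GoodCat D]

theorem epi_whiskerLeft (X : D) {A B : D} (p : A ⟶ B) [hp : Epi p] : Epi (X ◁ p) :=
  GoodCat.epi_of_isPullback (isPullback_whiskerLeft X p) hp

theorem epi_whiskerRight {A B : D} (p : A ⟶ B) [hp : Epi p] (X : D) : Epi (p ▷ X) :=
  GoodCat.epi_of_isPullback (isPullback_whiskerRight p X) hp

theorem epi_tensorHom {A B A' B' : D} (p : A ⟶ B) (q : A' ⟶ B') [Epi p] [Epi q] :
    Epi (p ⊗ₘ q) := by
  rw [MonoidalCategory.tensorHom_def]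
  haveI := epi_whiskerRight p A'
  haveI := epi_whiskerLeft B q
  exact epi_comp _ _

omit [CartesianMonoidalCategory D] in
theorem exists_desc {A B Z : D} (p : A ⟶ B) [hp : Epi p] (φ : A ⟶ Z)
    (h : ∀ (Y : D) (x y : Y ⟶ A), x ≫ p = y ≫ p → x ≫ φ = y ≫ φ) :
    ∃ ψ : B ⟶ Z, p ≫ ψ = φ := by
  haveI := GoodCat.effectiveEpi_of_epi p hp
  exact ⟨EffectiveEpi.desc p φ (fun {Y} x y hxy => h Y x y hxy), EffectiveEpi.fac p _ _⟩

omit [CartesianMonoidalCategory D] in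
theorem local_lift {A B Y : D} (p : A ⟶ B) [hp : Epi p] (x : Y ⟶ B) :
    ∃ (Y' : D) (c : Y' ⟶ Y) (x' : Y' ⟶ A), Epi c ∧ x' ≫ p = c ≫ x :=
  ⟨pullback x p, pullback.fst x p, pullback.snd x p,
    GoodCat.epi_of_isPullback (IsPullback.of_hasPullback x p) hp,
    pullback.condition.symm⟩

variable {H G : D} [GrpObj H] [GrpObj G] (u : H ⟶ G)

theorem mul_comp_π {Y : D} (g : Y ⟶ G) (h : Y ⟶ H) :
    (g * (h ≫ u)) ≫ coequalizer.π (fst G H) ((G ◁ u) ≫ μ[G]) =
      g ≫ coequalizer.π (fst G H) ((G ◁ u) ≫ μ[G]) := by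
  rw [← lift_qb u g h, Category.assoc, ← coequalizer.condition, lift_fst_assoc]

variable [Mono u] [IsMonHom u]

theorem kp : IsKernelPair (coequalizer.π (fst G H) ((G ◁ u) ≫ μ[G])) (fst G H) ((G ◁ u) ≫ μ[G]) :=
  GoodCat.kernelPair_of_eqv (eqv u)

theorem comp_π_eq_iff {Y : D} (x y : Y ⟶ G) :
    x ≫ coequalizer.π (fst G H) ((G ◁ u) ≫ μ[G]) = y ≫ coequalizer.π (fst G H) ((G ◁ u) ≫ μ[G]) ↔
      ∃ h : Y ⟶ H, y = x * (h ≫ u) := by
  constructor
  · intro hxy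
    obtain ⟨m, h1, h2⟩ : ∃ m : Y ⟶ G ⊗ H, m ≫ fst G H = x ∧ m ≫ (G ◁ u) ≫ μ[G] = y :=
      ⟨_, (kp u).lift_fst x y hxy, (kp u).lift_snd x y hxy⟩
    refine ⟨m ≫ snd G H, ?_⟩
    rw [← h2, comp_qb, h1, Category.assoc]
  · rintro ⟨h, rfl⟩
    exact (mul_comp_π u x h).symm

theorem s6055 {L : D} [GrpObj L] (l : L ⟶ G) [Mono l] [IsMonHom l] :
    IsKernelPair (l ≫ coequalizer.π (fst G H) ((G ◁ u) ≫ μ[G]))
      (fst L (pullback u l)) ((L ◁ pullback.snd u l) ≫ μ[L]) := by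
  have hcond : pullback.fst u l ≫ u = pullback.snd u l ≫ l := pullback.condition
  have w' : (fst L (pullback u l) ≫ l) ≫ coequalizer.π (fst G H) ((G ◁ u) ≫ μ[G]) =
      (((L ◁ pullback.snd u l) ≫ μ[L]) ≫ l) ≫ coequalizer.π (fst G H) ((G ◁ u) ≫ μ[G]) := by
    refine (comp_π_eq_iff u _ _).mpr ⟨snd L (pullback u l) ≫ pullback.fst u l, ?_⟩
    rw [qb_eq (pullback.snd u l), MonObj.mul_comp, Category.assoc, Category.assoc, hcond]
  have w : fst L (pullback u l) ≫ l ≫ coequalizer.π (fst G H) ((G ◁ u) ≫ μ[G]) =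
      ((L ◁ pullback.snd u l) ≫ μ[L]) ≫ l ≫ coequalizer.π (fst G H) ((G ◁ u) ≫ μ[G]) := by
    simpa only [Category.assoc] using w'
  have key : ∀ {S : D} (x y : S ⟶ L),
      x ≫ l ≫ coequalizer.π (fst G H) ((G ◁ u) ≫ μ[G]) =
        y ≫ l ≫ coequalizer.π (fst G H) ((G ◁ u) ≫ μ[G]) →
      ∃ m : S ⟶ L ⊗ pullback u l, m ≫ fst L (pullback u l) = x ∧
        m ≫ (L ◁ pullback.snd u l) ≫ μ[L] = y := by
    intro S x y hxy
    have hxy' : (x ≫ l) ≫ coequalizer.π (fst G H) ((G ◁ u) ≫ μ[G]) =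
        (y ≫ l) ≫ coequalizer.π (fst G H) ((G ◁ u) ≫ μ[G]) := by
      simpa only [Category.assoc] using hxy
    obtain ⟨h, hh⟩ := (comp_π_eq_iff u _ _).mp hxy'
    have h3 : h ≫ u = (x⁻¹ * y) ≫ l := by
      rw [MonObj.mul_comp, GrpObj.inv_comp, hh, inv_mul_cancel_left]
    refine ⟨lift x (pullback.lift h (x⁻¹ * y) h3), lift_fst _ _, ?_⟩
    rw [lift_qb, pullback.lift_snd, mul_inv_cancel_left]
  refine ⟨⟨w⟩, ⟨PullbackCone.IsLimit.mk w
    (fun s => Classical.choose (key s.fst s.snd s.condition))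
    (fun s => (Classical.choose_spec (key s.fst s.snd s.condition)).1)
    (fun s => (Classical.choose_spec (key s.fst s.snd s.condition)).2) ?_⟩⟩
  intro s m h1 h2
  exact (jm (pullback.snd u l)).right_cancellation _ _
    (h1.trans (Classical.choose_spec (key s.fst s.snd s.condition)).1.symm)
    (h2.trans (Classical.choose_spec (key s.fst s.snd s.condition)).2.symm)

omit [HasPullbacks D] [HasCoequalizers D] [GoodCat D] in
theorem comp_μ {Y : D} (x : Y ⟶ G ⊗ G) : x ≫ μ[G] = (x ≫ fst G G) * (x ≫ snd G G) := by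
  rw [MonObj.mul_eq_mul, MonObj.comp_mul]

omit [CartesianMonoidalCategory D] in
theorem local_lift₂ {A B Y : D} (p : A ⟶ B) [hp : Epi p] (x y : Y ⟶ B) :
    ∃ (Y' : D) (c : Y' ⟶ Y) (x' y' : Y' ⟶ A), Epi c ∧ x' ≫ p = c ≫ x ∧ y' ≫ p = c ≫ y := by
  obtain ⟨Y₁, c₁, x', hc₁, hx'⟩ := local_lift p x
  obtain ⟨Y₂, c₂, y', hc₂, hy'⟩ := local_lift p (c₁ ≫ y)
  haveI := hc₁
  haveI := hc₂
  refine ⟨Y₂, c₂ ≫ c₁, c₂ ≫ x', y', epi_comp _ _, ?_, ?_⟩
  · rw [Category.assoc, hx', Category.assoc]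
  · rw [hy', Category.assoc]

local notation "𝒬" => coequalizer (fst G H) ((G ◁ u) ≫ μ[G])
local notation "𝓅" => coequalizer.π (fst G H) ((G ◁ u) ≫ μ[G])

theorem s6051 :
    ∃! act : G ⊗ 𝒬 ⟶ 𝒬, (η[G] ▷ 𝒬) ≫ act = (λ_ 𝒬).hom ∧
      (μ[G] ▷ 𝒬) ≫ act = (α_ G G 𝒬).hom ≫ (G ◁ act) ≫ act ∧
      μ[G] ≫ 𝓅 = (G ◁ 𝓅) ≫ act := by
  haveI e1 : Epi (G ◁ 𝓅) := epi_whiskerLeft G 𝓅
  obtain ⟨act, hact⟩ := exists_desc (G ◁ 𝓅) (μ[G] ≫ 𝓅) (by
    intro Y x y hxy
    have h1 : x ≫ fst G G = y ≫ fst G G := by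
      have := congrArg (· ≫ fst G 𝒬) hxy
      simpa using this
    have h2 : (x ≫ snd G G) ≫ 𝓅 = (y ≫ snd G G) ≫ 𝓅 := by
      have := congrArg (· ≫ snd G 𝒬) hxy
      simpa using this
    obtain ⟨h, hh⟩ := (comp_π_eq_iff u _ _).mp h2
    rw [← Category.assoc, ← Category.assoc, comp_μ x, comp_μ y, ← h1, hh, ← _root_.mul_assoc,
      mul_comp_π])
  have hunit : (η[G] ▷ 𝒬) ≫ act = (λ_ 𝒬).hom := by
    haveI : Epi ((𝟙_ D) ◁ 𝓅) := epi_whiskerLeft _ _
    rw [← cancel_epi ((𝟙_ D) ◁ 𝓅), whisker_exchange_assoc, hact, MonObj.one_mul_assoc,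
      MonoidalCategory.leftUnitor_naturality]
  have hassoc : (μ[G] ▷ 𝒬) ≫ act = (α_ G G 𝒬).hom ≫ (G ◁ act) ≫ act := by
    haveI : Epi ((G ⊗ G) ◁ 𝓅) := epi_whiskerLeft _ _
    rw [← cancel_epi ((G ⊗ G) ◁ 𝓅), whisker_exchange_assoc, hact, MonObj.mul_assoc_assoc,
      associator_naturality_right_assoc, ← MonoidalCategory.whiskerLeft_comp_assoc, hact,
      MonoidalCategory.whiskerLeft_comp_assoc, hact]
  refine ⟨act, ⟨hunit, hassoc, hact.symm⟩, ?_⟩
  rintro act' ⟨-, -, h3⟩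
  rw [← cancel_epi (G ◁ 𝓅), hact, ← h3]

theorem s6047
    (hn : ∀ (Y : D) (g : Y ⟶ G) (h : Y ⟶ H), ∃ h' : Y ⟶ H, g * (h ≫ u) * g⁻¹ = h' ≫ u) :
    ∃! str : GrpObj 𝒬, @IsMonHom D _ _ G 𝒬 _ str.toMonObj 𝓅 := by
  haveI e2 : Epi (𝓅 ⊗ₘ 𝓅) := epi_tensorHom _ _
  obtain ⟨mQ, hmQ⟩ := exists_desc (𝓅 ⊗ₘ 𝓅) (μ[G] ≫ 𝓅) (by
    intro Y x y hxy
    have h1 : (x ≫ fst G G) ≫ 𝓅 = (y ≫ fst G G) ≫ 𝓅 := by
      have := congrArg (· ≫ fst 𝒬 𝒬) hxy
      simpa using this
    have h2 : (x ≫ snd G G) ≫ 𝓅 = (y ≫ snd G G) ≫ 𝓅 := by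
      have := congrArg (· ≫ snd 𝒬 𝒬) hxy
      simpa using this
    obtain ⟨k₁, hk₁⟩ := (comp_π_eq_iff u _ _).mp h1
    obtain ⟨k₂, hk₂⟩ := (comp_π_eq_iff u _ _).mp h2
    obtain ⟨k', hk'⟩ := hn Y (x ≫ snd G G)⁻¹ k₁
    rw [← Category.assoc, ← Category.assoc, comp_μ x, comp_μ y, hk₁, hk₂]
    have h3 : (x ≫ fst G G * k₁ ≫ u) * (x ≫ snd G G * k₂ ≫ u) =
        (x ≫ fst G G * x ≫ snd G G) * ((k' * k₂) ≫ u) := by
      rw [MonObj.mul_comp, ← hk']
      group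
    rw [h3, mul_comp_π])
  obtain ⟨iQ, hiQ⟩ := exists_desc 𝓅 (ι[G] ≫ 𝓅) (by
    intro Y x y hxy
    obtain ⟨k, hk⟩ := (comp_π_eq_iff u _ _).mp hxy
    obtain ⟨k', hk'⟩ := hn Y x k⁻¹
    rw [← Category.assoc, ← Category.assoc, ← Hom.inv_def, ← Hom.inv_def, hk]
    have h3 : (x * k ≫ u)⁻¹ = x⁻¹ * (k' ≫ u) := by
      rw [← hk', GrpObj.inv_comp]
      group
    rw [h3, mul_comp_π])
  have U1 : ((𝟙_ D) ◁ 𝓅) ≫ ((η[G] ≫ 𝓅) ▷ 𝒬) = (η[G] ▷ G) ≫ (𝓅 ⊗ₘ 𝓅) := by
    rw [whisker_exchange, MonoidalCategory.comp_whiskerRight, Category.assoc,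
      ← MonoidalCategory.tensorHom_def]
  have U2 : (𝓅 ▷ (𝟙_ D)) ≫ (𝒬 ◁ (η[G] ≫ 𝓅)) = (G ◁ η[G]) ≫ (𝓅 ⊗ₘ 𝓅) := by
    rw [← whisker_exchange, MonoidalCategory.whiskerLeft_comp, Category.assoc,
      ← MonoidalCategory.tensorHom_def']
  have A1 : ((𝓅 ⊗ₘ 𝓅) ⊗ₘ 𝓅) ≫ (mQ ▷ 𝒬) = (μ[G] ▷ G) ≫ (𝓅 ⊗ₘ 𝓅) := by
    rw [← MonoidalCategory.tensorHom_id, ← MonoidalCategory.tensorHom_id,
      MonoidalCategory.tensorHom_comp_tensorHom, MonoidalCategory.tensorHom_comp_tensorHom, hmQ,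
      Category.comp_id, Category.id_comp]
  have A2 : (𝓅 ⊗ₘ (𝓅 ⊗ₘ 𝓅)) ≫ (𝒬 ◁ mQ) = (G ◁ μ[G]) ≫ (𝓅 ⊗ₘ 𝓅) := by
    apply CartesianMonoidalCategory.hom_ext <;> simp [hmQ]
  have I1 : 𝓅 ≫ lift iQ (𝟙 𝒬) = lift ι[G] (𝟙 G) ≫ (𝓅 ⊗ₘ 𝓅) := by
    apply CartesianMonoidalCategory.hom_ext <;> simp [hiQ]
  have I2 : 𝓅 ≫ lift (𝟙 𝒬) iQ = lift (𝟙 G) ι[G] ≫ (𝓅 ⊗ₘ 𝓅) := by
    apply CartesianMonoidalCategory.hom_ext <;> simp [hiQ]
  have hone_mul : ((η[G] ≫ 𝓅) ▷ 𝒬) ≫ mQ = (λ_ 𝒬).hom := by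
    haveI : Epi ((𝟙_ D) ◁ 𝓅) := epi_whiskerLeft _ _
    rw [← cancel_epi ((𝟙_ D) ◁ 𝓅), reassoc_of% U1, hmQ, MonObj.one_mul_assoc,
      MonoidalCategory.leftUnitor_naturality]
  have hmul_one : (𝒬 ◁ (η[G] ≫ 𝓅)) ≫ mQ = (ρ_ 𝒬).hom := by
    haveI : Epi (𝓅 ▷ (𝟙_ D)) := epi_whiskerRight _ _
    rw [← cancel_epi (𝓅 ▷ (𝟙_ D)), reassoc_of% U2, hmQ, MonObj.mul_one_assoc,
      MonoidalCategory.rightUnitor_naturality]
  have hmul_assoc : (mQ ▷ 𝒬) ≫ mQ = (α_ 𝒬 𝒬 𝒬).hom ≫ (𝒬 ◁ mQ) ≫ mQ := by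
    haveI : Epi ((𝓅 ⊗ₘ 𝓅) ⊗ₘ 𝓅) := epi_tensorHom _ _
    rw [← cancel_epi ((𝓅 ⊗ₘ 𝓅) ⊗ₘ 𝓅), reassoc_of% A1, hmQ, associator_naturality_assoc,
      reassoc_of% A2, hmQ, MonObj.mul_assoc_assoc]
  have hleft : lift iQ (𝟙 𝒬) ≫ mQ = toUnit 𝒬 ≫ η[G] ≫ 𝓅 := by
    rw [← cancel_epi 𝓅, reassoc_of% I1, hmQ, GrpObj.left_inv_assoc]
    simp
  have hright : lift (𝟙 𝒬) iQ ≫ mQ = toUnit 𝒬 ≫ η[G] ≫ 𝓅 := by
    rw [← cancel_epi 𝓅, reassoc_of% I2, hmQ, GrpObj.right_inv_assoc]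
    simp
  let strM : MonObj 𝒬 :=
    { one := η[G] ≫ 𝓅
      mul := mQ
      one_mul := hone_mul
      mul_one := hmul_one
      mul_assoc := hmul_assoc }
  let str : GrpObj 𝒬 :=
    { toMonObj := strM
      inv := iQ
      left_inv := hleft
      right_inv := hright }
  refine ⟨str, ⟨rfl, hmQ.symm⟩, ?_⟩
  intro str' hstr'
  apply GrpObj.ext
  apply MonObj.ext
  change str'.toMonObj.mul = mQ
  rw [← cancel_epi (𝓅 ⊗ₘ 𝓅), hmQ]
  exact (@IsMonHom.mul_hom D _ _ G 𝒬 _ str'.toMonObj 𝓅 hstr').symm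

end Good

section Third

variable {D : Type u₁} [Category.{v₁} D] [CartesianMonoidalCategory D] [HasPullbacks D]
  [HasCoequalizers D] [GoodCat D]
variable {H K G : D} [GrpObj H] [GrpObj K] [GrpObj G] (h : H ⟶ K) (k : K ⟶ G)
  [Mono h] [Mono k] [IsMonHom h] [IsMonHom k]

local notation "πH" => coequalizer.π (fst G H) ((G ◁ (h ≫ k)) ≫ μ[G])
local notation "QH" => coequalizer (fst G H) ((G ◁ (h ≫ k)) ≫ μ[G])
local notation "πK" => coequalizer.π (fst G K) ((G ◁ k) ≫ μ[G])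
local notation "QK" => coequalizer (fst G K) ((G ◁ k) ≫ μ[G])
local notation "π'" => coequalizer.π (fst K H) ((K ◁ h) ≫ μ[K])
local notation "Q'" => coequalizer (fst K H) ((K ◁ h) ≫ μ[K])

theorem s6054 (act : QH ⊗ Q' ⟶ QH)
    (hact : (πH ⊗ₘ π') ≫ act = (G ◁ k) ≫ μ[G] ≫ πH)
    (qbar : QH ⟶ QK) (hq : πH ≫ qbar = πK) :
    Mono (lift act (fst QH Q')) ∧
    ∃ wq : fst QH Q' ≫ qbar = act ≫ qbar, Nonempty (IsColimit (Cofork.ofπ qbar wq)) := by
  have ACT : ∀ {Y : D} (g : Y ⟶ G) (κ : Y ⟶ K),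
      lift (g ≫ πH) (κ ≫ π') ≫ act = (g * (κ ≫ k)) ≫ πH := by
    intro Y g κ
    rw [← lift_map, Category.assoc, hact, ← lift_qb k g κ, Category.assoc, Category.assoc]
  haveI e0 : Epi (πH ⊗ₘ π') := epi_tensorHom _ _
  haveI eq : Epi qbar := epi_of_epi_fac hq
  have wq : fst QH Q' ≫ qbar = act ≫ qbar := by
    rw [← cancel_epi (πH ⊗ₘ π'), tensorHom_fst_assoc, hq, reassoc_of% hact, hq,
      coequalizer.condition, Category.assoc]
  refine ⟨?_, wq, ?_⟩
  · -- freeness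
    constructor
    intro Y x y hxy
    have ha : x ≫ act = y ≫ act := by
      have := congrArg (· ≫ fst QH QH) hxy
      simpa using this
    have hb : x ≫ fst QH Q' = y ≫ fst QH Q' := by
      have := congrArg (· ≫ snd QH QH) hxy
      simpa using this
    obtain ⟨Y₁, c₁, g, hc₁, hg⟩ := local_lift πH (x ≫ fst QH Q')
    obtain ⟨Y₂, c₂, κ₁, κ₂, hc₂, hκ₁, hκ₂⟩ :=
      local_lift₂ π' (c₁ ≫ x ≫ snd QH Q') (c₁ ≫ y ≫ snd QH Q')
    haveI := hc₁
    haveI := hc₂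
    obtain ⟨c, hc⟩ : ∃ c : Y₂ ⟶ Y, c = c₂ ≫ c₁ := ⟨_, rfl⟩
    haveI : Epi c := by rw [hc]; exact epi_comp _ _
    obtain ⟨g', hg'⟩ : ∃ g' : Y₂ ⟶ G, g' = c₂ ≫ g := ⟨_, rfl⟩
    have hg1 : g' ≫ πH = c ≫ x ≫ fst QH Q' := by
      rw [hg', hc, Category.assoc, hg, Category.assoc]
    have hk1 : κ₁ ≫ π' = c ≫ x ≫ snd QH Q' := by
      rw [hκ₁, hc, Category.assoc]
    have hk2 : κ₂ ≫ π' = c ≫ y ≫ snd QH Q' := by
      rw [hκ₂, hc, Category.assoc]
    have hx : c ≫ x = lift (g' ≫ πH) (κ₁ ≫ π') := by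
      apply CartesianMonoidalCategory.hom_ext
      · rw [lift_fst, hg1, Category.assoc]
      · rw [lift_snd, hk1, Category.assoc]
    have hy : c ≫ y = lift (g' ≫ πH) (κ₂ ≫ π') := by
      apply CartesianMonoidalCategory.hom_ext
      · rw [lift_fst, hg1, Category.assoc, hb]
      · rw [lift_snd, hk2, Category.assoc]
    have e1 : (g' * (κ₁ ≫ k)) ≫ πH = (g' * (κ₂ ≫ k)) ≫ πH := by
      rw [← ACT, ← ACT, ← hx, ← hy, Category.assoc, Category.assoc, ha]
    obtain ⟨t, ht⟩ := (comp_π_eq_iff (h ≫ k) _ _).mp e1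
    have e2 : κ₂ ≫ k = (κ₁ * (t ≫ h)) ≫ k := by
      rw [MonObj.mul_comp, Category.assoc]
      exact mul_left_cancel (ht.trans (_root_.mul_assoc _ _ _))
    have e3 : κ₂ = κ₁ * (t ≫ h) := (cancel_mono k).mp e2
    have e4 : κ₂ ≫ π' = κ₁ ≫ π' := by
      rw [e3, mul_comp_π]
    apply CartesianMonoidalCategory.hom_ext _ _ hb
    rw [← cancel_epi c, ← hk1, ← hk2, e4]
  · -- coequalizer
    have hdesc : ∀ s : Cofork (fst QH Q') act, ∃ l : QK ⟶ s.pt, qbar ≫ l = s.π := by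
      intro s
      apply exists_desc qbar s.π
      intro Y x y hxy
      obtain ⟨Y', c, x', y', hc, hx', hy'⟩ := local_lift₂ πH x y
      haveI := hc
      have e1 : x' ≫ πK = y' ≫ πK := by
        rw [← hq, reassoc_of% hx', reassoc_of% hy', hxy]
      obtain ⟨κ, hκ⟩ := (comp_π_eq_iff k _ _).mp e1
      have e2 : c ≫ y = lift (c ≫ x) (κ ≫ π') ≫ act := by
        rw [← hy', hκ, ← ACT, hx']
      have e3 : (c ≫ y) ≫ s.π = (c ≫ x) ≫ s.π := by
        rw [e2, Category.assoc, ← s.condition, lift_fst_assoc]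
      rw [← cancel_epi c]
      simpa only [Category.assoc] using e3.symm
    refine ⟨Cofork.IsColimit.mk' _ (fun s => ⟨Classical.choose (hdesc s),
      Classical.choose_spec (hdesc s), fun {m} hm => ?_⟩)⟩
    rw [← cancel_epi qbar]
    exact hm.trans (Classical.choose_spec (hdesc s)).symm

end Third

section Pts

variable {D : Type u₁} [Category.{v₁} D] [CartesianMonoidalCategory D] [HasPullbacks D]
  [HasCoequalizers D] [GoodCat D]

theorem s6048 {R X : D} {p₁ p₂ : R ⟶ X} (e : UniversallyEffectiveEquivalenceRelation p₁ p₂)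
    (Y : D) :
    (∀ (Z : D) (j : Z ⟶ X ⊗ Y), Mono j →
      (∀ (W : D) (r : W ⟶ R) (y : W ⟶ Y),
        (∃ z : W ⟶ Z, z ≫ j = lift (r ≫ p₁) y) ↔ (∃ z : W ⟶ Z, z ≫ j = lift (r ≫ p₂) y)) →
      Epi (j ≫ snd X Y) →
      (∀ (W : D) (z₁ z₂ : W ⟶ Z), z₁ ≫ j ≫ snd X Y = z₂ ≫ j ≫ snd X Y →
        ∃ r : W ⟶ R, r ≫ p₁ = z₁ ≫ j ≫ fst X Y ∧ r ≫ p₂ = z₂ ≫ j ≫ fst X Y) →
      ∃! f : Y ⟶ e.B, IsPullback (j ≫ fst X Y) (j ≫ snd X Y) e.π f) ∧
    (∀ f : Y ⟶ e.B, ∃ (Z : D) (j : Z ⟶ X ⊗ Y), Mono j ∧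
      (∀ (W : D) (r : W ⟶ R) (y : W ⟶ Y),
        (∃ z : W ⟶ Z, z ≫ j = lift (r ≫ p₁) y) ↔ (∃ z : W ⟶ Z, z ≫ j = lift (r ≫ p₂) y)) ∧
      Epi (j ≫ snd X Y) ∧
      (∀ (W : D) (z₁ z₂ : W ⟶ Z), z₁ ≫ j ≫ snd X Y = z₂ ≫ j ≫ snd X Y →
        ∃ r : W ⟶ R, r ≫ p₁ = z₁ ≫ j ≫ fst X Y ∧ r ≫ p₂ = z₂ ≫ j ≫ fst X Y) ∧
      IsPullback (j ≫ fst X Y) (j ≫ snd X Y) e.π f) := by
  have hw : p₁ ≫ e.π = p₂ ≫ e.π := e.isKernelPair.w
  haveI heπ : EffectiveEpi e.π :=
    MorphismProperty.universally_le _ _ e.universally_effectiveEpi_π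
  haveI : Epi e.π := inferInstance
  refine ⟨?_, ?_⟩
  · intro Z j hj hst hepi hrel
    obtain ⟨f, hf⟩ := exists_desc (j ≫ snd X Y) ((j ≫ fst X Y) ≫ e.π) (by
      intro W z₁ z₂ hz
      obtain ⟨r, hr1, hr2⟩ := hrel W z₁ z₂ hz
      have h1 : z₁ ≫ (j ≫ fst X Y) ≫ e.π = (r ≫ p₁) ≫ e.π := by
        rw [hr1]; simp only [Category.assoc]
      have h2 : z₂ ≫ (j ≫ fst X Y) ≫ e.π = (r ≫ p₂) ≫ e.π := by
        rw [hr2]; simp only [Category.assoc]
      rw [h1, h2, Category.assoc, Category.assoc, hw])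
    have key : ∀ {W : D} (a : W ⟶ X) (t : W ⟶ Y), a ≫ e.π = t ≫ f →
        ∃ m : W ⟶ Z, m ≫ j = lift a t := by
      intro W a t hat
      obtain ⟨W', c, t', hc, ht'⟩ := local_lift (j ≫ snd X Y) t
      haveI := hc
      have h0 : (t' ≫ j ≫ fst X Y) ≫ e.π = (c ≫ a) ≫ e.π := by
        calc (t' ≫ j ≫ fst X Y) ≫ e.π = (t' ≫ j ≫ snd X Y) ≫ f := by
              simp only [Category.assoc]
              rw [← Category.assoc j, ← Category.assoc j, hf]
          _ = (c ≫ t) ≫ f := by rw [ht']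
          _ = (c ≫ a) ≫ e.π := by rw [Category.assoc, ← hat, Category.assoc]
      obtain ⟨r, hr1, hr2⟩ : ∃ r : W' ⟶ R, r ≫ p₁ = t' ≫ j ≫ fst X Y ∧ r ≫ p₂ = c ≫ a :=
        ⟨_, e.isKernelPair.lift_fst _ _ h0, e.isKernelPair.lift_snd _ _ h0⟩
      obtain ⟨m', hm'⟩ := (hst W' r (c ≫ t)).mp ⟨t', by
        apply CartesianMonoidalCategory.hom_ext
        · rw [lift_fst, hr1, Category.assoc]
        · rw [lift_snd, ← ht', Category.assoc]⟩
      have hm'' : m' ≫ j = c ≫ lift a t := by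
        rw [hm', hr2, comp_lift]
      obtain ⟨m, hm⟩ := exists_desc c m' (by
        intro V g₁ g₂ hg
        rw [← cancel_mono j, Category.assoc, Category.assoc, hm'', reassoc_of% hg])
      refine ⟨m, ?_⟩
      rw [← cancel_epi c, ← Category.assoc, hm, hm'']
    have hpb : IsPullback (j ≫ fst X Y) (j ≫ snd X Y) e.π f := by
      refine ⟨⟨hf.symm⟩, ⟨PullbackCone.IsLimit.mk hf.symm
        (fun s => Classical.choose (key s.fst s.snd s.condition)) ?_ ?_ ?_⟩⟩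
      · intro s
        rw [← Category.assoc, Classical.choose_spec (key s.fst s.snd s.condition), lift_fst]
      · intro s
        rw [← Category.assoc, Classical.choose_spec (key s.fst s.snd s.condition), lift_snd]
      · intro s m h1 h2
        rw [← cancel_mono j, Classical.choose_spec (key s.fst s.snd s.condition)]
        apply CartesianMonoidalCategory.hom_ext
        · rw [Category.assoc, h1, lift_fst]
        · rw [Category.assoc, h2, lift_snd]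
    refine ⟨f, hpb, ?_⟩
    intro f' hf'
    rw [← cancel_epi (j ≫ snd X Y)]
    exact hf'.w.symm.trans hf.symm
  · intro f
    obtain ⟨j, hjdef⟩ : ∃ j : pullback e.π f ⟶ X ⊗ Y,
        j = lift (pullback.fst e.π f) (pullback.snd e.π f) := ⟨_, rfl⟩
    have hj1 : j ≫ fst X Y = pullback.fst e.π f := by rw [hjdef, lift_fst]
    have hj2 : j ≫ snd X Y = pullback.snd e.π f := by rw [hjdef, lift_snd]
    have hfac : ∀ {W : D} (a : W ⟶ X) (t : W ⟶ Y),
        (∃ z : W ⟶ pullback e.π f, z ≫ j = lift a t) ↔ a ≫ e.π = t ≫ f := by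
      intro W a t
      constructor
      · rintro ⟨z, hz⟩
        have ha : a = z ≫ pullback.fst e.π f := by
          rw [← hj1, ← Category.assoc, hz, lift_fst]
        have ht : t = z ≫ pullback.snd e.π f := by
          rw [← hj2, ← Category.assoc, hz, lift_snd]
        rw [ha, ht, Category.assoc, Category.assoc, pullback.condition]
      · intro hat
        refine ⟨pullback.lift a t hat, ?_⟩
        apply CartesianMonoidalCategory.hom_ext
        · rw [Category.assoc, hj1, pullback.lift_fst, lift_fst]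
        · rw [Category.assoc, hj2, pullback.lift_snd, lift_snd]
    refine ⟨pullback e.π f, j, ?_, ?_, ?_, ?_, ?_⟩
    · constructor
      intro W g h w
      apply pullback.hom_ext
      · rw [← hj1, ← Category.assoc, w, Category.assoc]
      · rw [← hj2, ← Category.assoc, w, Category.assoc]
    · intro W r y
      rw [hfac, hfac, Category.assoc, Category.assoc, hw]
    · rw [hj2]
      exact GoodCat.epi_of_isPullback (IsPullback.of_hasPullback e.π f).flip inferInstance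
    · intro W z₁ z₂ hz
      rw [hj2] at hz
      have h0 : (z₁ ≫ j ≫ fst X Y) ≫ e.π = (z₂ ≫ j ≫ fst X Y) ≫ e.π := by
        rw [hj1, Category.assoc, Category.assoc, pullback.condition, reassoc_of% hz]
      exact ⟨_, e.isKernelPair.lift_fst _ _ h0, e.isKernelPair.lift_snd _ _ h0⟩
    · rw [hj1, hj2]
      exact IsPullback.of_hasPullback e.π f

end Pts

section SubGrp

variable {D : Type u₁} [Category.{v₁} D] [CartesianMonoidalCategory D]
variable {G' : D} [GrpObj G']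

omit [CartesianMonoidalCategory D] in
theorem factors_iff_exists {B : D} (K : Subobject B) {Y : D} (x : Y ⟶ B) :
    K.Factors x ↔ ∃ x' : Y ⟶ (K : D), x' ≫ K.arrow = x :=
  ⟨fun h => ⟨K.factorThru x h, K.factorThru_arrow x h⟩,
    fun ⟨x', h⟩ => h ▸ Subobject.factors_comp_arrow x'⟩

/-- A subobject of a group object is a subgroup on generalized points. -/
def SubgrpPts (K : Subobject G') : Prop :=
  (∀ Y : D, K.Factors (1 : Y ⟶ G')) ∧
  (∀ (Y : D) (x y : Y ⟶ G'), K.Factors x → K.Factors y → K.Factors (x * y)) ∧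
  (∀ (Y : D) (x : Y ⟶ G'), K.Factors x → K.Factors x⁻¹)

theorem subgrp_mk {A : D} (m : A ⟶ G') [Mono m] (o : 𝟙_ D ⟶ A) (ho : o ≫ m = η[G'])
    (mu : A ⊗ A ⟶ A) (hmu : mu ≫ m = (m ⊗ₘ m) ≫ μ[G'])
    (iv : A ⟶ A) (hiv : iv ≫ m = m ≫ ι[G']) :
    ∃ str : GrpObj A, @IsMonHom D _ _ A G' str.toMonObj _ m := by
  have B1 : (mu ▷ A) ≫ (m ⊗ₘ m) = ((m ⊗ₘ m) ⊗ₘ m) ≫ (μ[G'] ▷ G') := by
    rw [← MonoidalCategory.tensorHom_id, ← MonoidalCategory.tensorHom_id,
      MonoidalCategory.tensorHom_comp_tensorHom, MonoidalCategory.tensorHom_comp_tensorHom, hmu,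
      Category.comp_id, Category.id_comp]
  have B2 : (A ◁ mu) ≫ (m ⊗ₘ m) = (m ⊗ₘ (m ⊗ₘ m)) ≫ (G' ◁ μ[G']) := by
    rw [← MonoidalCategory.id_tensorHom, ← MonoidalCategory.id_tensorHom,
      MonoidalCategory.tensorHom_comp_tensorHom, MonoidalCategory.tensorHom_comp_tensorHom, hmu,
      Category.comp_id, Category.id_comp]
  have B3 : (o ▷ A) ≫ (m ⊗ₘ m) = ((𝟙_ D) ◁ m) ≫ (η[G'] ▷ G') := by
    rw [MonoidalCategory.tensorHom_def, ← MonoidalCategory.comp_whiskerRight_assoc, ho,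
      whisker_exchange]
  have B4 : (A ◁ o) ≫ (m ⊗ₘ m) = (m ▷ (𝟙_ D)) ≫ (G' ◁ η[G']) := by
    rw [MonoidalCategory.tensorHom_def', ← MonoidalCategory.whiskerLeft_comp_assoc, ho,
      ← whisker_exchange]
  have B5 : lift iv (𝟙 A) ≫ (m ⊗ₘ m) = m ≫ lift ι[G'] (𝟙 G') := by
    rw [lift_map, comp_lift, hiv, Category.id_comp, Category.comp_id]
  have B6 : lift (𝟙 A) iv ≫ (m ⊗ₘ m) = m ≫ lift (𝟙 G') ι[G'] := by
    rw [lift_map, comp_lift, hiv, Category.id_comp, Category.comp_id]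
  have hone_mul : (o ▷ A) ≫ mu = (λ_ A).hom := by
    rw [← cancel_mono m, Category.assoc, hmu, reassoc_of% B3, MonObj.one_mul,
      MonoidalCategory.leftUnitor_naturality]
  have hmul_one : (A ◁ o) ≫ mu = (ρ_ A).hom := by
    rw [← cancel_mono m, Category.assoc, hmu, reassoc_of% B4, MonObj.mul_one,
      MonoidalCategory.rightUnitor_naturality]
  have hmul_assoc : (mu ▷ A) ≫ mu = (α_ A A A).hom ≫ (A ◁ mu) ≫ mu := by
    rw [← cancel_mono m]
    simp only [Category.assoc]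
    rw [hmu, reassoc_of% B1, reassoc_of% B2, MonObj.mul_assoc, associator_naturality_assoc]
  have hleft : lift iv (𝟙 A) ≫ mu = toUnit A ≫ o := by
    rw [← cancel_mono m]
    simp only [Category.assoc]
    rw [hmu, reassoc_of% B5, GrpObj.left_inv, ho, ← Category.assoc, comp_toUnit]
  have hright : lift (𝟙 A) iv ≫ mu = toUnit A ≫ o := by
    rw [← cancel_mono m]
    simp only [Category.assoc]
    rw [hmu, reassoc_of% B6, GrpObj.right_inv, ho, ← Category.assoc, comp_toUnit]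
  let strM : MonObj A :=
    { one := o
      mul := mu
      one_mul := hone_mul
      mul_one := hmul_one
      mul_assoc := hmul_assoc }
  let str : GrpObj A :=
    { toMonObj := strM
      inv := iv
      left_inv := hleft
      right_inv := hright }
  exact ⟨str, ⟨ho, hmu⟩⟩

theorem isSubgrp_iff_pts (K : Subobject G') :
    (∃ str : GrpObj (K : D), @IsMonHom D _ _ _ _ str.toMonObj _ K.arrow) ↔ SubgrpPts K := by
  constructor
  · rintro ⟨str, hm⟩
    letI := str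
    haveI := hm
    refine ⟨fun Y => ?_, fun Y x y hx hy => ?_, fun Y x hx => ?_⟩
    · rw [← MonObj.one_comp K.arrow]
      exact Subobject.factors_comp_arrow _
    · obtain ⟨x', rfl⟩ := (factors_iff_exists K x).mp hx
      obtain ⟨y', rfl⟩ := (factors_iff_exists K y).mp hy
      rw [← MonObj.mul_comp]
      exact Subobject.factors_comp_arrow _
    · obtain ⟨x', rfl⟩ := (factors_iff_exists K x).mp hx
      rw [← GrpObj.inv_comp]
      exact Subobject.factors_comp_arrow _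
  · rintro ⟨h1, h2, h3⟩
    have e1 : K.Factors η[G'] := by
      rw [MonObj.one_eq_one]
      exact h1 _
    have e2 : K.Factors ((K.arrow ⊗ₘ K.arrow) ≫ μ[G']) := by
      rw [MonObj.mul_eq_mul, MonObj.comp_mul, tensorHom_fst, tensorHom_snd]
      exact h2 _ _ _ (Subobject.factors_comp_arrow _) (Subobject.factors_comp_arrow _)
    have e3 : K.Factors (K.arrow ≫ ι[G']) := by
      rw [← Hom.inv_def]
      exact h3 _ _ (Subobject.factors_self _)
    exact subgrp_mk K.arrow (K.factorThru _ e1) (K.factorThru_arrow _ e1)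
      (K.factorThru _ e2) (K.factorThru_arrow _ e2) (K.factorThru _ e3) (K.factorThru_arrow _ e3)

theorem normal_iff_pts (K : Subobject G') :
    (∀ (Y : D) (g : Y ⟶ G') (k : Y ⟶ (K : D)),
        ∃ k' : Y ⟶ (K : D), g * (k ≫ K.arrow) * g⁻¹ = k' ≫ K.arrow) ↔
      ∀ (Y : D) (g x : Y ⟶ G'), K.Factors x → K.Factors (g * x * g⁻¹) := by
  constructor
  · intro h Y g x hx
    obtain ⟨x', rfl⟩ := (factors_iff_exists K x).mp hx
    obtain ⟨k', hk'⟩ := h Y g x'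
    rw [hk']
    exact Subobject.factors_comp_arrow _
  · intro h Y g k
    have := h Y g (k ≫ K.arrow) (Subobject.factors_comp_arrow k)
    exact ⟨K.factorThru _ this, (K.factorThru_arrow _ this).symm⟩

end SubGrp

section Corr

variable {D : Type u₁} [Category.{v₁} D] [CartesianMonoidalCategory D] [HasPullbacks D]
  [HasCoequalizers D] [GoodCat D]
variable {H G : D} [GrpObj H] [GrpObj G] (u : H ⟶ G) [Mono u] [IsMonHom u]

omit [CartesianMonoidalCategory D] in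
theorem uee_of_epi {A B : D} (p : A ⟶ B) [hp : Epi p] : Helper18.ShfCat.UEE D p :=
  fun _ _ _ _ f' Hpb => GoodCat.effectiveEpi_of_epi f' (GoodCat.epi_of_isPullback Hpb hp)

local notation "𝒬" => coequalizer (fst G H) ((G ◁ u) ≫ μ[G])
local notation "𝓅" => coequalizer.π (fst G H) ((G ◁ u) ≫ μ[G])

theorem s6050 [hQ : GrpObj 𝒬] (hπ : @IsMonHom D _ _ G 𝒬 _ hQ.toMonObj 𝓅) :
    Set.BijOn (Subobject.pullback 𝓅).obj
      {K' : Subobject 𝒬 | ∃ str : GrpObj (K' : D),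
        @IsMonHom D _ _ _ _ str.toMonObj hQ.toMonObj K'.arrow}
      {K : Subobject G | Subobject.mk u ≤ K ∧ ∃ str : GrpObj (K : D),
        @IsMonHom D _ _ _ _ str.toMonObj _ K.arrow} ∧
    ∀ (K' : Subobject 𝒬),
      ((∀ (Y : D) (g : Y ⟶ 𝒬) (k : Y ⟶ (K' : D)),
          ∃ k' : Y ⟶ (K' : D), g * (k ≫ K'.arrow) * g⁻¹ = k' ≫ K'.arrow) ↔
        (∀ (Y : D) (g : Y ⟶ G) (k : Y ⟶ ((Subobject.pullback 𝓅).obj K' : D)),
          ∃ k' : Y ⟶ ((Subobject.pullback 𝓅).obj K' : D),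
            g * (k ≫ ((Subobject.pullback 𝓅).obj K').arrow) * g⁻¹ =
              k' ≫ ((Subobject.pullback 𝓅).obj K').arrow)) := by
  haveI := hπ
  have hfac : ∀ (K' : Subobject 𝒬) {Y : D} (x : Y ⟶ G),
      ((Subobject.pullback 𝓅).obj K').Factors x ↔ K'.Factors (x ≫ 𝓅) :=
    fun K' Y x => pullback_factors_iff 𝓅 K' x
  have hUEE : Helper18.ShfCat.UEE D 𝓅 := uee_of_epi 𝓅
  have hA1 : ∀ K' : Subobject 𝒬, SubgrpPts K' → SubgrpPts ((Subobject.pullback 𝓅).obj K') := by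
    rintro K' ⟨h1, h2, h3⟩
    refine ⟨fun Y => ?_, fun Y x y hx hy => ?_, fun Y x hx => ?_⟩
    · rw [hfac, MonObj.one_comp]
      exact h1 Y
    · rw [hfac] at hx hy ⊢
      rw [MonObj.mul_comp]
      exact h2 Y _ _ hx hy
    · rw [hfac] at hx ⊢
      rw [GrpObj.inv_comp]
      exact h3 Y _ hx
  have hu1 : u ≫ 𝓅 = 1 := by
    have := mul_comp_π u (1 : H ⟶ G) (𝟙 H)
    rw [Category.id_comp, _root_.one_mul, MonObj.one_comp] at this
    exact this
  have hA3 : ∀ K : Subobject G, Subobject.mk u ≤ K → SubgrpPts K →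
      ∃ K' : Subobject 𝒬, SubgrpPts K' ∧ (Subobject.pullback 𝓅).obj K' = K := by
    rintro K hle ⟨h1, h2, h3⟩
    have hKu : K.Factors u := Subobject.factors_of_le _ hle (Subobject.mk_factors_self u)
    have hstab : (Subobject.pullback (fst G H)).obj K =
        (Subobject.pullback ((G ◁ u) ≫ μ[G])).obj K := by
      apply le_antisymm
      · have hf : ((Subobject.pullback ((G ◁ u) ≫ μ[G])).obj K).Factors
            ((Subobject.pullback (fst G H)).obj K).arrow := by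
          rw [pullback_factors_iff, comp_qb]
          refine h2 _ _ _ ?_ (Subobject.factors_of_factors_right _
            (Subobject.factors_of_factors_right _ hKu))
          rw [← pullback_factors_iff]
          exact Subobject.factors_self _
        exact Subobject.le_of_comm (Subobject.factorThru _ _ hf)
          (Subobject.factorThru_arrow _ _ hf)
      · have hf : ((Subobject.pullback (fst G H)).obj K).Factors
            ((Subobject.pullback ((G ◁ u) ≫ μ[G])).obj K).arrow := by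
          rw [pullback_factors_iff]
          obtain ⟨m, hm⟩ : ∃ m, m = ((Subobject.pullback ((G ◁ u) ≫ μ[G])).obj K).arrow :=
            ⟨_, rfl⟩
          rw [← hm]
          have hb : K.Factors (m ≫ (G ◁ u) ≫ μ[G]) := by
            rw [← pullback_factors_iff, hm]
            exact Subobject.factors_self _
          have hmm : m ≫ fst G H = (m ≫ (G ◁ u) ≫ μ[G]) * (m ≫ snd G H ≫ u)⁻¹ := by
            rw [comp_qb, mul_inv_cancel_right]
          rw [hmm]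
          exact h2 _ _ _ hb (h3 _ _ (Subobject.factors_of_factors_right _
            (Subobject.factors_of_factors_right _ hKu)))
        exact Subobject.le_of_comm (Subobject.factorThru _ _ hf)
          (Subobject.factorThru_arrow _ _ hf)
    have hrange := Helper18.ShfCat.subobject_pullback_range (kp u) (fun {Y} f => by
      obtain ⟨A, q, m, hm, hq, hqm⟩ := GoodCat.exists_factor f
      exact ⟨A, q, m, hm, uee_of_epi q, hqm⟩)
    have hK : K ∈ Set.range (Subobject.pullback 𝓅).obj := by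
      rw [hrange]
      exact hstab
    obtain ⟨K', rfl⟩ := hK
    refine ⟨K', ⟨fun Y => ?_, fun Y x y hx hy => ?_, fun Y x hx => ?_⟩, rfl⟩
    · have := h1 Y
      rw [hfac, MonObj.one_comp] at this
      exact this
    · obtain ⟨Y', c, x', y', hc, hx', hy'⟩ := local_lift₂ 𝓅 x y
      haveI := GoodCat.effectiveEpi_of_epi c hc
      apply Helper18.ShfCat.factors_of_effectiveEpi_comp K' c
      have hx'' : ((Subobject.pullback 𝓅).obj K').Factors x' := by
        rw [hfac, hx']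
        exact Subobject.factors_of_factors_right _ hx
      have hy'' : ((Subobject.pullback 𝓅).obj K').Factors y' := by
        rw [hfac, hy']
        exact Subobject.factors_of_factors_right _ hy
      have := h2 Y' x' y' hx'' hy''
      rw [hfac, MonObj.mul_comp, hx', hy', ← MonObj.comp_mul] at this
      exact this
    · obtain ⟨Y', c, x', hc, hx'⟩ := local_lift 𝓅 x
      haveI := GoodCat.effectiveEpi_of_epi c hc
      apply Helper18.ShfCat.factors_of_effectiveEpi_comp K' c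
      have hx'' : ((Subobject.pullback 𝓅).obj K').Factors x' := by
        rw [hfac, hx']
        exact Subobject.factors_of_factors_right _ hx
      have := h3 Y' x' hx''
      rw [hfac, GrpObj.inv_comp, hx', ← GrpObj.comp_inv] at this
      exact this
  refine ⟨⟨?_, ?_, ?_⟩, ?_⟩
  · intro K' hK'
    rw [Set.mem_setOf_eq, isSubgrp_iff_pts] at hK'
    refine ⟨?_, (isSubgrp_iff_pts _).mpr (hA1 K' hK')⟩
    have hf : ((Subobject.pullback 𝓅).obj K').Factors u := by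
      rw [hfac, hu1]
      exact hK'.1 H
    exact Subobject.mk_le_of_comm (Subobject.factorThru _ _ hf) (Subobject.factorThru_arrow _ _ hf)
  · exact (Helper18.ShfCat.subobject_pullback_injective 𝓅 hUEE).injOn
  · rintro K ⟨hle, hK⟩
    rw [isSubgrp_iff_pts] at hK
    obtain ⟨K', hK', rfl⟩ := hA3 K hle hK
    exact ⟨K', (isSubgrp_iff_pts K').mpr hK', rfl⟩
  · intro K'
    rw [normal_iff_pts, normal_iff_pts]
    constructor
    · intro hN Y g x hx
      rw [hfac] at hx ⊢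
      rw [MonObj.mul_comp, MonObj.mul_comp, GrpObj.inv_comp]
      exact hN Y _ _ hx
    · intro hN Y g x hx
      obtain ⟨Y', c, g', x', hc, hg', hx'⟩ := local_lift₂ 𝓅 g x
      haveI := GoodCat.effectiveEpi_of_epi c hc
      apply Helper18.ShfCat.factors_of_effectiveEpi_comp K' c
      have hx'' : ((Subobject.pullback 𝓅).obj K').Factors x' := by
        rw [hfac, hx']
        exact Subobject.factors_of_factors_right _ hx
      have := hN Y' g' x' hx''
      rw [hfac, MonObj.mul_comp, MonObj.mul_comp, GrpObj.inv_comp, hg', hx', ← GrpObj.comp_inv,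
        ← MonObj.comp_mul, ← MonObj.comp_mul] at this
      exact this

end Corr

end Groth.Agent.Helper5.ShGrp
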