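import Groth.Agent.Lib.Helper5.PhV
import Mathlib

set_option autoImplicit false
universe w u

namespace Groth.Agent.Helper5.Thick

open CategoryTheory CategoryTheory.Limits AlgebraicGeometry HTop Opposite
open Groth.Agent.Helper5.PhV

/-- A proper surjective morphism, on its own, is a ph covering. -/
theorem isPhCover_singleton_of_proper {X Y : Scheme.{u}} (f : Y ⟶ X) [IsProper f] [Surjective f] :
    IsPhCover (PreZeroHypercover.singleton.{w} f) := by
  refine ⟨fun _ => inferInstanceAs (LocallyOfFiniteType f), ?_⟩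
  intro U
  haveI : IsAffine ((U : X.Opens) : Scheme.{u}) := U.2
  haveI hpr : IsProper (f ∣_ (U : X.Opens)) := IsZariskiLocalAtTarget.restrict ‹IsProper f› _
  haveI hsu : Surjective (f ∣_ (U : X.Opens)) := IsZariskiLocalAtTarget.restrict ‹Surjective f› _
  haveI : CompactSpace ↥((f ⁻¹ᵁ (U : X.Opens) : Y.Opens) : Scheme.{u}) :=
    QuasiCompact.compactSpace_of_compactSpace (f ∣_ (U : X.Opens))
  obtain ⟨n, W, hW, hcov⟩ := exists_finite_affine_cover_compact
    ((f ⁻¹ᵁ (U : X.Opens) : Y.Opens) : Scheme.{u})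
  refine ⟨⟨Fin n, fun k => (W k : Scheme.{u}), fun k => (W k).ι ≫ (f ∣_ (U : X.Opens))⟩,
    isStandardPh_of_proper (f ∣_ (U : X.Opens)) W hW hcov, ?_⟩
  intro k
  refine ⟨⟨⟩, (W k).ι ≫ (f ⁻¹ᵁ (U : X.Opens)).ι, ?_⟩
  show ((W k).ι ≫ (f ⁻¹ᵁ (U : X.Opens)).ι) ≫ f = ((W k).ι ≫ (f ∣_ (U : X.Opens))) ≫ (U : X.Opens).ι
  rw [Category.assoc, Category.assoc, morphismRestrict_ι]

/-- A sheaf on the big site over `S` takes the same sections along a monomorphism which is,
on its own, a covering. -/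
theorem bijective_of_mono_cover {S : Scheme.{u}} (J : GrothendieckTopology Scheme.{u})
    (F : Sheaf (J.over S) (Type (u + 1))) {X X' : Over S} (f : X ⟶ X') [Mono f.left]
    (hcov : Sieve.generate (Presieve.singleton f.left) ∈ J X'.left) :
    Function.Bijective (F.obj.map f.op) := by
  have hcov' : Sieve.generate (Presieve.singleton f) ∈ (J.over S) X' := by
    rw [GrothendieckTopology.mem_over_iff, Sieve.overEquiv_generate]
    refine J.superset_covering ?_ hcov
    rw [Sieve.generate_le_iff]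
    rintro Z g ⟨⟩
    exact Sieve.le_generate _ _ _ ⟨X, f, 𝟙 _, Presieve.singleton.mk, by simp⟩
  have hsh : Presieve.IsSheafFor F.obj (Presieve.singleton f) := by
    rw [Presieve.isSheafFor_iff_generate]
    exact ((isSheaf_iff_isSheaf_of_type _ _).1 F.cond) _ hcov'
  rw [Presieve.isSheafFor_singleton] at hsh
  haveI : Mono f := Over.mono_of_mono_left f
  refine ⟨fun a b hab => ?_, fun x => ?_⟩
  · obtain ⟨y, hy, huniq⟩ := hsh (F.obj.map f.op a) (fun p₁ p₂ h => by rw [(cancel_mono f).1 h])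
    exact (huniq a rfl).trans (huniq b hab.symm).symm
  · obtain ⟨y, hy, -⟩ := hsh x (fun p₁ p₂ h => by rw [(cancel_mono f).1 h])
    exact ⟨y, hy⟩

end Groth.Agent.Helper5.Thick
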