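import Groth.Agent.Lib.Helper5.HTopLib
import Groth.Agent.S7471
import Mathlib

set_option autoImplicit false
universe w w' w'' u

namespace Groth.Agent.Helper5.VSheaf

open CategoryTheory CategoryTheory.Limits AlgebraicGeometry HTop Opposite

/-- Standard V coverings are invariant under reindexing along an equivalence. -/
theorem isStandardV_reindex {T : Scheme.{u}} (E : PreZeroHypercover.{w} T) {ι : Type w'}
    (e : ι ≃ E.I₀) (hE : IsStandardV E) : IsStandardV (E.reindex e) := by
  refine ⟨hE.isAffine, ?_, fun k => hE.isAffine_obj (e k), ?_⟩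
  · haveI := hE.finite_index
    exact Finite.of_equiv _ e.symm
  · intro V _ _ g
    obtain ⟨W, i1, i2, φ, hφ, j, g', hg'⟩ := hE.lift V g
    obtain ⟨k, rfl⟩ := e.surjective j
    exact ⟨W, i1, i2, φ, hφ, k, g', hg'⟩

/-- A standard V covering is a V covering. -/
theorem isVCover_of_isStandardV {T : Scheme.{u}} (E : PreZeroHypercover.{w} T)
    (hE : IsStandardV E) : IsVCover E := by
  intro U
  haveI : IsAffine ((U : T.Opens) : Scheme.{u}) := U.2
  have hP : IsStandardV (E.pullback₁ (U : T.Opens).ι) := Groth.Agent.S7469.result _ E hE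
  haveI := hE.finite_index
  let e : Fin (Nat.card E.I₀) ≃ E.I₀ := (Finite.equivFin E.I₀).symm
  refine ⟨(E.pullback₁ (U : T.Opens).ι).reindex e, isStandardV_reindex (E.pullback₁ (U : T.Opens).ι) e hP, ?_⟩
  intro k
  exact ⟨e k, pullback.snd _ _, pullback.condition.symm⟩

/-- Finite affine open cover of an affine scheme subordinate to a given open cover. -/
theorem exists_finite_affine_cover_le {T' : Scheme.{u}} [IsAffine T'] {ι : Type w'}
    (O : ι → T'.Opens) (hO : ∀ x : T', ∃ i, x ∈ O i) :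
    ∃ (n : ℕ) (W : Fin n → T'.Opens) (a : Fin n → ι),
      (∀ k, IsAffineOpen (W k)) ∧ (∀ x : T', ∃ k, x ∈ W k) ∧ ∀ k, W k ≤ O (a k) := by
  choose i hi using hO
  have h2 : ∀ x : T', ∃ W : T'.Opens, IsAffineOpen W ∧ x ∈ W ∧ W ≤ O (i x) := by
    intro x
    obtain ⟨W, hW, hx, hsub⟩ := exists_isAffineOpen_mem_and_subset
      (X := T') (x := x) (U := O (i x)) (hi x)
    exact ⟨W, hW, hx, hsub⟩
  choose W hW hxW hWO using h2
  obtain ⟨t, ht⟩ := isCompact_univ.elim_finite_subcover (fun x => ((W x : T'.Opens) : Set T'))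
    (fun x => (W x).2) (fun x _ => Set.mem_iUnion.2 ⟨x, hxW x⟩)
  let e : Fin t.card ≃ t := t.equivFin.symm
  refine ⟨t.card, fun k => W (e k), fun k => i (e k), fun k => hW _, ?_, fun k => hWO _⟩
  intro x
  have := ht (Set.mem_univ x)
  simp only [Set.mem_iUnion] at this
  obtain ⟨y, hy, hxy⟩ := this
  refine ⟨e.symm ⟨y, hy⟩, ?_⟩
  simpa using hxy

/-- A Zariski covering is a V covering. -/
theorem isVCover_of_openCover {X : Scheme.{u}}
    (𝒰 : Scheme.Cover.{w} (Scheme.precoverage @IsOpenImmersion) X) :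
    IsVCover 𝒰.toPreZeroHypercover := by
  intro U
  haveI : IsAffine ((U : X.Opens) : Scheme.{u}) := U.2
  haveI : ∀ i, IsOpenImmersion (𝒰.f i) := fun i => 𝒰.map_prop i
  obtain ⟨n, W, a, hW, hcov, hWO⟩ := exists_finite_affine_cover_le
    (T' := ((U : X.Opens) : Scheme.{u}))
    (fun i : 𝒰.I₀ => (U : X.Opens).ι ⁻¹ᵁ (𝒰.f i).opensRange) (by
      intro x
      obtain ⟨i, y, hy⟩ := 𝒰.exists_eq ((U : X.Opens).ι x)
      exact ⟨i, y, hy⟩)
  have hr : ∀ k, Set.range ((W k).ι ≫ (U : X.Opens).ι) ⊆ Set.range (𝒰.f (a k)) := by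
    intro k
    rintro _ ⟨x, rfl⟩
    exact hWO k x.2
  refine ⟨⟨Fin n, fun k => (W k : Scheme.{u}), fun k => (W k).ι⟩,
    Groth.Agent.Helper5.HTopLib.isStandardV_of_opens W hW hcov, ?_⟩
  intro k
  exact ⟨a k, IsOpenImmersion.lift (𝒰.f (a k)) ((W k).ι ≫ (U : X.Opens).ι) (hr k),
    IsOpenImmersion.lift_fac _ _ _⟩

/-- V coverings are stable under enlarging along a morphism of families. -/
theorem isVCover_of_hom {T : Scheme.{u}} {E : PreZeroHypercover.{w} T}
    {E' : PreZeroHypercover.{w'} T} (φ : E.Hom E') (hE : IsVCover E) : IsVCover E' := by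
  intro U
  obtain ⟨G, hG, hGE⟩ := hE U
  exact ⟨G, hG, hGE.of_hom φ⟩

theorem isVCover_pullback₂ {T T' : Scheme.{u}} (g : T' ⟶ T) (E : PreZeroHypercover.{w} T)
    (hE : IsVCover E) : IsVCover (E.pullback₂ g) :=
  isVCover_of_hom (E.pullbackIso g).hom (Groth.Agent.S7471.result g E hE)

section core

variable (F : Scheme.{u}ᵒᵖ ⥤ Type w)

theorem zariski_of_isVSheaf (hV : IsVSheaf F) : Presieve.IsSheaf Scheme.zariskiTopology F := by
  rw [Precoverage.isSheaf_toGrothendieck_iff_of_isStableUnderBaseChange]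
  intro Y R hR
  obtain ⟨𝒰, rfl⟩ := Scheme.exists_cover_of_mem_pretopology hR
  exact hV _ ((presieve₀_mem_vPrecoverage_iff 𝒰.toPreZeroHypercover).2 (isVCover_of_openCover 𝒰))

theorem zar_ext (hzar : Presieve.IsSheaf Scheme.zariskiTopology F) {Y : Scheme.{u}}
    (t₁ t₂ : F.obj (op Y))
    (h : ∀ i, F.map (Y.affineCover.f i).op t₁ = F.map (Y.affineCover.f i).op t₂) : t₁ = t₂ := by
  refine (hzar.isSeparated _ Y.affineCover.mem_grothendieckTopology).ext ?_
  rintro Z g ⟨W, a, b, ⟨i⟩, rfl⟩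
  rw [op_comp, FunctorToTypes.map_comp_apply, FunctorToTypes.map_comp_apply, h i]

theorem sep_pullback (hzar : Presieve.IsSheaf Scheme.zariskiTopology F)
    (hsep : ∀ (T : Scheme.{u}) (G : PreZeroHypercover.{0} T), IsStandardV G →
      Presieve.IsSeparatedFor F G.presieve₀)
    {T : Scheme.{u}} (G : PreZeroHypercover.{0} T) (hG : IsStandardV G) {S : Scheme.{u}}
    (f : S ⟶ T) :
    Presieve.IsSeparatedFor F ((Sieve.generate G.presieve₀).pullback f).arrows := by
  intro x t₁ t₂ h₁ h₂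
  apply zar_ext F hzar
  intro i
  have hP : IsStandardV (G.pullback₁ (S.affineCover.f i ≫ f)) :=
    Groth.Agent.S7469.result (S.affineCover.f i ≫ f) G hG
  refine (hsep _ _ hP).ext ?_
  rintro Z g ⟨j⟩
  change F.map (pullback.fst (S.affineCover.f i ≫ f) (G.f j)).op _ =
    F.map (pullback.fst (S.affineCover.f i ≫ f) (G.f j)).op _
  have hmem : ((Sieve.generate G.presieve₀).pullback f).arrows
      (pullback.fst (S.affineCover.f i ≫ f) (G.f j) ≫ S.affineCover.f i) := by
    refine ⟨_, pullback.snd (S.affineCover.f i ≫ f) (G.f j), G.f j, ⟨j⟩, ?_⟩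
    rw [Category.assoc]
    exact pullback.condition.symm
  have e₁ := h₁ _ hmem
  have e₂ := h₂ _ hmem
  rw [← FunctorToTypes.map_comp_apply, ← op_comp, ← FunctorToTypes.map_comp_apply, ← op_comp,
    e₁, e₂]

theorem sheafFor_affine (hzar : Presieve.IsSheaf Scheme.zariskiTopology F)
    (hstd : ∀ (T : Scheme.{u}) (G : PreZeroHypercover.{0} T), IsStandardV G →
      Presieve.IsSheafFor F G.presieve₀)
    {X : Scheme.{u}} [IsAffine X] (E : PreZeroHypercover.{w'} X) (hE : IsVCover E) :
    Presieve.IsSheafFor F E.presieve₀ := by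
  obtain ⟨G, hG, hGE⟩ := Groth.Agent.Helper5.HTopLib.exists_standardV_refinesOver (𝟙 X) E hE
  rw [Presieve.isSheafFor_iff_generate]
  refine Presieve.isSheafFor_subsieve_aux F (S := Sieve.generate G.presieve₀) ?_ ?_ ?_
  · intro Z g hg
    obtain ⟨W, a, b, ⟨j⟩, rfl⟩ := hg
    obtain ⟨i, h, hh⟩ := hGE j
    exact ⟨_, a ≫ h, E.f i, ⟨i⟩, by rw [Category.assoc, hh, Category.comp_id]⟩
  · rw [← Presieve.isSheafFor_iff_generate]
    exact hstd _ G hG
  · intro Y f _
    exact sep_pullback F hzar (fun T G hG => (hstd T G hG).isSeparatedFor) G hG f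

theorem sheafFor_of_isVCover (hzar : Presieve.IsSheaf Scheme.zariskiTopology F)
    (hstd : ∀ (T : Scheme.{u}) (G : PreZeroHypercover.{0} T), IsStandardV G →
      Presieve.IsSheafFor F G.presieve₀)
    {X : Scheme.{u}} (E : PreZeroHypercover.{w'} X) (hE : IsVCover E) :
    Presieve.IsSheafFor F E.presieve₀ := by
  refine X.affineOneHypercover.isSheafFor_of_pullback hzar ?_ ?_
  · intro i
    rw [← Sieve.pullbackArrows_comm, ← PreZeroHypercover.presieve₀_pullback₁,
      ← Presieve.isSheafFor_iff_generate]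
    haveI : IsAffine (X.affineOneHypercover.X i) := inferInstanceAs (IsAffine (Spec _))
    exact sheafFor_affine F hzar hstd _ (isVCover_pullback₂ _ E hE)
  · intro i j k
    rw [← Sieve.pullbackArrows_comm, ← PreZeroHypercover.presieve₀_pullback₁,
      ← Presieve.isSeparatedFor_iff_generate]
    haveI : IsAffine (X.affineOneHypercover.Y k) := inferInstanceAs (IsAffine (Spec _))
    exact (sheafFor_affine F hzar hstd _ (isVCover_pullback₂ _ E hE)).isSeparatedFor

/-- The sheaf property for all standard V coverings follows from the single-arrow ones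
(for a Zariski sheaf). -/
theorem sheafFor_of_singleton (hzar : Presieve.IsSheaf Scheme.zariskiTopology F)
    (hsing : ∀ (U V : Scheme.{u}) (f : V ⟶ U),
      IsStandardV (PreZeroHypercover.singleton.{w'} f) → Presieve.IsSheafFor F (Presieve.singleton f))
    {T : Scheme.{u}} (G : PreZeroHypercover.{0} T) (hG : IsStandardV G) :
    Presieve.IsSheafFor F G.presieve₀ := by
  haveI := hG.finite_index
  haveI := hG.isAffine
  haveI : ∀ j, IsAffine (G.X j) := hG.isAffine_obj
  have : PreservesLimitsOfShape (Discrete (G.I₀ × G.I₀)) F :=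
    preservesLimitsOfShape_discrete_of_isSheaf_zariskiTopology hzar
  have : PreservesLimitsOfShape (Discrete G.I₀) F :=
    preservesLimitsOfShape_discrete_of_isSheaf_zariskiTopology hzar
  show Presieve.IsSheafFor F (Presieve.ofArrows G.X G.f)
  rw [← Presieve.isSheafFor_sigmaDesc_iff G.f (coproductIsCoproduct _)
    (FinitaryExtensive.isVanKampen_finiteCoproducts (coproductIsCoproduct _)).isUniversal]
  apply hsing
  refine ⟨inferInstance, inferInstance, fun _ => ?_, ?_⟩
  · show IsAffine (∐ G.X)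
    infer_instance
  · intro V _ _ g
    obtain ⟨W, i1, i2, φ, hφ, j, g', hg'⟩ := hG.lift V g
    refine ⟨W, i1, i2, φ, hφ, ⟨⟩, g' ≫ Sigma.ι G.X j, ?_⟩
    show (g' ≫ Sigma.ι G.X j) ≫ Cofan.IsColimit.desc (coproductIsCoproduct G.X) G.f = _
    rw [Category.assoc]
    have := Cofan.IsColimit.fac (coproductIsCoproduct G.X) G.f j
    change Sigma.ι G.X j ≫ _ = _ at this
    rw [this, hg']

end core

end Groth.Agent.Helper5.VSheaf
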